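import Cfsg.Agent.H35.BlkExt
import Cfsg.Agent.H35.Principal
import Cfsg.Agent.H6.Ito

/-! The number of irreducible characters of `p'`-degree when `p` divides `|G|` exactly once. -/

set_option autoImplicit false
set_option linter.unusedSectionVars false

namespace Cfsg.Agent.H35

open Subgroup Cfsg

namespace Setup

variable {G : Type*} [Group G] [Finite G] {p : ℕ} [hp : Fact p.Prime] (S : Setup G p)

/-- the contribution of `θ` to the number of characters of `p'`-degree -/
noncomputable def wt (θ : S.V → ℂ) : ℚ :=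
  (Nat.card (S.autH θ) + ((p - 1 : ℕ) : ℚ) / Nat.card (S.autH θ)) / (S.inertia θ).index

open Classical in
theorem card_filter_psi {χ : IrrCharacter G} {θ : IrrCharacter S.V} {i : ZMod p} (hi : i ≠ 0)
    (h : S.psi θ χ i ≠ 0) :
    (Finset.univ.filter fun θ' : IrrCharacter S.V => ∃ j, j ≠ 0 ∧ S.psi θ' χ j ≠ 0).card =
      (S.inertia θ).index := by
  let f : S.K → IrrCharacter S.V := fun k => ⟨S.cj θ k, S.isIrr_cj θ.2 k⟩
  have h1 := Finset.card_eq_sum_card_fiberwise (f := f) (s := Finset.univ)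
    (t := Finset.univ.filter fun θ' : IrrCharacter S.V => ∃ j, j ≠ 0 ∧ S.psi θ' χ j ≠ 0)
    fun k _ => by
      simp only [Finset.coe_filter, Finset.mem_univ, true_and, Set.mem_ofPred_eq]
      refine ⟨(S.κ k)⁻¹ * i, mul_ne_zero (Units.ne_zero _) hi, ?_⟩
      rw [← S.psi_conj θ (H5.isClassFunction_of_isIrr χ.2), Units.mul_inv_cancel_left]
      exact h
  rw [Finset.sum_congr rfl (g := fun _ => Nat.card (S.inertia θ)) fun θ' hθ' => by
    obtain ⟨j, hj, h'⟩ := (Finset.mem_filter.mp hθ').2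
    obtain ⟨k₀, hk₀⟩ := S.exists_cj_eq θ'.2 θ.2 χ.2 hj hi h' h
    rw [← Fintype.card_subtype, ← Nat.card_eq_fintype_card]
    refine Nat.card_congr ((Equiv.mulRight k₀⁻¹).subtypeEquiv fun k => ?_)
    rw [Subtype.ext_iff, ← hk₀, Equiv.coe_mulRight, mem_inertia]
    constructor
    · intro e
      rw [cj_mul, show S.cj θ k = _ from e, ← cj_mul, mul_inv_cancel, cj_one]
    · intro e
      conv_rhs => rw [← e, ← cj_mul, inv_mul_cancel_right], Finset.sum_const, smul_eq_mul,
    Finset.card_univ, ← Nat.card_eq_fintype_card, ← (S.inertia θ).index_mul_card] at h1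
  exact (Nat.eq_of_mul_eq_mul_right Nat.card_pos h1).symm

theorem card_coprime_degree :
    (Nat.card {χ : IrrCharacter G // ¬ p ∣ charDegree (χ : G → ℂ)} : ℚ) =
      ∑ θ : IrrCharacter S.V, S.wt θ := by
  classical
  have h1 : ∀ θ : IrrCharacter S.V, S.wt θ = ∑ χ : IrrCharacter G,
      if ∃ j, j ≠ 0 ∧ S.psi θ χ j ≠ 0 then ((S.inertia θ).index : ℚ)⁻¹ else 0 := fun θ => by
    obtain ⟨B, -⟩ := S.exists_blk θ.2 (triv G)
    rw [← Finset.sum_filter, Finset.sum_const, nsmul_eq_mul, show Finset.univ.filter _ = B.X ∪ B.Y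
      from Finset.ext fun χ => by
        simp only [Finset.mem_filter, Finset.mem_univ, true_and, Finset.mem_union]
        exact ⟨fun ⟨j, hj, h⟩ => B.mem_of_psi_ne_zero hj h, B.exists_psi_ne_zero⟩,
      Finset.card_union_of_disjoint B.disj, wt, ← B.cardY, B.cardX, div_eq_mul_inv]
    push_cast
    rw [mul_div_cancel_right₀ _ (by exact_mod_cast Nat.card_pos.ne')]
  rw [Finset.sum_congr rfl fun θ _ => h1 θ, Finset.sum_comm, Nat.card_eq_fintype_card,
    Fintype.card_subtype, Finset.card_filter]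
  push_cast
  refine Finset.sum_congr rfl fun χ _ => ?_
  rw [← Finset.sum_filter]
  split_ifs with h
  · rw [Finset.filter_false_of_mem, Finset.sum_empty]
    rintro θ - ⟨j, hj, h'⟩
    obtain ⟨B, -⟩ := S.exists_blk θ.2 (triv G)
    exact B.not_dvd_degree θ.2 (B.mem_of_psi_ne_zero hj h') (cast_degree_irr χ) h
  · obtain ⟨θ, i, hi, h'⟩ := S.exists_psi_ne_zero (H5.isCharacter_of_isIrr χ.2) h
    rw [Finset.sum_congr rfl fun θ' hθ' => by
      obtain ⟨j, hj, h''⟩ := (Finset.mem_filter.mp hθ').2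
      rw [← S.card_filter_psi hj h''], Finset.sum_const, nsmul_eq_mul, mul_inv_cancel₀]
    rw [S.card_filter_psi hi h']
    exact_mod_cast index_ne_zero_of_finite

theorem sum_wt_eq {H : Type*} [Group H] [Finite H] (T : Setup H p) (f : S.K ≃* T.K)
    (hf : ∀ k, T.κ (f k) = S.κ k) :
    ∑ θ : IrrCharacter S.V, S.wt θ = ∑ θ : IrrCharacter T.V, T.wt θ := by
  let g : S.V ≃* T.V := MulEquiv.mk ((f : S.K ≃ T.K).subtypeEquiv fun k => by
    simp [MonoidHom.mem_ker, hf]) fun a b => Subtype.ext (map_mul f _ _)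
  symm
  refine Fintype.sum_equiv ⟨fun θ => ⟨fun v => θ.1 (g v), H5.isIrrCharacter_comp_equiv θ.2 g⟩,
    fun θ => ⟨fun v => θ.1 (g.symm v), H5.isIrrCharacter_comp_equiv θ.2 g.symm⟩,
    fun θ => by simp, fun θ => by simp⟩ _ _ fun θ => ?_
  have h1 : S.inertia (fun v => θ.1 (g v)) = (T.inertia θ).comap f.toMonoidHom := by
    ext k
    rw [mem_comap, mem_inertia, mem_inertia, funext_iff, funext_iff, g.surjective.forall]
    refine forall_congr' fun v => Iff.of_eq (congrArg (θ.1 · = _) (Subtype.ext ?_))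
    simp [g]
  have h2 : S.autH (fun v => θ.1 (g v)) = T.autH θ := by
    rw [autH, autH, h1, show S.κ = T.κ.comp f.toMonoidHom from MonoidHom.ext fun k => (hf k).symm,
      ← map_map, map_comap_eq_self_of_surjective f.surjective]
  simp only [Equiv.coe_fn_mk, wt, h1, h2,
    index_comap_of_surjective _ (f := f.toMonoidHom) f.surjective]

/-- the setup for a subgroup containing the normalizer -/
def sub (N : Subgroup G) (hN : normalizer ((zpowers S.x : Subgroup G) : Set G) ≤ N) : Setup N p where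
  x := ⟨S.x, hN (le_normalizer (mem_zpowers _))⟩
  hx := by rw [← orderOf_coe]; exact S.hx
  hsq := fun h => S.hsq (h.trans N.card_subgroup_dvd_card)
  K := S.K.subgroupOf N
  κ := S.κ.comp (subgroupOfEquivOfLe fun k hk => hN (S.K_mem ⟨k, hk⟩)).toMonoidHom
  conj k := Subtype.ext (S.conj ⟨k, k.2⟩)
  decomp n hn := by
    obtain ⟨u, hu, k, e⟩ := S.decomp n (by
      rw [mem_normalizer_zpowers_iff] at hn ⊢
      obtain ⟨m, hm⟩ := hn
      exact ⟨m, congrArg Subtype.val hm⟩)
    obtain ⟨m, rfl⟩ := hu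
    exact ⟨_, ⟨m, rfl⟩, ⟨⟨k, hN (S.K_mem k)⟩, k.2⟩, Subtype.ext e⟩
  cop := by
    rw [Nat.card_congr (subgroupOfEquivOfLe fun k hk => hN (S.K_mem ⟨k, hk⟩)).toEquiv]
    exact S.cop

theorem card_coprime_degree_eq (N : Subgroup G)
    (hN : normalizer ((zpowers S.x : Subgroup G) : Set G) ≤ N) :
    Nat.card {χ : IrrCharacter G // ¬ p ∣ charDegree (χ : G → ℂ)} =
      Nat.card {χ : IrrCharacter N // ¬ p ∣ charDegree (χ : N → ℂ)} := by
  apply Nat.cast_injective (R := ℚ)
  rw [S.card_coprime_degree, (S.sub N hN).card_coprime_degree]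
  exact ((S.sub N hN).sum_wt_eq S (subgroupOfEquivOfLe fun k hk => hN (S.K_mem ⟨k, hk⟩))
    fun _ => rfl).symm

end Setup

end Cfsg.Agent.H35
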