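import Cfsg.Agent.H35.AltEq
import Cfsg.Agent.H7.Galois
import Cfsg.Agent.H9.SLBasic

/-! Feit's theorem on groups with a faithful irreducible character of degree `p - 2`. -/

set_option autoImplicit false
set_option linter.unusedSectionVars false

namespace Cfsg.Agent.H35

open Subgroup Finset Cfsg
open scoped MatrixGroups

theorem exists_coprime_modEq {N r a : ℕ} (hN : N ≠ 0) (hr : r ∣ N) (ha : a.Coprime r) :
    ∃ n, n.Coprime N ∧ n ≡ a [MOD r] := by
  have : NeZero N := ⟨hN⟩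
  obtain ⟨u, hu⟩ := ZMod.unitsMap_surjective hr (ZMod.unitOfCoprime a ha)
  refine ⟨(u : ZMod N).val, ZMod.val_coe_unit_coprime u, (ZMod.natCast_eq_natCast_iff _ _ _).mp ?_⟩
  simpa [ZMod.unitsMap_def] using congrArg Units.val hu

theorem pow_degree_of_mem_center {G : Type*} [Group G] [Finite G] (hG : commutator G = ⊤)
    {ζ : G → ℂ} (hζ : IsIrrCharacter G ζ) (hf : ∀ g : G, ζ g = ζ 1 → g = 1) {z : G}
    (hz : z ∈ center G) : z ^ charDegree ζ = 1 := by
  have hc := H5.isCharacter_of_isIrr hζ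
  obtain ⟨lam, h⟩ := H88.exists_eigenvalues_det hc
  obtain ⟨μ, h1, h2, h3⟩ := h z
  have h4 := H5.eq_of_norm_sum_eq_card μ
    (fun i => H5.norm_eq_one_of_pow_eq_one' (orderOf_pos z).ne' (h1 i)) (by
      have := h2 1
      simp only [pow_one] at this
      simp [← this, H5.norm_apply_of_mem_center hζ hz, cast_degree hc])
  rw [H88.monoidHom_eq_one_of_mem_commutator lam (hG ▸ mem_top z)] at h3
  refine hf _ ?_
  rw [h2, cast_degree hc, sum_congr rfl fun i _ => show μ i ^ charDegree ζ = 1 by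
    rw [← Units.val_one, ← h3, prod_congr rfl fun j _ => h4 j i]; simp]
  simp

namespace Setup

variable {G : Type*} [Group G] [Finite G] {p : ℕ} [hp : Fact p.Prime] (S : Setup G p)

theorem pm2_blk {χ : IrrCharacter G} (hf : ∀ g : G, (χ : G → ℂ) g = (χ : G → ℂ) 1 → g = 1)
    (hd : charDegree (χ : G → ℂ) + 2 = p) (he : S.V.index ≠ 1) :
    S.V.index = 2 ∧ (∀ v : S.V, ((v : S.K) : G) ∈ center G) ∧
      ∃ (θ : IrrCharacter S.V) (B : S.Blk θ), χ ∈ B.Y ∧ B.ε = -1 ∧ S.inertia θ = ⊤ ∧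
        charDegree (θ : S.V → ℂ) = 1 ∧
        ∀ v : S.V, (χ : G → ℂ) (v : S.K) = charDegree (χ : G → ℂ) * (θ : S.V → ℂ) v := by
  obtain ⟨θ, B, hY, ⟨-, h⟩ | ⟨h1, h2, h3, h4, h5⟩⟩ := S.below_pred (χ := χ) (by omega)
    fun e => hp.out.ne_one (by rw [← S.hx, hf _ e, orderOf_one])
  · have := S.index_dvd_pred
    rw [show p - 1 = charDegree (χ : G → ℂ) + 1 by omega, h, Nat.dvd_add_right (dvd_mul_right _ _),
      Nat.dvd_one] at this
    exact absurd this he
  refine ⟨by omega, fun v => mem_center_of_norm (H5.isCharacter_of_isIrr χ.2) hf ?_,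
    θ, B, hY, h1, h2, h3, h5⟩
  obtain ⟨lam, hl⟩ := H5.exists_monoidHom_of_degree_one (H5.isCharacter_of_isIrr θ.2)
    (by rw [cast_degree_irr, h3, Nat.cast_one])
  rw [h5, norm_mul, hl, H5.norm_monoidHom, mul_one, cast_degree_irr]

include S in
theorem exists_altEq (hG : commutator G = ⊤) {ζ : G → ℂ} (hζ : IsIrrCharacter G ζ)
    (hf : ∀ g : G, ζ g = ζ 1 → g = 1) (hd : charDegree ζ + 2 = p) (h5 : 5 < p) :
    ∃ m n, AltEq p m n ζ := by
  classical
  have hc := H5.isCharacter_of_isIrr hζ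
  obtain ⟨m, hm⟩ := hp.out.odd_of_ne_two (by omega)
  obtain ⟨m, rfl⟩ : ∃ k, m = k + 1 := ⟨m - 1, by omega⟩
  obtain ⟨n, hn, hn2⟩ := exists_coprime_modEq Nat.card_pos.ne'
    (Nat.gcd_dvd_right (charDegree ζ) (Nat.card G))
    ((Nat.coprime_two_left.mpr ⟨m, by omega⟩).coprime_dvd_right (Nat.gcd_dvd_left _ _))
  obtain ⟨he, hV, θ, B, hY, hε, hI, hθ, hv⟩ := S.pm2_blk (χ := ⟨ζ, hζ⟩) hf hd (S.index_ne_one hG)
  have hd' : charDegree (fun g => ζ (g ^ n)) = charDegree ζ := by simp [charDegree]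
  obtain ⟨-, -, θ', B', hY', hε', hI', -, hv'⟩ :=
    S.pm2_blk (χ := ⟨_, H7.isIrrCharacter_comp_pow hn hζ⟩)
      (fun g hg => orderOf_eq_one_iff.mp (Nat.eq_one_of_dvd_coprimes hn
        (orderOf_dvd_of_pow_eq_one (hf _ (by simpa using hg))) (orderOf_dvd_natCard g)))
      (hd'.symm ▸ hd) (S.index_ne_one hG)
  have h1 : ∀ v, (θ : S.V → ℂ) (v * v) = (θ' : S.V → ℂ) v := fun v => by
    have h2 : ((v : S.K) : G) ^ n = (v : S.K) ^ 2 := pow_eq_pow_iff_modEq.mpr (hn2.of_dvd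
      (Nat.dvd_gcd (orderOf_dvd_of_pow_eq_one (pow_degree_of_mem_center hG hζ hf (hV v)))
        (orderOf_dvd_natCard _)))
    have h3 := hv' v
    simp only [hd', h2, sq] at h3
    exact mul_left_cancel₀ (Nat.cast_ne_zero.mpr (by omega : charDegree ζ ≠ 0)) ((hv (v * v)).symm.trans h3)
  refine ⟨m, n, hc, hf, by omega, by rw [cast_degree hc]; congr 1; omega, hn, fun g hg => ?_⟩
  rw [B'.alt_sq θ'.2 hI' he hε' hY' (by rw [hd']; omega) hc (by omega) (B.α ⟨ζ, hζ⟩) (μ := θ)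
    (fun v => by
      rw [← h1, H5.map_mul_of_degree_one (H5.isCharacter_of_isIrr θ.2)
        (by rw [cast_degree_irr, hθ, Nat.cast_one]), sq]) h1 (fun i hi v => by
      have := B.valY_inv θ.2 hI hY hi v
      rw [sum_card_two _ ((card_autH_of_top (H5.isClassFunction_of_isIrr θ.2) hI).trans he)
        fun h => ech p (B.α ⟨ζ, hζ⟩ * h * i), hε] at this
      simpa using this) hg, hm]
  push_cast
  ring

theorem not_dvd_of_invol (hV : ∀ v : S.V, ((v : S.K) : G) ^ (p - 2) = 1) (hp2 : p ≠ 2) {c t : G}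
    (ht : orderOf t = 2) (hc : Commute c t) : ¬ p ∣ orderOf c := fun h => by
  have h1 : ∀ g : G, p ∣ orderOf g → g ^ (p * (p - 2)) = 1 := fun g hg => by
    obtain ⟨k, i, v, -, e⟩ := S.exists_conj_xp_mul hg
    rw [← conj_eq_one_iff (a := k), ← conj_pow, e, (S.commute_xp i v).mul_pow, pow_mul, xp_pow,
      pow_mul', hV]
    simp [xp_zero]
  have h2 : t ^ 2 = 1 := ht ▸ pow_orderOf_eq_one t
  have h3 := h1 (c * t) (Nat.Coprime.dvd_of_dvd_mul_right
    ((Nat.coprime_primes hp.out Nat.prime_two).mpr hp2) (h.trans (orderOf_dvd_of_pow_eq_one (by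
      rw [pow_mul', show c ^ 2 = (c * t) ^ 2 by rw [hc.mul_pow, h2, mul_one], ← pow_mul, pow_mul',
        pow_orderOf_eq_one, one_pow]))))
  rw [hc.mul_pow, h1 c h, one_mul, ← orderOf_dvd_iff_pow_eq_one, ht] at h3
  have h4 := hp.out.odd_of_ne_two hp2
  exact (h4.mul (Nat.Odd.sub_even hp.out.two_le h4 even_two)).not_two_dvd_nat h3

include S in
theorem sl2_of_pm2 (hG : commutator G = ⊤) {ζ : G → ℂ} (hζ : IsIrrCharacter G ζ)
    (hf : ∀ g : G, ζ g = ζ 1 → g = 1) (hd : charDegree ζ + 2 = p) (h5 : 5 < p) :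
    center G = ⊥ ∧ ∃ (a : ℕ) (F : Type) (_ : Field F) (_ : Fintype F), p = 2 ^ a + 1 ∧
      Fintype.card F = 2 ^ a ∧ Nonempty (G ≃* SL(2, F)) := by
  classical
  have hc := H5.isCharacter_of_isIrr hζ
  have hp2 : p ≠ 2 := by omega
  obtain ⟨m, n, h⟩ := S.exists_altEq hG hζ hf hd h5
  obtain ⟨he, hV, -⟩ := S.pm2_blk (χ := ⟨ζ, hζ⟩) hf hd (S.index_ne_one hG)
  have hZ : ∀ z ∈ center G, z ^ (p - 2) = 1 := fun z hz => by
    rw [← pow_degree_of_mem_center hG hζ hf hz, ← hd, Nat.add_sub_cancel]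
  have h1 := @S.not_dvd_of_invol _ _ _ _ _ (fun v => hZ _ (hV v)) hp2
  have h2 : ∀ c t : G, orderOf t = 2 → Commute c t → c * c ∈ center G := fun c t ht hc => by
    rw [← sq]
    refine h.mem_center hp2 hζ ht (hc.pow_left 2) (Nat.not_even_iff_odd.mp fun e => ?_)
      (h1 ht (hc.pow_left 2))
    have a1 : 4 ∣ orderOf c := by
      rw [orderOf_pow] at e
      obtain a2 | a2 := (Nat.dvd_prime Nat.prime_two).mp (Nat.gcd_dvd_right (orderOf c) 2)
      · rw [a2, Nat.div_one] at e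
        have := Nat.dvd_gcd e.two_dvd dvd_rfl
        omega
      · have := a2 ▸ Nat.gcd_dvd_left (orderOf c) 2
        have := (a2 ▸ e).two_dvd
        omega
    exact h.ne_four hp2 _ (orderOf_pow_orderOf_div (orderOf_pos c).ne' a1)
  have hA : H8.AbC G := fun t x y ht hx hy => by
    have a1 : x * y * x⁻¹ * y⁻¹ ∈ center G := by
      have b1 := mul_mem (mul_mem (h2 _ t ht (hx.mul_left hy)) (inv_mem (h2 y t ht hy)))
        (inv_mem (h2 x t ht hx))
      rwa [show x * y * (x * y) * (y * y)⁻¹ * (x * x)⁻¹ = x * y * (x * (y⁻¹ * (x * x)⁻¹)) by group,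
        mem_center_iff.mp (inv_mem (h2 x t ht hx)),
        show x * y * (x * ((x * x)⁻¹ * y⁻¹)) = x * y * x⁻¹ * y⁻¹ by group] at b1
    have a2 : (x * y * x⁻¹ * y⁻¹) ^ 2 = 1 := by
      calc _ = x * y * x⁻¹ * (y⁻¹ * (x * y * x⁻¹ * y⁻¹)) := by rw [sq]; group
        _ = x * (y * y) * x⁻¹ * (y * y)⁻¹ := by rw [mem_center_iff.mp a1]; group
        _ = 1 := by rw [mem_center_iff.mp (h2 y t ht hy)]; group
    obtain ⟨k, hk⟩ := Nat.Odd.sub_even hp.out.two_le (hp.out.odd_of_ne_two hp2) even_two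
    have a3 := hZ _ a1
    rwa [hk, pow_succ, pow_mul, a2, one_pow, one_mul, mul_inv_eq_one, mul_inv_eq_iff_eq_mul] at a3
  have := Fact.mk Nat.prime_two
  have hev : Even (Nat.card G) := by rw [S.card_eq, he]; exact (even_two.mul_left _).mul_right _
  obtain ⟨P⟩ : Nonempty (Sylow 2 G) := inferInstance
  obtain ⟨F, _, _, hF, h4, ⟨e⟩⟩ := hA.prod (H8.twoComm_of_not_isCyclic P.2
    (fun _ hx _ hy => hA.sylow_comm P hx hy) fun hP => by
      obtain ⟨H, hH⟩ := H8.exists_index_two_of_isCyclic hev P hP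
      have := normal_of_index_eq_two hH
      have := (isCyclic_of_prime_card (index_eq_card H ▸ hH)).isMulCommutative
      rw [show H = ⊤ from top_le_iff.mp
        (hG ▸ Normal.quotient_commutative_iff_commutator_le.mp this), index_top] at hH
      omega) (hA.nonComm_of_not_normal P fun hP => by
      obtain ⟨k, hk⟩ := P.2.exists_card_eq
      have a1 : ¬ p ∣ Nat.card P := fun e => hp2 ((Nat.prime_dvd_prime_iff_eq hp.out
        Nat.prime_two).mp (hp.out.dvd_of_dvd_pow (hk ▸ e)))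
      obtain ⟨t, ht⟩ := exists_prime_orderOf_dvd_card' 2
        (P.dvd_card_of_dvd_card hev.two_dvd)
      exact h1 ((orderOf_coe t).trans ht) (S.commute_of_normal a1
        (S.le_normalizer_of_normal hc hf (by omega) _ hP a1) t.2).symm (by rw [S.hx]))
  have hZ1 : center G = ⊥ := by
    refine eq_bot_iff.mpr fun z hz => ?_
    obtain ⟨g, hg⟩ := e.surjective (1, ⟨z, hz⟩)
    have := (commutator_le (H₃ := ((MonoidHom.snd _ _).comp e.toMonoidHom).ker)).mpr
      (fun a _ b _ => by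
        rw [MonoidHom.mem_ker, map_commutatorElement, commutatorElement_eq_one_iff_mul_comm]
        exact Subtype.ext (mem_center_iff.mp (Subtype.prop _) _)) (hG.ge (mem_top g))
    simpa [hg] using MonoidHom.mem_ker.mp this
  have : Unique (center G) := hZ1 ▸ inferInstance
  replace e := e.trans MulEquiv.prodUnique
  obtain ⟨⟨a, a0⟩, -, ha⟩ := FiniteField.card F 2
  replace ha : Fintype.card F = 2 ^ a := ha
  refine ⟨hZ1, a, F, inferInstance, inferInstance, ?_, ha, ⟨e⟩⟩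
  have a1 := (Nat.card_congr e.toEquiv).trans H9.card_sl_two
  obtain ⟨Q, hQ⟩ := Sylow.exists_subgroup_card_pow_prime (G := G) 2 (n := a)
    (by rw [a1, ha]; exact dvd_mul_right _ _)
  have := Fintype.ofFinite Q
  obtain ⟨k, hk⟩ := H5.exists_nat_classInner (H5.isCharacter_restrict hc Q)
    (H5.isCharacter_of_isIrr H5.isIrrCharacter_one)
  have a2 : ∀ g ∈ univ.erase (1 : Q), ζ g = -1 := fun g hg => h.invol hp2 (by
    obtain ⟨j, -, hj⟩ := (Nat.dvd_prime_pow Nat.prime_two).mp (hQ ▸ orderOf_dvd_natCard g)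
    rw [← orderOf_coe] at hj
    rcases j with _ | _ | j
    · exact absurd (Subtype.ext (orderOf_eq_one_iff.mp hj)) (ne_of_mem_erase hg)
    · exact hj
    · exact absurd (orderOf_pow_orderOf_div (orderOf_pos _).ne' ⟨2 ^ j, by rw [hj]; ring⟩)
        (h.ne_four hp2 _))
  simp only [classInner, map_one, mul_one] at hk
  rw [← add_sum_erase _ _ (mem_univ 1), sum_congr rfl a2, sum_const, card_erase_of_mem (mem_univ _),
    card_univ, ← Nat.card_eq_fintype_card, hQ, inv_mul_eq_iff_eq_mul₀ (by simp), Subgroup.coe_one,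
    cast_degree hc, nsmul_eq_mul, Nat.cast_sub (Nat.one_le_two_pow)] at hk
  have a3 : charDegree ζ + 1 = 2 ^ a * (k + 1) := by
    exact_mod_cast (by push_cast at hk ⊢; linear_combination hk :
      ((charDegree ζ + 1 : ℕ) : ℂ) = (2 ^ a * (k + 1) : ℕ))
  have a4 := Nat.le_mul_of_pos_right (2 ^ a) k.add_one_pos
  have a5 : p ∣ Nat.card G := S.hx ▸ orderOf_dvd_natCard _
  rw [a1, ha, ← one_pow 2, Nat.sq_sub_sq, Nat.Prime.dvd_mul hp.out, Nat.Prime.dvd_mul hp.out] at a5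
  have a6 := Nat.one_lt_two_pow a0.ne'
  rcases a5 with a5 | a5 | a5 <;> have := Nat.le_of_dvd (by omega) a5 <;> omega

include S in
theorem prod_of_pm2 {ζ : G → ℂ} (hζ : IsIrrCharacter G ζ) (hf : ∀ g : G, ζ g = ζ 1 → g = 1)
    (hd : charDegree ζ + 2 = p) (h5 : 5 < p) (hn : Nat.card (Sylow p G) ≠ 1) :
    ∃ (a : ℕ) (F : Type) (_ : Field F) (_ : Fintype F), p = 2 ^ a + 1 ∧
      Fintype.card F = 2 ^ a ∧ Nonempty (G ≃* SL(2, F) × center G) := by
  have hc := H5.isCharacter_of_isIrr hζ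
  have hH := S.perfect_normalClosure hc hf (by omega) hn
  set H := normalClosure ({S.x} : Set G)
  have hx : S.x ∈ H := subset_normalClosure rfl
  obtain ⟨T, hT⟩ := S.exists_setup_sub hx
  have h1 := S.index_mul_index hx T hT
  have h2 := T.index_ne_one hH
  obtain ⟨he, hV, -⟩ := S.pm2_blk (χ := ⟨ζ, hζ⟩) hf hd fun e =>
    h2 (Nat.eq_one_of_mul_eq_one_right (h1.trans e))
  have h3 : ∀ g, ∃ a ∈ H, ∃ z ∈ center G, g = a * z := fun g => by
    obtain ⟨a, ha, v, e⟩ := S.exists_mul_V hx (((Nat.dvd_prime Nat.prime_two).mp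
      ⟨_, (h1.trans he).symm⟩).elim (absurd · h2) fun e => by rw [e, he] at h1; omega) g
    exact ⟨a, ha, _, hV v, e⟩
  obtain ⟨hZ, a, F, _, _, h4, h6, ⟨e⟩⟩ := T.sl2_of_pm2 hH (isIrr_restrict_of_center hζ H h3)
    (fun g hg => Subtype.ext (hf g hg)) hd h5
  refine ⟨a, F, inferInstance, inferInstance, h4, h6, ⟨.symm (.trans (.prodCongr e.symm (.refl _))
    (.ofBijective (H.subtype.noncommCoprod (center G).subtype
      fun a z => mem_center_iff.mp z.2 a) ⟨?_, fun g => ?_⟩))⟩⟩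
  · refine (injective_iff_map_eq_one _).mpr fun ⟨a, z⟩ h => ?_
    replace h : (a : G) = (z : G)⁻¹ := eq_inv_of_mul_eq_one_left h
    have : a = 1 := mem_bot.mp (hZ ▸ mem_center_iff.mpr fun b => Subtype.ext
      (mem_center_iff.mp (h ▸ inv_mem z.2 : (a : G) ∈ center G) b))
    subst this
    exact Prod.ext rfl (Subtype.ext (inv_eq_one.mp h.symm))
  · obtain ⟨a, ha, z, hz, rfl⟩ := h3 g
    exact ⟨(⟨a, ha⟩, ⟨z, hz⟩), rfl⟩

end Setup

end Cfsg.Agent.H35
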