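import Cfsg.Agent.H35.Below
import Cfsg.Agent.H88.Eig
import Cfsg.Agent.H8.InvAbProd

/-! Consequences of the identity `ζ(g)² - ζ(g²) = (d - 1) ζ(gⁿ)` for a faithful character `ζ` of
odd degree `d ≥ 5`. -/

set_option autoImplicit false
set_option linter.unusedSectionVars false

namespace Cfsg.Agent.H35

open Subgroup Finset Cfsg
open scoped ComplexConjugate

theorem norm_sum_pow_le {ι : Type*} (A : Finset ι) {l : ι → ℂ} (h : ∀ i, ‖l i‖ = 1) (j : ℕ) :
    ‖∑ i ∈ A, l i ^ j‖ ≤ A.card :=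
  (norm_sum_le _ _).trans (by simp [h])

/-- the combinatorial core: both multisets of eigenvalues are constant -/
theorem eq_of_alt {ι : Type*} [DecidableEq ι] (A B : Finset ι) {l : ι → ℂ} {m n q r : ℕ}
    (hm : 2 ≤ m) (hA : A.card = m) (hB : B.card = m + 1) (hr : Odd r) (hn : n.Coprime r)
    (hl : ∀ i, l i ^ r = 1) (hq : q.Prime) (hqr : q ∣ r) (hlq : ∀ i j, l i ^ q = l j ^ q)
    (h1 : ∀ j, (∑ i ∈ A, l i ^ j) * ∑ i ∈ B, l i ^ j = m * ∑ i ∈ B, l i ^ (j * n))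
    (h2 : ∀ j, (∑ i ∈ A, l i ^ j) ^ 2 + (∑ i ∈ B, l i ^ j) ^ 2 - ∑ i ∈ A, l i ^ (j * 2) -
      ∑ i ∈ B, l i ^ (j * 2) = 2 * m * ∑ i ∈ A, l i ^ (j * n)) :
    ∃ ω, (∀ i ∈ A, l i = ω) ∧ ∀ i ∈ B, l i = ω := by
  classical
  have hr0 : r ≠ 0 := by rintro rfl; simp at hr
  have hn1 : ∀ i, ‖l i‖ = 1 := fun i => H5.norm_eq_one_of_pow_eq_one' hr0 (hl i)
  have h0 : ∀ i, l i ≠ 0 := fun i e => by simpa [e] using hn1 i
  obtain ⟨i₀, hi₀⟩ : A.Nonempty := card_pos.mp (by omega)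
  have hm' : (2 : ℝ) ≤ m := by exact_mod_cast hm
  have hper : ∀ (C : Finset ι) j, ∑ i ∈ C, l i ^ (j * n ^ r.totient) = ∑ i ∈ C, l i ^ j :=
    fun C j => sum_congr rfl fun i _ => by
      rw [pow_eq_pow_mod _ (hl i), pow_eq_pow_mod j (hl i), show _ % r = _ from
        ((Nat.ModEq.pow_totient hn).mul_left j).trans (by rw [mul_one])]
  have hA' : ∀ i ∈ A, l i = l i₀ := by
    by_contra! hc
    obtain ⟨i₁, hi₁, hne⟩ := hc
    have a1 : ∀ j, ¬ q ∣ j → ‖∑ i ∈ A, l i ^ j‖ < m := fun j hj =>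
      lt_of_le_of_ne (hA ▸ norm_sum_pow_le A hn1 j) fun e => hne (by
        have := H5.eq_of_norm_sum_eq_card (fun i : A => l i ^ j) (by simp [hn1])
          (by rw [sum_coe_sort A fun i => l i ^ j, e, Fintype.card_coe, hA]) ⟨_, hi₁⟩ ⟨_, hi₀⟩
        rw [← div_eq_one_iff_eq (h0 _)]
        rw [← pow_one (_ / _), ← ((Nat.Prime.coprime_iff_not_dvd hq).mpr hj).gcd_eq_one,
          pow_gcd_eq_one, div_pow, div_pow, hlq i₁ i₀, this]
        simp [h0])
    have a2 : ∀ j, ¬ q ∣ j → ∑ i ∈ B, l i ^ j = 0 := fun j hj => by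
      have b1 : ∀ j, ‖∑ i ∈ B, l i ^ (j * n)‖ ≤ ‖∑ i ∈ B, l i ^ j‖ := fun j => by
        have := congrArg norm (h1 j)
        rw [norm_mul, norm_mul, Complex.norm_natCast] at this
        refine le_of_mul_le_mul_left (this ▸ ?_) (by linarith : (0 : ℝ) < m)
        exact mul_le_mul_of_nonneg_right (hA ▸ norm_sum_pow_le A hn1 j) (norm_nonneg _)
      have b2 : ∀ k, ‖∑ i ∈ B, l i ^ (j * n ^ (k + 1))‖ ≤ ‖∑ i ∈ B, l i ^ (j * n)‖ := fun k => by
        induction k with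
        | zero => simp
        | succ k ih => rw [pow_succ, ← mul_assoc]; exact (b1 _).trans ih
      have b3 := b2 (r.totient - 1)
      rw [Nat.sub_add_cancel (Nat.totient_pos.mpr (by omega)), hper] at b3
      have b4 := congrArg norm (h1 j)
      rw [norm_mul, norm_mul, Complex.norm_natCast] at b4
      by_contra h
      have := mul_lt_mul_of_pos_right (a1 j hj) (norm_pos_iff.mpr h)
      have := mul_le_mul_of_nonneg_left b3 (by linarith : (0 : ℝ) ≤ m)
      linarith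
    have hq2 : ∀ j, ¬ q ∣ j → ¬ q ∣ j * 2 := fun j hj h => ((Nat.Prime.dvd_mul hq).mp h).elim hj
      fun h => by
        obtain rfl := (Nat.prime_dvd_prime_iff_eq hq Nat.prime_two).mp h
        exact hr.not_two_dvd_nat hqr
    have a3 : ∀ j, ¬ q ∣ j → ∑ i ∈ A, l i ^ j = 0 := by
      obtain ⟨j₀, hj₀, hmax⟩ := exists_max_image ((range r).filter (¬ q ∣ ·))
        (fun j => ‖∑ i ∈ A, l i ^ j‖) ⟨1, by
          simpa [hq.ne_one] using hq.one_lt.trans_le (Nat.le_of_dvd (by omega) hqr)⟩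
      have b1 : ∀ j, ¬ q ∣ j → ‖∑ i ∈ A, l i ^ j‖ ≤ ‖∑ i ∈ A, l i ^ j₀‖ := fun j hj => by
        rw [sum_congr rfl fun i _ => pow_eq_pow_mod j (hl i)]
        exact hmax _ (by simpa [Nat.mod_lt _ (Nat.pos_of_ne_zero hr0), Nat.dvd_mod_iff hqr])
      replace hj₀ := (mem_filter.mp hj₀).2
      have b2 : ¬ q ∣ j₀ * n ^ (r.totient - 1) := fun h => ((Nat.Prime.dvd_mul hq).mp h).elim hj₀
        fun h => hq.ne_one (Nat.eq_one_of_dvd_coprimes hn (hq.dvd_of_dvd_pow h) hqr)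
      have b3 := congrArg norm (h2 (j₀ * n ^ (r.totient - 1)))
      rw [a2 _ b2, a2 _ (hq2 _ b2), mul_assoc j₀ _ n, ← pow_succ,
        Nat.sub_add_cancel (Nat.totient_pos.mpr (by omega)), hper, norm_mul, norm_mul,
        Complex.norm_natCast, Complex.norm_ofNat, sq (0 : ℂ), mul_zero, add_zero, sub_zero] at b3
      have b4 := (norm_sub_le _ _).trans' b3.ge
      rw [norm_pow] at b4
      have b5 := b1 _ b2
      have b6 := b1 _ (hq2 _ b2)
      have b7 := a1 _ hj₀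
      have b8 := norm_nonneg (∑ i ∈ A, l i ^ (j₀ * n ^ (r.totient - 1)))
      have b9 := norm_nonneg (∑ i ∈ A, l i ^ j₀)
      intro j hj
      exact norm_le_zero_iff.mp ((b1 j hj).trans (by nlinarith))
    have a4 : ∀ C : Finset ι, (∀ j, ¬ q ∣ j → ∑ i ∈ C, l i ^ j = 0) → q ∣ C.card := fun C h => by
      have := H88.sum_pow_mul_inv_pow hq.ne_zero (fun i : C => l i / l i₀)
        (fun i => by rw [div_pow, hlq i i₀, div_self (pow_ne_zero _ (h0 _))]) (one_pow q)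
      rw [sum_eq_single 0 (fun j hj h0 => by
        simp only [div_pow, ← sum_div, sum_coe_sort C fun i => l i ^ j]
        rw [h j (Nat.not_dvd_of_pos_of_lt (by omega) (mem_range.mp hj))]
        simp) (by simp [hq.ne_zero])] at this
      simp only [pow_zero, sum_const, card_univ, Fintype.card_coe, nsmul_eq_mul, mul_one] at this
      exact ⟨_, by exact_mod_cast this⟩
    exact hq.ne_one (Nat.dvd_one.mp ((Nat.dvd_add_right (hA ▸ a4 A a3)).mp (hB ▸ a4 B a2)))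
  refine ⟨l i₀, hA', ?_⟩
  have b1 := h2 1
  have b0 : ∀ j, ∑ i ∈ A, l i ^ j = m * l i₀ ^ j := fun j => by
    rw [sum_congr rfl fun i hi => by rw [hA' i hi], sum_const, hA, nsmul_eq_mul]
  simp only [b0] at b1
  simp only [one_mul, pow_one] at b1
  have hn2 := hn1 i₀
  generalize l i₀ = ω at *
  have b2 : ∀ z : ℂ, ‖z‖ = 1 → 0 ≤ 1 - (z * conj (ω ^ n)).re := fun z hz =>
    sub_nonneg.mpr ((Complex.re_le_norm _).trans (by simp [hz, hn2]))
  have b3 : ∀ z : ℂ, ‖z‖ = 1 → 1 - (z * conj (ω ^ n)).re = 0 → z = ω ^ n := fun z hz h => by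
    refine sub_eq_zero.mp (Complex.normSq_eq_zero.mp ?_)
    rw [Complex.normSq_sub, Complex.normSq_eq_norm_sq, Complex.normSq_eq_norm_sq, hz, norm_pow, hn2]
    simp only [one_pow]
    linarith
  have b4 : ∑ i ∈ B, ∑ i' ∈ B.erase i, (1 - (l i * l i' * conj (ω ^ n)).re) +
      (m ^ 2 - m) * (1 - (ω ^ 2 * conj (ω ^ n)).re) = 0 := by
    have c1 : ∑ i ∈ B, ∑ i' ∈ B.erase i, l i * l i' = (∑ i ∈ B, l i) ^ 2 - ∑ i ∈ B, l i ^ 2 := by
      rw [sq, sum_mul_sum, ← sum_sub_distrib]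
      exact sum_congr rfl fun i hi => by rw [sum_erase_eq_sub hi, sq]
    have c2 : ω ^ n * conj (ω ^ n) = 1 := by
      rw [Complex.mul_conj, Complex.normSq_eq_norm_sq]; simp [hn2]
    have c3 : (∑ i ∈ B, ∑ i' ∈ B.erase i, l i * l i') * conj (ω ^ n) +
        ((m ^ 2 - m : ℝ) : ℂ) * (ω ^ 2 * conj (ω ^ n)) = (2 * m ^ 2 : ℝ) := by
      push_cast
      linear_combination conj (ω ^ n) * (c1 + b1) + 2 * m ^ 2 * c2
    have c4 := congrArg Complex.re c3
    simp only [sum_mul, Complex.add_re, Complex.re_sum, Complex.re_ofReal_mul,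
      Complex.ofReal_re] at c4
    simp only [sum_sub_distrib, sum_const, nsmul_eq_mul, mul_one]
    rw [sum_congr rfl fun i hi => by rw [card_erase_of_mem hi, hB], sum_const, hB]
    simp only [nsmul_eq_mul, Nat.add_sub_cancel]
    push_cast
    linear_combination -c4
  have b5 := fun i i' => b2 (l i * l i') (by simp [hn1])
  rw [add_eq_zero_iff_of_nonneg (sum_nonneg fun _ _ => sum_nonneg fun _ _ => b5 _ _)
    (mul_nonneg (by nlinarith) (b2 _ (by simp [hn2]))),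
    sum_eq_zero_iff_of_nonneg fun _ _ => sum_nonneg fun _ _ => b5 _ _] at b4
  have b6 := b3 _ (by simp [hn2]) ((mul_eq_zero.mp b4.2).resolve_left (by nlinarith))
  have b7 : ∀ i ∈ B, ∀ i' ∈ B, i' ≠ i → l i * l i' = ω ^ 2 := fun i hi i' hi' h =>
    b6 ▸ b3 _ (by simp [hn1]) ((sum_eq_zero_iff_of_nonneg fun _ _ => b5 _ _).mp (b4.1 i hi) i'
      (mem_erase.mpr ⟨h, hi'⟩))
  intro i hi
  obtain ⟨j, hj, k, hk, hjk⟩ := one_lt_card.mp
    (by rw [card_erase_of_mem hi]; omega : 1 < (B.erase i).card)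
  rw [mem_erase] at hj hk
  have b8 : l i ^ 2 = ω ^ 2 := mul_right_cancel₀ (mul_ne_zero (h0 j) (h0 k)) (by
    linear_combination (l i * l k) * b7 i hi j hj.2 hj.1 + ω ^ 2 * b7 i hi k hk.2 hk.1 -
      ω ^ 2 * b7 k hk.2 j hj.2 hjk)
  obtain ⟨s, rfl⟩ := hr
  have b9 := hl i₀
  rw [hA' i₀ hi₀] at b9
  have := hl i
  rw [pow_succ, pow_mul] at this b9
  rw [b8] at this
  exact mul_left_cancel₀ (left_ne_zero_of_mul_eq_one b9) (this.trans b9.symm)

/-- a faithful character of degree `2 m + 1` whose alternating square is `m` times a Galois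
conjugate on the `p`-regular elements -/
structure AltEq {G : Type*} [Group G] (p m n : ℕ) (ζ : G → ℂ) : Prop where
  char : IsCharacter G ζ
  faith : ∀ g : G, ζ g = ζ 1 → g = 1
  two_le : 2 ≤ m
  deg : ζ 1 = (2 * m + 1 : ℕ)
  cop : n.Coprime (Nat.card G)
  alt : ∀ g, ¬ p ∣ orderOf g → ζ g ^ 2 - ζ (g * g) = 2 * m * ζ (g ^ n)

namespace AltEq

variable {G : Type*} [Group G] [Finite G] {p m n : ℕ} [hp : Fact p.Prime] {ζ : G → ℂ}
  (h : AltEq p m n ζ) (hp2 : p ≠ 2)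
include h

theorem odd_n {w : G} (hw : orderOf w = 2) : Odd n :=
  Nat.coprime_two_right.mp (h.cop.coprime_dvd_right (hw ▸ orderOf_dvd_natCard w))

theorem exists_eig (g : G) : ∃ μ : Fin (2 * m + 1) → ℂ, (∀ i, μ i ^ orderOf g = 1) ∧
    ∀ j : ℕ, ζ (g ^ j) = ∑ i, μ i ^ j := by
  obtain ⟨d, μ, h1, h2, h3⟩ := H5.exists_eigenvalues h.char g
  obtain rfl : d = 2 * m + 1 := by exact_mod_cast h1.symm.trans h.deg
  exact ⟨μ, h2, fun j => by simpa using h3 j⟩

include hp2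

theorem invol {w : G} (hw : orderOf w = 2) : ζ w = -1 := by
  have h1 := h.alt w fun e => hp2 ((Nat.prime_dvd_prime_iff_eq hp.out Nat.prime_two).mp (hw ▸ e))
  obtain ⟨k, rfl⟩ := h.odd_n hw
  have h2 : w ^ 2 = 1 := hw ▸ pow_orderOf_eq_one w
  rw [← sq w, pow_succ w (2 * k), pow_mul, h2, one_pow, one_mul] at h1
  have h3 : ζ w - ζ 1 ≠ 0 := fun e => by
    rw [h.faith w (sub_eq_zero.mp e), orderOf_one] at hw; omega
  have h4 := h.deg
  push_cast at h4
  exact mul_left_cancel₀ h3 (by linear_combination h1 - ζ w * h4)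

theorem ne_four (g : G) : orderOf g ≠ 4 := fun hg => by
  obtain ⟨μ, h1, h2⟩ := h.exists_eig g
  have hw : orderOf (g ^ 2) = 2 := by rw [orderOf_pow, hg]; rfl
  have h3 := h.alt g fun e => hp2 ((Nat.prime_dvd_prime_iff_eq hp.out Nat.prime_two).mp
    (hp.out.dvd_of_dvd_pow (n := 2) (hg ▸ e :)))
  choose a b hab using fun i => show ∃ a b : ℤ, μ i = a + b * Complex.I ∧ μ i ^ 3 = a - b * Complex.I ∧
      μ i ^ 2 = 1 - 2 * (b ^ 2 : ℤ) by
    have h4 : (μ i - 1) * (μ i + 1) * ((μ i - Complex.I) * (μ i + Complex.I)) = 0 := by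
      linear_combination (hg ▸ h1 i : μ i ^ 4 = 1) - (μ i ^ 2 - 1) * Complex.I_sq
    simp only [mul_eq_zero, sub_eq_zero, add_eq_zero_iff_eq_neg] at h4
    rcases h4 with (e | e) | e | e <;> rw [e]
    · exact ⟨1, 0, by simp⟩
    · exact ⟨-1, 0, by norm_num⟩
    · exact ⟨0, 1, by simp; norm_num⟩
    · exact ⟨0, -1, by simp [pow_succ]; norm_num⟩
  have h4 := (h2 2).symm.trans (h.invol hp2 hw)
  simp only [fun i => (hab i).2.2, sum_sub_distrib, ← mul_sum, ← Int.cast_sum, sum_const, card_univ,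
    Fintype.card_fin, nsmul_eq_mul] at h4
  have h5 : ∑ i, b i ^ 2 = m + 1 := by
    have : (2 * ∑ i, b i ^ 2 : ℤ) = 2 * (m + 1) := by
      exact_mod_cast (by push_cast at h4 ⊢; linear_combination -h4 :
        ((2 * ∑ i, b i ^ 2 : ℤ) : ℂ) = (2 * (m + 1) : ℤ))
    omega
  have h6 : ∑ i, b i ≤ ∑ i, b i ^ 2 := sum_le_sum fun i _ => Int.le_self_sq _
  have h7 : -∑ i, b i ≤ ∑ i, b i ^ 2 := by
    rw [← sum_neg_distrib]; exact sum_le_sum fun i _ => neg_sq (b i) ▸ Int.le_self_sq _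
  have h8 : ζ g = (∑ i, a i : ℤ) + (∑ i, b i : ℤ) * Complex.I := by
    simpa [hab, sum_add_distrib, sum_mul] using h2 1
  have h9 : ζ (g ^ 3) = (∑ i, a i : ℤ) - (∑ i, b i : ℤ) * Complex.I := by
    simp only [h2, fun i => (hab i).2.1, sum_sub_distrib, sum_mul, Int.cast_sum]
  rw [← sq g, h.invol hp2 hw, ← pow_mod_orderOf g, hg] at h3
  have hm := h.two_le
  generalize ∑ i, a i = A at *
  generalize ∑ i, b i = B at *
  have key : A ^ 2 + 1 ≠ 2 * m * A := fun e => by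
    have : A ∣ 1 := ⟨2 * m - A, by linear_combination e⟩
    rcases Int.isUnit_iff.mp (isUnit_of_dvd_one this) with rfl | rfl <;> omega
  obtain e | e : n % 4 = 1 ∨ n % 4 = 3 := by have := Nat.odd_iff.mp (h.odd_n hw); omega
  all_goals
    simp only [e, pow_one, h8, h9, Complex.ext_iff, sq] at h3
    simp at h3
    norm_cast at h3
    push_cast at h3
    obtain ⟨e1, e2⟩ := h3
    rcases eq_or_ne B 0 with rfl | hB
    · exact key (by linear_combination e1)
  · obtain rfl : A = m := mul_right_cancel₀ (mul_ne_zero two_ne_zero hB) (by linear_combination e2)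
    nlinarith [sq_nonneg B]
  · obtain rfl : A = -m := mul_right_cancel₀ (mul_ne_zero two_ne_zero hB) (by linear_combination e2)
    rw [h5] at h6 h7
    nlinarith

theorem mem_center_aux {c w : G} (hw : orderOf w = 2) (hc : Commute c w) (ho : Odd (orderOf c))
    (hp' : ¬ p ∣ orderOf c) {q : ℕ} (hq : q.Prime) (hqr : q ∣ orderOf c)
    (hz : ‖ζ (c ^ q)‖ = ‖ζ 1‖) : c ∈ center G := by
  classical
  obtain ⟨μ, h1, h2⟩ := h.exists_eig (c * w)
  obtain ⟨s, hs⟩ := ho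
  have hw2 : w ^ 2 = 1 := hw ▸ pow_orderOf_eq_one w
  have hcr : c ^ (2 * s + 1) = 1 := hs ▸ pow_orderOf_eq_one c
  have e1 : (c * w) ^ (2 * s + 2) = c := by
    rw [hc.mul_pow, pow_succ, hcr, show 2 * s + 2 = 2 * (s + 1) by ring, pow_mul, hw2]; simp
  have e2 : (c * w) ^ (2 * s + 1) = w := by
    rw [hc.mul_pow, hcr, pow_succ, pow_mul, hw2]; simp
  have e3 : ∀ i, (μ i ^ (2 * s + 1)) ^ 2 = 1 := fun i => by
    obtain ⟨k, hk⟩ : orderOf (c * w) ∣ (2 * s + 1) * 2 :=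
      orderOf_dvd_of_pow_eq_one (by rw [pow_mul, e2, hw2])
    rw [← pow_mul, hk, pow_mul, h1, one_pow]
  set l := fun i => μ i ^ (2 * s + 2) with hl
  set A := univ.filter fun i => μ i ^ (2 * s + 1) = 1 with hA
  set B := univ.filter fun i => ¬ μ i ^ (2 * s + 1) = 1 with hB
  have e4 : ∀ j, ζ (c ^ j) = ∑ i, l i ^ j := fun j => by
    rw [← e1, ← pow_mul, h2]; simp only [hl, pow_mul]
  have e5 : ∀ j, ζ (c ^ j) = ∑ i ∈ A, l i ^ j + ∑ i ∈ B, l i ^ j := fun j => by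
    rw [e4, sum_filter_add_sum_filter_not]
  have e6 : ∀ j, ζ (c ^ j * w) = ∑ i ∈ A, l i ^ j - ∑ i ∈ B, l i ^ j := fun j => by
    rw [show c ^ j * w = (c * w) ^ ((2 * s + 2) * j + (2 * s + 1)) by
      rw [pow_add, pow_mul, e1, e2], h2, ← sum_filter_add_sum_filter_not _
      fun i => μ i ^ (2 * s + 1) = 1, sub_eq_add_neg, ← sum_neg_distrib]
    congr 1 <;> refine sum_congr rfl fun i hi => ?_
    · rw [pow_add, (mem_filter.mp hi).2, mul_one, pow_mul]
    · rw [pow_add, (sq_eq_one_iff.mp (e3 i)).resolve_left (mem_filter.mp hi).2, pow_mul]; simp [hl]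
  have e7 := e5 0
  have e8 := e6 0
  simp only [pow_zero, one_mul, h.deg, h.invol hp2 hw, sum_const, nsmul_eq_mul, mul_one] at e7 e8
  have cA : A.card = m := by
    have : 2 * A.card = 2 * m := by
      exact_mod_cast (by push_cast at e7 ⊢; linear_combination -e7 - e8 :
        ((2 * A.card : ℕ) : ℂ) = (2 * m : ℕ))
    omega
  have cB : B.card = m + 1 := by
    exact_mod_cast (by rw [cA] at e8; linear_combination e8 : (B.card : ℂ) = m + 1)
  have hl1 : ∀ i, l i ^ (2 * s + 1) = 1 := fun i => by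
    rw [hl, ← pow_mul, show (2 * s + 2) * (2 * s + 1) = (2 * s + 1) * 2 * (s + 1) by ring, pow_mul,
      pow_mul, e3, one_pow]
  have hn1 : ∀ i, ‖l i‖ = 1 := fun i => H5.norm_eq_one_of_pow_eq_one' (by omega) (hl1 i)
  obtain ⟨k, hk⟩ := h.odd_n hw
  have f1 : ∀ j, _ := fun j => h.alt (c ^ j) fun e => hp' (e.trans (orderOf_pow_dvd j))
  have f2 : ∀ j, _ := fun j => h.alt (c ^ j * w) fun e =>
    ((Nat.Prime.dvd_mul hp.out).mp (e.trans (hc.pow_left j).orderOf_mul_dvd_mul_orderOf)).elim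
      (fun e => hp' (e.trans (orderOf_pow_dvd j)))
      fun e => hp2 ((Nat.prime_dvd_prime_iff_eq hp.out Nat.prime_two).mp (hw ▸ e))
  have f3 : ∀ j, (c ^ j * w) ^ n = c ^ (j * n) * w := fun j => by
    rw [(hc.pow_left j).mul_pow, ← pow_mul, hk, pow_succ w, pow_mul w, hw2]; simp
  simp only [← sq, fun j => (hc.pow_left j).mul_pow 2, hw2, mul_one, f3, ← pow_mul, e5, e6]
    at f1 f2
  obtain ⟨ω, a1, a2⟩ := eq_of_alt A B h.two_le cA cB ⟨s, rfl⟩
    (h.cop.coprime_dvd_right (hs ▸ orderOf_dvd_natCard c)) hl1 hq (hs ▸ hqr)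
    (H5.eq_of_norm_sum_eq_card _ (by simp [hn1]) (by
      rw [← e4, hz, h.deg, Complex.norm_natCast, Fintype.card_fin]))
    (fun j => by linear_combination (f1 j - f2 j) / 4)
    (fun j => by linear_combination (f1 j + f2 j) / 2)
  refine mem_center_of_norm h.char h.faith ?_
  obtain ⟨i, hi⟩ : B.Nonempty := card_pos.mp (by omega)
  have a3 := e5 1
  simp only [pow_one, sum_congr rfl a1, sum_congr rfl a2, sum_const, cA, cB, nsmul_eq_mul,
    ← add_mul] at a3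
  rw [a3, h.deg, norm_mul, ← a2 i hi, hn1, mul_one]
  congr 1
  push_cast
  ring

theorem mem_center (hζ : IsIrrCharacter G ζ) {c w : G} (hw : orderOf w = 2) (hc : Commute c w)
    (ho : Odd (orderOf c)) (hp' : ¬ p ∣ orderOf c) : c ∈ center G := by
  by_contra hne
  have h1 : orderOf (c : G ⧸ center G) ≠ 1 := fun e =>
    hne ((QuotientGroup.eq_one_iff c).mp (orderOf_eq_one_iff.mp e))
  obtain ⟨q, hq, hqd⟩ := Nat.exists_prime_and_dvd h1
  have h2 := orderOf_pow_orderOf_div (orderOf_pos _).ne' hqd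
  generalize orderOf (c : G ⧸ center G) / q = k at h2
  rw [← QuotientGroup.mk_pow] at h2
  have h3 := h.mem_center_aux hp2 hw (hc.pow_left k) (ho.of_dvd_nat (orderOf_pow_dvd k))
    (fun e => hp' (e.trans (orderOf_pow_dvd k))) hq
    (h2 ▸ orderOf_map_dvd (QuotientGroup.mk' (center G)) _)
    (H5.norm_apply_of_mem_center hζ ((QuotientGroup.eq_one_iff _).mp (by
      rw [QuotientGroup.mk_pow, ← h2, pow_orderOf_eq_one])))
  rw [(QuotientGroup.eq_one_iff _).mpr h3, orderOf_one] at h2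
  exact hq.ne_one h2.symm

end AltEq

end Cfsg.Agent.H35
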