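import Cfsg.Agent.H34.Reynolds
import Cfsg.Agent.H5.Burnside
import Cfsg.Prelude.Def_DegreeGraph

/-! Primes dividing character degrees: normal subgroups, quotients, and a Burnside argument. -/

set_option autoImplicit false

open Cfsg

namespace Cfsg.Agent.H35

theorem degreePrimes_normal_subset {G : Type*} [Group G] [Finite G] (N : Subgroup G) [N.Normal] :
    degreePrimes N ⊆ degreePrimes G := by
  rintro p ⟨hp, d, ⟨θ, rfl⟩, hd⟩
  have := Fintype.ofFinite N
  obtain ⟨χ, hχ⟩ := H34.exists_over (ι := (H34.NEmb.ofNormal N).ι) (H34.NEmb.ofNormal N).inj θ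
  obtain ⟨e, -, he⟩ := hχ.exists_degree_eq_mul
  exact ⟨hp, _, ⟨χ, rfl⟩, he ▸ hd.mul_left e⟩

theorem degreePrimes_quotient_subset {G : Type*} [Group G] [Finite G] (N : Subgroup G)
    [N.Normal] : degreePrimes (G ⧸ N) ⊆ degreePrimes G := by
  rintro p ⟨hp, d, ⟨θ, rfl⟩, hd⟩
  exact ⟨hp, _, ⟨⟨_, H5.isIrrCharacter_inflate N θ.2⟩, rfl⟩, hd⟩

/-- In a nontrivial finite group there is, for each prime `p`, a nonidentity element whose class
has size prime to `p`. -/
theorem exists_ne_one_not_dvd_index {G : Type*} [Group G] [Finite G] [Nontrivial G] {p : ℕ}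
    (hp : p.Prime) : ∃ g : G, g ≠ 1 ∧ ¬ p ∣ (Subgroup.centralizer ({g} : Set G)).index := by
  have : Fact p.Prime := ⟨hp⟩
  obtain ⟨Q⟩ : Nonempty (Sylow p G) := inferInstance
  rcases subsingleton_or_nontrivial Q with hQ' | hQ'
  · have hb : (Q : Subgroup G) = ⊥ := Subgroup.eq_bot_of_subsingleton _
    obtain ⟨g, hg⟩ := exists_ne (1 : G)
    refine ⟨g, hg, fun h => Q.not_dvd_index (h.trans (Subgroup.index_dvd_of_le ?_))⟩
    rw [hb]; exact bot_le
  · have := Q.isPGroup'.center_nontrivial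
    obtain ⟨⟨z, hz⟩, hz1⟩ := exists_ne (1 : Subgroup.center Q)
    have hle : (Q : Subgroup G) ≤ Subgroup.centralizer {(z : G)} := fun x hx => by
      rw [Subgroup.mem_centralizer_singleton_iff]
      exact congrArg Subtype.val (Subgroup.mem_center_iff.mp hz ⟨x, hx⟩)
    exact ⟨z, fun h => hz1 (Subtype.ext (Subtype.ext h)),
      fun h => Q.not_dvd_index (h.trans (Subgroup.index_dvd_of_le hle))⟩

theorem prime_card_of_simple_of_degreePrimes {G : Type*} [Group G] [Finite G] [IsSimpleGroup G]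
    {p q : ℕ} (hp : p.Prime) (hq : q.Prime) (h : ∀ r ∈ degreePrimes G, r = p ∨ r = q) :
    (Nat.card G).Prime := by
  obtain ⟨g, hg, hgp⟩ := exists_ne_one_not_dvd_index (G := G) hp
  obtain ⟨χ, n, hχ, h1, hn, hqn, hne⟩ := H5.exists_irr_not_dvd_degree_ne_zero hq hg
  have hdeg : charDegree χ = n := by
    have := H34.irr_degree_cast (⟨χ, hχ⟩ : IrrCharacter G)
    exact_mod_cast this.trans hn
  have hcop : Nat.Coprime n (Subgroup.centralizer ({g} : Set G)).index := by
    refine Nat.Coprime.symm (Nat.coprime_of_dvd fun r hr hr1 hr2 => ?_)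
    rcases h r ⟨hr, _, ⟨⟨χ, hχ⟩, rfl⟩, hdeg ▸ hr2⟩ with rfl | rfl
    · exact hgp hr1
    · exact hqn hr2
  have hnorm := (H5.eq_zero_or_norm_eq_of_coprime hχ g hn hcop).resolve_left hne
  refine H5.prime_card_of_simple_of_mem_center hg (Subgroup.mem_center_iff.mpr fun x => ?_)
  have := H5.eq_one_of_simple_of_apply_eq hχ h1
    (H5.apply_commutator_of_norm_eq (H5.isCharacter_of_isIrr hχ) hnorm x)
  rw [mul_inv_eq_one, mul_inv_eq_iff_eq_mul] at this
  exact this.symm

universe u in
theorem isSolvable_of_degreePrimes {p q : ℕ} (hp : p.Prime) (hq : q.Prime) (n : ℕ) :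
    ∀ (G : Type u) [Group G] [Finite G], Nat.card G = n →
      (∀ r ∈ degreePrimes G, r = p ∨ r = q) → Group.IsSolvable G := by
  induction n using Nat.strong_induction_on with
  | _ n ih =>
  intro G _ _ hn h
  rcases subsingleton_or_nontrivial G with hG | hG
  · infer_instance
  by_cases hs : IsSimpleGroup G
  · have : Fact (Nat.card G).Prime := ⟨prime_card_of_simple_of_degreePrimes hp hq h⟩
    have := isCyclic_of_prime_card (α := G) rfl
    exact Group.isSolvable_of_comm fun x y => IsCyclic.commGroup.mul_comm x y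
  · obtain ⟨N, hN, hN0, hN1⟩ : ∃ N : Subgroup G, N.Normal ∧ N ≠ ⊥ ∧ N ≠ ⊤ := by
      by_contra! hc
      exact hs ⟨fun N hN => (eq_or_ne N ⊥).imp_right (hc N hN)⟩
    have hmul := N.card_mul_index
    have h1 : 1 < Nat.card N := N.one_lt_card_iff_ne_bot.mpr hN0
    have h2 : 1 < N.index := N.one_lt_index_of_ne_top hN1
    have hs1 := ih (Nat.card N) (by nlinarith) N rfl
      fun r hr => h r (degreePrimes_normal_subset N hr)
    have hs2 := ih N.index (by nlinarith) (G ⧸ N) rfl
      fun r hr => h r (degreePrimes_quotient_subset N hr)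
    exact (Group.isSolvable_iff_subgroup_quotient N).mpr ⟨hs1, hs2⟩

end Cfsg.Agent.H35
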