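import Cfsg.Agent.H35.KbGrid
import Cfsg.Agent.H35.KbAut

/-! `2`-blocks with an abelian defect group of order at most `16`. -/

set_option autoImplicit false
set_option linter.unusedSectionVars false

open MonoidAlgebra Subgroup ComplexConjugate

namespace Cfsg.Agent.H35

open Cfsg Cfsg.Agent.H87 Cfsg.Agent.H32 Cfsg.Agent.H86 Cfsg.Agent.H34

universe u

variable {M : Ideal AlgInt} [hMm : M.IsMaximal] {G : Type u} [Group G] [Finite G] {p : ℕ}
  {B : Set (IrrCharacter G)} {P : Subgroup G} {e : (Res M)[G]}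

namespace Red

variable {V : Subgroup P} {K : Type u} [Group K] [Finite K] {b : Set (IrrCharacter K)}
  {Q : Subgroup K} {d : (Res M)[K]} {f : P →* Q} (R : Red p B e V b Q d f)
include R

theorem card : Nat.card Q = V.index := by
  rw [← R.ker, index_ker, MonoidHom.range_eq_top.2 R.surj, card_top]

theorem eq_one {x : P} : f x = 1 ↔ x ∈ V := by rw [← R.ker, MonoidHom.mem_ker]

theorem rank' (h : Ctx M p B P e) {u : P} (hu : V = zpowers u) : blockRank p b = lb p P e u := by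
  rw [R.rank, hu, MonoidHom.map_zpowers, coe_subtype, h.lq_zpowers u.2]

theorem card_le {u : P} (hu : V = zpowers u) (H : KP p b (Nat.card Q)) :
    Nat.card B ≤ Nat.card P := by
  rw [← V.card_mul_index, ← R.card]
  exact R.kp u hu _ H

theorem comm (H : ∀ x y : P, x * y * (y * x)⁻¹ ∈ V) (a b : Q) : a * b = b * a := by
  obtain ⟨x, rfl⟩ := R.surj a
  obtain ⟨y, rfl⟩ := R.surj b
  rw [← map_mul, ← map_mul, ← mul_inv_eq_one, ← map_inv, ← map_mul, R.eq_one]
  exact H x y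

end Red

theorem comm_of_ab (hab : P ≤ Ce P) (a b : P) : a * b = b * a :=
  Subtype.ext (mem_Ce.1 (hab b.2) a a.2)

theorem le_center_of_ab (hab : P ≤ Ce P) (V : Subgroup P) : V ≤ center P :=
  fun a _ => mem_center_iff.2 fun g => comm_of_ab hab g a

theorem lq_of_index {e : (Res M)[G]} (h : Ctx M 2 B P e) {V : Subgroup P} (hV : V ≤ center P)
    (hi : V.index ≤ 4) : lq 2 P e (V.map P.subtype) = 1 ∨ lq 2 P e (V.map P.subtype) = 3 := by
  obtain ⟨K, _, _, b, Q, d, f, R⟩ := exists_red h V hV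
  exact R.rank ▸ (rank_of_le_four R.ctx (R.card ▸ hi)).2

theorem lq_top {e : (Res M)[G]} (h : Ctx M 2 B P e) (hab : P ≤ Ce P) :
    lq 2 P e ((⊤ : Subgroup P).map P.subtype) = 1 := by
  obtain ⟨K, _, _, b, Q, d, f, R⟩ := exists_red h ⊤ (le_center_of_ab hab _)
  have := (Nat.card_eq_one_iff_unique.1 (R.card.trans index_top)).1
  exact R.rank ▸ rank_of_cyclic R.ctx inferInstance

theorem rank_eq_lq (h : Ctx M p B P e) (hab : P ≤ Ce P) {V : Subgroup P} (hV : V ≤ fx (iq P e)) :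
    blockRank p B = lq p P e (V.map P.subtype) := by
  rw [← lb_eq_lq h hab V.one_mem fun γ hγ _ v hv => mem_fx.1 (hV hv) γ hγ, coe_one, h.lb_one]

theorem ab16 {e : (Res M)[G]} (h : Ctx M 2 B P e) (hab : P ≤ Ce P) (hP : Nat.card P ≤ 16)
    (h7 : ¬ 7 ∣ Nat.card (iq P e)) : blockRank 2 B ≤ 3 ∨ KP 2 B (Nat.card P) := by
  have hc := le_center_of_ab hab
  rcases ab16_grp (comm_of_ab hab) h.pgp hP (not_dvd_card_iq h hab) h7 with hf | hf |
    ⟨V, W, u, v, T⟩
  · by_cases h1 : P = ⊥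
    · subst h1
      exact .inl ((rank_of_cyclic h inferInstance).trans_le (by norm_num))
    · exact .inr (kp_of_fpf h hab hf h1)
  · have := lq_of_index h (hc _) hf
    rw [← rank_eq_lq h hab le_rfl] at this
    omega
  have hn : ∀ U : Subgroup P, U.Normal := fun U =>
    ⟨fun a ha g => by rwa [comm_of_ab hab g, mul_inv_cancel_right]⟩
  have := hn V
  have := hn W
  have mu := (T.ou u).1 ⟨1, one_mem _, rfl⟩
  have mv := (T.ov v).1 ⟨1, one_mem _, rfl⟩
  have mw := (T.ow _).1 ⟨1, one_mem _, rfl⟩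
  have h1 : ∀ x ∈ V, x ∈ W → x = 1 := fun x h1 h2 => mem_bot.1 (T.inf ▸ ⟨h1, h2⟩)
  rw [T.card]
  refine kp_of_grid h hab T.card (u := u) (v := v) (w := u * v) V W T.iV T.iW (fun x => ?_)
    (fun x => ?_) T.inf ?_ ?_ ?_ T.ord ?_ ?_ ?_
  · rw [fz_iff_iq h hab, fz_iff_iq h hab, T.ou, T.ow]
    have := h1 x
    have : x = 1 → x ∈ V := fun h => h ▸ one_mem _
    tauto
  · rw [fz_iff_iq h hab, fz_iff_iq h hab, T.ov, T.ow]
    have := h1 x
    have : x = 1 → x ∈ W := fun h => h ▸ one_mem _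
    tauto
  · rw [fz_iff_iq h hab, T.ou]; exact fun h => mw.2 h.1
  · rw [fz_iff_iq h hab, T.ov]; exact fun h => mw.1 h.1
  · rw [fz_iff_iq h hab, T.ou]; exact fun h => h.2 (h1 v mv.1 h.1)
  · rw [lb_eq_lq h hab mu.1 T.su]; exact lq_of_index h (hc _) T.iW.le
  · rw [lb_eq_lq h hab mv.1 T.sv]; exact lq_of_index h (hc _) T.iV.le
  · rw [lb_eq_lq h hab (mem_top _) fun γ hγ h1 x _ => T.sw γ hγ h1 x, lq_top h hab]

end Cfsg.Agent.H35
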