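import Cfsg.Agent.H35.SbCls
import Cfsg.Agent.H35.KbAut

/-! Non-abelian `2`-groups with a centre of small index. -/

set_option autoImplicit false
set_option linter.unusedSectionVars false
set_option synthInstance.maxSize 2048

open Subgroup Function

namespace Cfsg.Agent.H35

open Cfsg.Agent.H42

variable {D : Type*} [Group D] [Finite D] {a b c x z s : D}

theorem mem_cent1 : x ∈ centralizer {a} ↔ x * a = a * x := mem_centralizer_singleton_iff

theorem center_lt_cent (ha : a ∉ center D) : center D < centralizer {a} :=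
  lt_of_le_of_ne (center_le_centralizer _) fun h => ha (h ▸ mem_cent1.2 rfl)

theorem cent_ne_top (ha : a ∉ center D) : centralizer {a} ≠ ⊤ := fun h =>
  ha (mem_center_iff.2 fun g => mem_cent1.1 (h ▸ mem_top g))

theorem index_cent_eq (ha : a ∉ center D) (h : (centralizer {a}).index ∣ 2) :
    (centralizer {a}).index = 2 :=
  ((Nat.dvd_prime Nat.prime_two).1 h).resolve_left (mt index_eq_one.1 (cent_ne_top ha))

theorem center_index_ne_eight (H : ∀ x : D, (centralizer {x}).index ∣ 2) :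
    (center D).index ≠ 8 := fun h8 => by
  obtain ⟨a, ha⟩ : ∃ a, a ∉ center D := by
    by_contra! h
    rw [(eq_top_iff' _).2 h, index_top] at h8
    omega
  obtain ⟨b, -, hb⟩ := SetLike.exists_of_lt (lt_top_iff_ne_top.2 (cent_ne_top ha))
  have h1 := index_cent_eq ha (H a)
  have h2 := index_inf_le (H := centralizer {a}) (K := centralizer {b})
  have h3 := Nat.le_of_dvd two_pos (H b)
  set K := centralizer {a} ⊓ centralizer {b}
  have h4 : center D ≤ K := le_inf (center_le_centralizer _) (center_le_centralizer _)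
  have h5 := relIndex_mul_index h4
  have h6 := relIndex_mul_index (show K ≤ centralizer {a} from inf_le_left)
  have h7 : a ∉ K := fun h => hb (mem_cent1.2 (mem_cent1.1 h.2).symm)
  have h9 := mt relIndex_eq_one.1 fun h : centralizer {a} ≤ K => h7 (h (mem_cent1.2 rfl))
  have h10 : K.index = 4 := by
    have := K.index_ne_zero_of_finite
    rw [h1] at h6 h2
    omega
  rw [h10, h8] at h5
  rw [h10, h1] at h6
  have h11 : (center D).relIndex K = 2 := by omega
  obtain ⟨k, hk, hk', h12⟩ := relIndex_eq_two_iff_exists_notMem_and.1 h11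
  refine hk' (mem_center_iff.2 (cent_of_index h1 hb (mem_cent1.1 hk.2).symm fun g hg => ?_))
  have h13 : ∀ g ∈ K, g * k = k * g := fun g hg => (h12 g hg).elim
    (fun h => by
      have := mem_center_iff.1 h k
      rw [← mul_assoc] at this
      exact (mul_right_cancel this).symm) fun h => (mem_center_iff.1 h k).symm
  by_cases h14 : g ∈ K
  · exact h13 g h14
  · have := h13 _ (mul_inv_mem_of_relIndex_two (by omega) hg (mem_cent1.2 rfl) h14 h7)
    rw [mul_assoc, ← (show Commute k a from mem_cent1.1 hk.1).inv_right.eq, ← mul_assoc,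
      ← mul_assoc] at this
    exact mul_right_cancel this

theorem comm_mem_of_sq {N : Subgroup D} (h : ∀ g, g * g ∈ N) (a b : D) : a * b * (b * a)⁻¹ ∈ N := by
  rw [show a * b * (b * a)⁻¹ = a * b * (a * b) * (b⁻¹ * a⁻¹ * b * (b⁻¹ * a⁻¹ * b)) * (b⁻¹ * b⁻¹) by
    group]
  exact mul_mem (mul_mem (h _) (h _)) (h _)

theorem comm_sq (h : a * x * (x * a)⁻¹ ∈ center D) (hx : x * x ∈ center D) :
    a * x * (x * a)⁻¹ * (a * x * (x * a)⁻¹) = 1 := by
  have h1 := mem_center_iff.1 h x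
  calc _ = a * x * (x * a)⁻¹ * (a * x * (x * a)⁻¹ * x) * x⁻¹ := by group
    _ = a * (x * x) * a⁻¹ * (x * x)⁻¹ := by rw [← h1]; group
    _ = 1 := by rw [mem_center_iff.1 hx a]; group

theorem comm_hom {M : Subgroup D} (hM : M.index = 2) (ht : b ∉ M) {L : Type*} [Group L]
    (φ : D →* L) {w : L} (h1 : Commute (φ b) w) (h2 : ∀ g ∈ M, Commute (φ g) w) (g : D) :
    Commute (φ g) w := by
  by_cases hg : g ∈ M
  · exact h2 g hg
  · simpa using (h2 (g * b⁻¹) ((mul_mem_iff_of_index_two hM).2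
      (iff_of_false hg (mt inv_mem_iff.1 ht)))).mul_left h1

section Four

variable (hZ : (center D).index = 4)
include hZ

theorem cent_two (ha : a ∉ center D) :
    (centralizer {a}).index = 2 ∧ (center D).relIndex (centralizer {a}) = 2 :=
  index_two_of_lt hZ (center_lt_cent ha) (cent_ne_top ha)

theorem comm_cent (ha : a ∉ center D) (hx : x ∈ centralizer {a}) {L : Type*} [Group L]
    (φ : D →* L) {w : L} (h1 : Commute (φ a) w) (h2 : ∀ g ∈ center D, Commute (φ g) w) :
    Commute (φ x) w := by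
  by_cases hg : x ∈ center D
  · exact h2 x hg
  · simpa using (h2 _ (mul_inv_mem_of_relIndex_two (cent_two hZ ha).2 hx (mem_cent1.2 rfl)
      hg ha)).mul_left h1

theorem comm_cent' (ha : a ∉ center D) (hx : x ∈ centralizer {a}) (hb : b ∈ centralizer {a}) :
    x * b = b * x :=
  comm_cent hZ ha hx (MonoidHom.id D) (mem_cent1.1 hb).symm fun _ hg => (mem_center_iff.1 hg b).symm

theorem exists_comm (hs : ∀ g, g * g ∈ center D) : ∃ a b c : D, c = a * b * (b * a)⁻¹ ∧
    c ∈ center D ∧ c ≠ 1 ∧ c * c = 1 ∧ ∀ x y : D, x * y * (y * x)⁻¹ ∈ zpowers c := by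
  obtain ⟨a, ha⟩ : ∃ a, a ∉ center D := by
    by_contra! h
    rw [(eq_top_iff' _).2 h, index_top] at hZ
    omega
  obtain ⟨b, -, hb⟩ := SetLike.exists_of_lt (lt_top_iff_ne_top.2 (cent_ne_top ha))
  have hc := comm_mem_of_sq hs a b
  refine ⟨a, b, _, rfl, hc, fun h => hb (mem_cent1.2 (mul_inv_eq_one.1 h).symm), ?_, fun x y => ?_⟩
  · exact comm_sq hc (hs b)
  set c := a * b * (b * a)⁻¹ with hcd
  have : (zpowers c).Normal := ⟨fun n hn g => by
    rwa [mem_center_iff.1 (zpowers_le.2 hc hn) g, mul_inv_cancel_right]⟩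
  let φ := QuotientGroup.mk' (zpowers c)
  have h0 : ∀ x y, Commute (φ x) (φ y) ↔ x * y * (y * x)⁻¹ ∈ zpowers c := fun x y => by
    rw [← QuotientGroup.eq_one_iff, ← QuotientGroup.mk'_apply, map_mul, map_inv, mul_inv_eq_one,
      map_mul, map_mul]; rfl
  have h1 : ∀ g ∈ center D, ∀ y, Commute (φ g) (φ y) := fun g hg y =>
    (show Commute g y from (mem_center_iff.1 hg y).symm).map φ
  have hM := (cent_two hZ ha).1
  have h2 := comm_hom hM hb φ ((h0 a b).2 (mem_zpowers c)).symm fun g hg =>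
    (show Commute g a from mem_cent1.1 hg).map φ
  have h3 : ∀ y, ∀ g ∈ centralizer {a}, Commute (φ g) (φ y) := fun y g hg =>
    comm_cent hZ ha hg φ (h2 y).symm fun g hg => h1 g hg y
  exact (h0 x y).1 (comm_hom hM hb φ (comm_hom hM hb φ (Commute.refl _) (h3 b) y).symm (h3 y) x)

end Four

variable (hD : IsPGroup 2 D)
include hD

theorem index_cent_dvd (hz : z ∈ center D) (hc : ∀ x y : D, x * y * (y * x)⁻¹ ∈ zpowers z)
    (hx : x * x ∈ center D) : (centralizer {x}).index ∣ 2 := by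
  by_cases h : x ∈ center D
  · rw [centralizer_eq_top_iff_subset.2 (Set.singleton_subset_iff.2 h), index_top]
    exact one_dvd 2
  obtain ⟨a, -, ha⟩ := SetLike.exists_of_lt (lt_top_iff_ne_top.2 (cent_ne_top h))
  have h1 : ∀ g : D, ∃ k ∈ zpowers z, g * x = k * x * g ∧ k * k = 1 := fun g => by
    exact ⟨_, hc g x, by group, comm_sq (zpowers_le.2 hz (hc g x)) hx⟩
  refine index_dvd_two_iff.2 ⟨a, fun g => or_iff_not_imp_right.2 fun hg => mem_cent1.2 ?_⟩
  obtain ⟨k, hk, h2, h3⟩ := h1 a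
  obtain ⟨l, hl, h4, h5⟩ := h1 g
  obtain rfl := invol_eq hD hk hl h3 h5 (fun h => ha (mem_cent1.2 (by rw [h2, h, one_mul])))
    fun h => hg (mem_cent1.2 (by rw [h4, h, one_mul]))
  rw [mul_assoc, h2, ← mul_assoc, ← mul_assoc, mem_center_iff.1 (zpowers_le.2 hz hk) g,
    mul_assoc k, h4, ← mul_assoc, ← mul_assoc, h3, one_mul, mul_assoc]

theorem index_zpowers_four (hc : Nat.card D = 16) (h4 : x ^ 4 = 1) (hx : x * x ≠ 1) :
    (zpowers x).index = 4 := by
  have : Fact (Nat.Prime 2) := ⟨Nat.prime_two⟩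
  have h1 := (zpowers x).card_mul_index
  rw [Nat.card_zpowers, orderOf_eq_prime_pow (p := 2) (n := 1) (by rwa [pow_one, sq]) h4, hc] at h1
  omega

theorem sq_central (hc : Nat.card D = 16) (h4 : ∀ g : D, g ^ 4 = 1) (x : D) : x * x ∈ center D := by
  have : Fact (Nat.Prime 2) := ⟨Nat.prime_two⟩
  by_contra hx
  have x1 : x * x ≠ 1 := fun h => hx (h ▸ one_mem _)
  have sq : ∀ g : D, g * g * (g * g) = 1 := fun g => by rw [← h4 g]; simp [pow_succ, mul_assoc]
  have xm : x * x ∈ zpowers x := mul_mem (mem_zpowers x) (mem_zpowers x)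
  have : Nontrivial D := Finite.one_lt_card_iff_nontrivial.1 (by omega)
  obtain ⟨z, hz, z1, z2⟩ := exists_orderOf (L := center D) Nat.prime_two
    ((hD.to_subgroup _).card_eq_or_dvd.resolve_left
      (Finite.one_lt_card_iff_nontrivial.2 hD.center_nontrivial).ne')
  obtain ⟨h1, h2⟩ := index_two_of_lt (index_zpowers_four hD hc (h4 x) x1)
    (lt_of_le_of_ne (zpowers_le.2 (mem_cent1.2 (mul_assoc x x x).symm)) fun h =>
      hx (invol_eq hD (h ▸ center_le_centralizer _ hz) xm (pow_two z ▸ z2) (sq x) z1 x1 ▸ hz))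
    (cent_ne_top hx)
  refine hx (mem_center_iff.2 fun g => mul_inv_eq_iff_eq_mul.1 ?_)
  have h3 := (normal_of_index_eq_two h1).conj_mem x (mem_cent1.2 (mul_assoc x x x).symm) g
  rw [← conj_mul]
  exact invol_eq hD ((mul_mem_iff_of_relIndex_two h2 h3 h3).2 Iff.rfl) xm (sq _) (sq x)
    (by rwa [conj_mul, Ne, conj_eq_one_iff]) x1

theorem center_index_four (hc : Nat.card D = 16) (h4 : ∀ g : D, g ^ 4 = 1)
    (hn : center D ≠ ⊤) : (center D).index = 4 := by
  have : Fact (Nat.Prime 2) := ⟨Nat.prime_two⟩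
  have : Nontrivial D := Finite.one_lt_card_iff_nontrivial.1 (by omega)
  obtain ⟨m, i, h1, h2, h3, h5, h6, h7⟩ := exists_cards Nat.prime_two hD (center D) (s := 4) hc.le
  have := h6 ((nontrivial_iff_ne_bot _).1 hD.center_nontrivial)
  have := h7 hn
  have h8 : i ≠ 1 := by
    rintro rfl
    obtain ⟨b, -, hb⟩ := SetLike.exists_of_lt (lt_top_iff_ne_top.2 hn)
    exact hb (mem_center_iff.2 (cent_of_index h3 hb rfl fun g hg => (mem_center_iff.1 hg b).symm))
  have h9 : i ≠ 3 := by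
    rintro rfl
    obtain rfl : m = 1 := by omega
    obtain ⟨z, hz, z1, z2⟩ := exists_orderOf Nat.prime_two h2.symm.dvd
    have h9 : zpowers z = center D := eq_of_le_of_card_ge (zpowers_le.2 hz)
      (by rw [h2, Nat.card_zpowers, orderOf_eq_prime z2 z1]; rfl)
    exact center_index_ne_eight (fun x => index_cent_dvd hD hz
      (h9 ▸ comm_mem_of_sq (sq_central hD hc h4)) (sq_central hD hc h4 x)) h3
  rw [h3, show i = 2 by omega]; rfl

theorem sm_of_e8 (hc : Nat.card D = 16) (h4 : ∀ g : D, g ^ 4 = 1) (hZ : ∀ z ∈ center D, z * z = 1)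
    (hs : s ∉ center D) (ss : s * s = 1) : Sm D := by
  obtain ⟨x, hx, x1⟩ : ∃ x, x ∉ centralizer {s} ∧ x * x ≠ 1 := by
    obtain ⟨x, -, hx⟩ := SetLike.exists_of_lt (lt_top_iff_ne_top.2 (cent_ne_top hs))
    by_cases x1 : x * x = 1
    · refine ⟨x * s, by rwa [mul_mem_cancel_right (mem_cent1.2 rfl)], fun h => hx (mem_cent1.2 ?_)⟩
      rw [eq_inv_of_mul_eq_one_left h, mul_inv_rev, ← eq_inv_of_mul_eq_one_left x1,
        ← eq_inv_of_mul_eq_one_left ss]
    · exact ⟨x, hx, x1⟩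
  have hsq := sq_central hD hc h4
  have hi := index_zpowers_four hD hc (h4 x) x1
  have xm : x * x ∈ zpowers x := mul_mem (mem_zpowers x) (mem_zpowers x)
  have key : ∀ y ∈ center D, y ≠ 1 → y ≠ x * x →
      s * x * s⁻¹ = x⁻¹ ∨ s * x * s⁻¹ = x⁻¹ * y → Sm D := fun y hy y1 y2 h =>
    sm_of_dy hD hi x1 (hZ y hy) (fun h => y2 (invol_eq hD h xm (hZ y hy) (hZ _ (hsq x)) y1 x1))
      (mem_center_iff.1 hy x) (mem_center_iff.1 hy s) ss (fun h => hx (mem_cent1.2 (mem_cent1.1
        (sup_le (zpowers_le.2 (mem_cent1.2 rfl)) (zpowers_le.2 (center_le_centralizer _ hy))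
          h)).symm)) h
  have hy : x * (s * x * s⁻¹) ∈ center D := by
    rw [show x * (s * x * s⁻¹) = x * x * (x⁻¹ * s * (s * x⁻¹)⁻¹) by group]
    exact mul_mem (hsq x) (comm_mem_of_sq hsq _ _)
  by_cases y1 : x * (s * x * s⁻¹) = 1
  · have h1 := (center D).card_mul_index
    rw [center_index_four hD hc h4 fun h => hs (h ▸ mem_top s), hc] at h1
    obtain ⟨y, y1', y2⟩ := ENat.exists_ne_ne_of_three_le (α := center D)
      (by rw [ENat.card_eq_coe_natCard]; norm_cast; omega) 1 ⟨_, hsq x⟩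
    exact key y y.2 (fun h => y1' (Subtype.ext h)) (fun h => y2 (Subtype.ext h))
      (.inl (eq_inv_of_mul_eq_one_right y1))
  · exact key _ hy y1 (fun h => hx (mem_cent1.2 (mul_inv_eq_iff_eq_mul.1 (mul_left_cancel h)).symm))
      (.inr (by group))

omit hD in
theorem fix_of_eight {X : Subgroup D} {φ : D → D} (h : OddAut X φ) (hc : Nat.card X = 8)
    (hX : ∀ a ∈ X, ∀ b ∈ X, a * b = b * a) (h4 : ∀ g ∈ X, g ^ 4 = 1) (ha : a ∈ X) (a1 : a * a ≠ 1)
    {g : D} (hg : g ∈ X) : φ g = g := by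
  have : Fact (Nat.Prime 2) := ⟨Nat.prime_two⟩
  have h1 := card_mul_relIndex (zpowers_le.2 ha)
  rw [Nat.card_zpowers, orderOf_eq_prime_pow (p := 2) (n := 1) (by rwa [pow_one, sq]) (h4 a ha),
    hc] at h1
  have hi : (zpowers a).relIndex X = 2 := by omega
  have sq : ∀ g ∈ X, g * g * (g * g) = 1 := fun g hg => by
    rw [← h4 g hg]; simp [pow_succ, mul_assoc]
  have iv : ∀ k ∈ zpowers a, k * k = 1 → k = 1 ∨ k = a * a := fun k hk k2 => by
    obtain ⟨n, rfl⟩ := hk
    have h2 : a ^ (4 : ℤ) = 1 := by exact_mod_cast h4 a ha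
    simp only at k2 ⊢
    rw [zpow_eq_zpow_emod n h2] at k2 ⊢
    have h3 : n % 4 = 0 ∨ n % 4 = 1 ∨ n % 4 = 2 ∨ n % 4 = 3 := by omega
    rcases h3 with h3 | h3 | h3 | h3 <;> rw [h3] at k2 ⊢
    · exact .inl (zpow_zero a)
    · exact absurd (by simpa using k2) a1
    · exact .inr (zpow_two a)
    · exact absurd (by rw [← k2, ← mul_one (a * a), ← h2]; group) a1
  have ft : φ (a * a) = a * a := by
    have h2 := h.mem a ha
    rw [h.mul a ha a ha]
    refine (iv _ ((mul_mem_iff_of_relIndex_two hi h2 h2).2 Iff.rfl) (sq _ h2)).resolve_left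
      fun h3 => a1 (h.inj (mul_mem ha ha) (one_mem X) ?_)
    rw [h.mul a ha a ha, h3, h.one]
  have fk : ∀ k ∈ zpowers a, k * k = 1 → φ k = k := fun k hk k2 => by
    rcases iv k hk k2 with rfl | rfl
    exacts [h.one, ft]
  refine h.fix_of_fix_omega hX (fun g hg g2 => ?_) hg
  by_cases h2 : g ∈ zpowers a
  · exact fk g h2 g2
  have h3 := h.mem g hg
  have h5 : φ g * φ g = 1 := by rw [← h.mul g hg g hg, g2, h.one]
  refine h.fix_of_fix hg (fk _ (mul_inv_mem_of_relIndex_two hi h3 hg (fun h6 => h2 ?_) h2) ?_)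
  · rwa [← h.inj h3 hg (fk _ h6 h5)]
  · rw [mul_assoc, ← mul_assoc g⁻¹, hX _ (inv_mem hg) _ h3, ← mul_assoc, ← mul_assoc, h5, one_mul,
      ← mul_inv_rev, g2, inv_one]

/-- An automorphism of order a power of `7` fixing a large central cyclic subgroup. -/
theorem eq_one_of_seven (hz : z ∈ center D) (hi : (zpowers z).index ≤ 2 ^ 4)
    (hc : ∀ x y : D, x * y * (y * x)⁻¹ ∈ zpowers z) (hn : center D ≠ ⊤) {γ : MulAut D} {k : ℕ}
    (hγ : γ ^ 7 ^ k = 1) (h1 : γ z = z) : γ = 1 := by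
  have : Fact (Nat.Prime 2) := ⟨Nat.prime_two⟩
  by_contra γ1
  set F := fx (zpowers γ)
  have mF : ∀ x, x ∈ F ↔ γ x = x := fun _ => mem_fx_zpowers
  have hZ : zpowers z ≤ F := zpowers_le.2 ((mF z).2 h1)
  have h2 : ∀ H, F ≤ H → (∀ x ∈ H, γ x ∈ H) → F.relIndex H ≡ 1 [MOD 7] := fun H h2 h3 => by
    have h4 := card_modEq (by norm_num) (pgp_zpowers hγ) H (inv_zpowers h3)
    obtain ⟨m, hm⟩ := (hD.to_subgroup F).exists_card_eq
    rw [inf_eq_right.2 h2, ← card_mul_relIndex h2, hm] at h4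
    exact Nat.ModEq.cancel_left_of_coprime (c := 2 ^ m) (Nat.Coprime.pow_right _ (by norm_num))
      (by rwa [mul_one])
  have h3 := relIndex_mul_index hZ
  have h0 := (zpowers z).index_ne_zero_of_finite
  have h8 : F.index = 8 := by
    obtain ⟨i, hi'⟩ := hD.index F
    have h4 := h2 ⊤ le_top fun _ _ => trivial
    have h5 := (Nat.pow_le_pow_iff_right one_lt_two).1
      ((hi' ▸ Nat.le_of_dvd (Nat.pos_of_ne_zero h0) (index_dvd_of_le hZ)).trans hi)
    have h6 := mt index_eq_one.1 (mt fx_eq_top.1 γ1)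
    rw [relIndex_top_right, hi'] at h4
    rw [hi'] at h6 ⊢
    exact (by decide : ∀ i ≤ 4, 2 ^ i ≡ 1 [MOD 7] → 2 ^ i ≠ 1 → 2 ^ i = 8) i h5 h4 h6
  have h4 : ∀ H, F ≤ H → (∀ x ∈ H, γ x ∈ H) → H ≤ F ∨ H = ⊤ := fun H h4 h5 => by
    have h6 := relIndex_mul_index h4
    have h7 := h2 H h4 h5
    rw [h8] at h6
    rw [← relIndex_eq_one, ← index_eq_one]
    have h9 := Nat.le_of_dvd (by norm_num) (Dvd.intro _ h6)
    generalize F.relIndex H = j at *
    interval_cases j <;> simp_all [Nat.ModEq] <;> omega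
  have h5 : ∀ a ∈ F, ∀ b ∈ F, a ∈ zpowers z ∨ b ∈ zpowers z ∨ a * b⁻¹ ∈ zpowers z :=
    fun a ha b hb => by
    rw [h8] at h3
    by_cases h5 : (zpowers z).relIndex F = 1
    · exact .inl (relIndex_eq_one.1 h5 ha)
    · exact or_iff_not_imp_left.2 fun h6 => or_iff_not_imp_left.2
        (mul_inv_mem_of_relIndex_two (by omega) ha hb h6)
  have hz' := zpowers_le.2 hz
  have h6 : F ≤ center D := fun f hf => by
    by_contra h6
    have h7 := index_cent_eq h6 (index_cent_dvd hD hz hc (by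
      rcases h5 f hf f⁻¹ (inv_mem hf) with h | h | h
      exacts [absurd (hz' h) h6, absurd (hz' (inv_mem_iff.1 h)) h6, hz' (by rwa [inv_inv] at h)]))
    refine (h4 _ (fun a ha => mem_cent1.2 ?_) fun x hx => mem_cent1.2 ?_).elim
      (fun h => ?_) (cent_ne_top h6)
    · rcases h5 a ha f hf with h | h | h
      · exact (mem_center_iff.1 (hz' h) f).symm
      · exact absurd (hz' h) h6
      · have := mem_center_iff.1 (hz' h) f
        rw [inv_mul_cancel_right, ← mul_assoc, mul_inv_eq_iff_eq_mul] at this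
        exact this.symm
    · rw [← (mF f).1 hf, ← map_mul, mem_cent1.1 hx, map_mul]
    · have := index_dvd_of_le h
      rw [h7, h8] at this
      omega
  have h7 : center D = F := le_antisymm ((h4 _ h6 fun x hx => mem_center_iff.2 fun g => by
    rw [← γ.apply_symm_apply g, ← map_mul, mem_center_iff.1 hx, map_mul]).resolve_right hn) h6
  let H : Subgroup D :=
    { carrier := {x | x * x ∈ F}
      one_mem' := F.mul_mem F.one_mem F.one_mem
      inv_mem' := fun {x} hx => by simpa using F.inv_mem hx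
      mul_mem' := fun {x y} hx hy => by
        have := F.mul_mem (F.mul_mem hx (hZ (hc x⁻¹ y))) hy
        rwa [show x * x * (x⁻¹ * y * (y * x⁻¹)⁻¹) * (y * y) = x * y * (x * y) by group] at this }
  rcases h4 H (fun x hx => mul_mem hx hx) (fun x hx => show γ x * γ x ∈ F by
    rwa [← map_mul, (mF _).1 hx]) with h9 | h9
  · exact hn (h7.trans ((eq_top_iff' _).2 fun g => (OddAut.of_conj (hD.to_subgroup ⊤) (n := 1)
      (one_mem _) (by simp)).induction (· ∈ F) (one_mem _) (fun g _ hg => h9 hg) (mem_top g)))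
  · exact center_index_ne_eight (fun x => index_cent_dvd hD hz hc
      (h7 ▸ (h9 ▸ mem_top x : x ∈ H))) (h7 ▸ h8)

end Cfsg.Agent.H35
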