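import Cfsg.Agent.H35.KbRed

/-! Blocks with elementary abelian defect group of order `16` and inertial quotient `C₃ × C₃`;
consequences of Watanabe's theorem. -/

set_option autoImplicit false
set_option linter.unusedSectionVars false

open MonoidAlgebra Subgroup ComplexConjugate

namespace Cfsg.Agent.H35

open Cfsg Cfsg.Agent.H87 Cfsg.Agent.H32 Cfsg.Agent.H86 Cfsg.Agent.H34

universe u

variable {M : Ideal AlgInt} [hMm : M.IsMaximal] {G : Type u} [Group G] [Finite G] {p : ℕ}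
  {B : Set (IrrCharacter G)} {P : Subgroup G} {e : (Res M)[G]}

theorem exists_int_D (h : Ctx M p B P e) {w : G} (hw : w ∈ P) (h1 : R1 p P e w)
    (h2 : orderOf w = 2) (χ : IrrCharacter G) : ∃ n : ℤ, D p P e w χ = n := by
  obtain ⟨i, h3⟩ := h1.exists_ibr h hw
  have := Fintype.ofFinite G
  have := Fintype.ofFinite (Ce (zpowers w))
  obtain ⟨Q, hQ⟩ := fam_gdec (isCent_zpowers w) (h2 ▸ IsPrimitiveRoot.neg_one 0 (by norm_num))
    (H53.virt_of_irr χ.2) i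
  have h4 := hQ 1 (by simp)
  rw [D, dn_eq_gdec h.hM (irr_cf χ.2) (isCent_zpowers w) (h.blk_spec hw).1 h3]
  simp only [pow_one] at h4
  exact ⟨Q.eval (-1), by
    simpa [h4] using Polynomial.aeval_algebraMap_apply_eq_algebraMap_eval (A := ℂ) (-1) Q⟩

open Classical in
theorem exists_int_cn (h : Ctx M p B P e) {u w : P} (V : Subgroup P) [V.Normal] (hV : V.index = 4)
    (huw : ¬ Fz p P e u w) (H : ∀ x : P, x ∉ V ↔ Fz p P e u x ∨ Fz p P e w x)
    (χ ψ : IrrCharacter G) : ∃ n : ℤ, 4 * (cn p P e u χ ψ + cn p P e w χ ψ) = n := by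
  have := Fintype.ofFinite G
  have h1 : (4 : ℂ) • ((fun x : P => if Fz p P e u x then (1 : ℂ) else 0) +
      fun x : P => if Fz p P e w x then (1 : ℂ) else 0) = (4 : ℕ) • (fun _ => 1) -
        fun x : P => if QuotientGroup.mk' V x = 1 then (Nat.card (P ⧸ V) : ℂ) else 0 := by
    funext x
    have h1 := H x
    have h2 : ¬ (Fz p P e u x ∧ Fz p P e w x) := fun h2 => huw (h.fz_trans h2.1 (h.fz_symm w.2 h2.2))
    rw [← index_eq_card, hV]
    simp only [Pi.smul_apply, Pi.add_apply, Pi.sub_apply, QuotientGroup.mk'_apply,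
      QuotientGroup.eq_one_iff, smul_eq_mul, nsmul_eq_mul]
    by_cases h3 : Fz p P e u x
    · rw [if_pos h3, if_neg fun h4 => h2 ⟨h3, h4⟩, if_neg (h1.2 (.inl h3))]; norm_num
    by_cases h4 : Fz p P e w x
    · rw [if_neg h3, if_pos h4, if_neg (h1.2 (.inr h4))]; norm_num
    · rw [if_neg h3, if_neg h4, if_pos (not_not.1 fun h5 => (h1.1 h5).elim h3 h4)]; norm_num
  obtain ⟨n, hn⟩ := H53.virt_ci_int (h.virt_st (((h.stab_ind u).add (h.stab_ind w)).smul 4)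
    (h1 ▸ H53.virt_sub (H53.virt_nsmul _ (H53.virt_of_irr H5.isIrrCharacter_one))
      (H53.virt_comp (H53.virt_of_char H5.isCharacter_regular) (QuotientGroup.mk' V)))
    (H53.virt_of_irr χ.2)) (H53.virt_of_irr ψ.2)
  rw [st_smul_left, st_add_left, H5.classInner_smul_left, H5.classInner_add_left,
    h.ci_st_ind u.2 (irr_cf χ.2) (irr_cf ψ.2), h.ci_st_ind w.2 (irr_cf χ.2) (irr_cf ψ.2)] at hn
  exact ⟨n, hn⟩

theorem cn_pos (h : Ctx M p B P e) {u : G} (hu : u ∈ P) (hc : u ∈ Ce P) {χ : IrrCharacter G}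
    (hχ : χ ∈ fs B) {c : ℕ} (h0 : 0 < c) {n : ℤ} (hn : c * cn p P e u χ χ = n) : 0 < n := by
  rw [cn_self_eq_norm] at hn
  have h6 : (c : ℝ) * ‖cn p P e u χ χ‖ = n := by exact_mod_cast hn
  exact_mod_cast h6 ▸ mul_pos (Nat.cast_pos.2 h0)
    (norm_pos_iff.2 (h.cn_self_ne_zero_of_central hu hc (mem_fs.1 hχ)))

theorem pj_of_cn (h : Ctx M p B P e) (hab : P ≤ Ce P) {u w : P} (huw : ¬ Fz p P e u w)
    (h1 : lb p P e w = 1) {E : IrrCharacter G → IrrCharacter G → ℤ} {d : IrrCharacter G → ℤ}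
    (hE : ∀ χ ψ : IrrCharacter G, 4 * (cn p P e u χ ψ + cn p P e w χ ψ) = E χ ψ)
    (hd : ∀ χ ψ : IrrCharacter G, 16 * cn p P e w χ ψ = d χ * d ψ) (h0 : ∀ χ ∈ fs B, d χ ≠ 0) :
    Pj (fs B) E d (lb p P e u) := by
  have hs := fun (a b : P) (χ ψ : IrrCharacter G) =>
    h.sum_cn_mul_cn a.2 b.2 (irr_cf χ.2) (irr_cf ψ.2)
  have hwu : ¬ Fz p P e w u := fun h2 => huw (h.fz_symm w.2 h2)
  refine ⟨fun χ ψ => Int.cast_injective (α := ℂ) ?_, fun χ _ ψ _ => Int.cast_injective (α := ℂ) ?_,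
    fun χ hχ => mul_right_cancel₀ (h0 χ hχ) (Int.cast_injective (α := ℂ) ?_), fun χ hχ => ?_,
    Int.cast_injective (α := ℂ) ?_⟩
  · rw [← hE, ← map_intCast (starRingEnd ℂ), ← hE, map_mul, map_add, conj_cn, conj_cn, map_ofNat]
  · push_cast
    simp only [← hE, mul_mul_mul_comm (4 : ℂ), ← Finset.mul_sum, add_mul, mul_add (cn p P e _ _ _),
      Finset.sum_add_distrib, hs, if_pos (h.fz_refl u.2), if_pos (h.fz_refl w.2), if_neg huw,
      if_neg hwu]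
    ring
  · push_cast
    simp only [Finset.sum_mul, mul_assoc, ← hE, ← hd, mul_left_comm _ (16 : ℂ), ← Finset.mul_sum,
      add_mul, Finset.sum_add_distrib, hs, if_pos (h.fz_refl w.2), if_neg huw]
    ring
  · refine sub_pos.1 (cn_pos h u.2 (hab u.2) hχ (c := 16) (by norm_num) ?_)
    push_cast
    rw [← hE, sq, ← hd]; ring
  · push_cast
    simp only [← hE, ← Finset.mul_sum, Finset.sum_add_distrib, h.sum_cn_self u.2,
      h.sum_cn_self w.2, h1, Nat.cast_one]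

theorem ite_four {a b c d x y : Prop} [Decidable a] [Decidable b] [Decidable c] [Decidable d]
    (h1 : ¬ x ↔ a ∨ c) (h2 : ¬ y ↔ b ∨ c) (h3 : ¬ (a ∧ c)) (h4 : ¬ (b ∧ c)) (h5 : ¬ (a ∧ b))
    (h6 : d ↔ x ∧ y) : (if d then (1 : ℂ) else 0) + (if a then 1 else 0) + (if b then 1 else 0) +
      (if c then 1 else 0) = 1 := by
  by_cases a <;> by_cases b <;> by_cases c <;> by_cases d <;> simp [*] <;> tauto

set_option maxHeartbeats 1600000 in
theorem kp_of_grid {e : (Res M)[G]} (h : Ctx M 2 B P e) (hab : P ≤ Ce P) (hP : Nat.card P = 16)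
    {u v w : P} (V W : Subgroup P) [V.Normal] [W.Normal] (hV : V.index = 4) (hW : W.index = 4)
    (h1 : ∀ x : P, x ∉ V ↔ Fz 2 P e u x ∨ Fz 2 P e w x)
    (h2 : ∀ x : P, x ∉ W ↔ Fz 2 P e v x ∨ Fz 2 P e w x) (h3 : V ⊓ W = ⊥)
    (huw : ¬ Fz 2 P e u w) (hvw : ¬ Fz 2 P e v w) (huv : ¬ Fz 2 P e u v) (hw : orderOf w = 2)
    (lu : lb 2 P e u = 1 ∨ lb 2 P e u = 3) (lv : lb 2 P e v = 1 ∨ lb 2 P e v = 3)
    (lw : lb 2 P e w = 1) : blockRank 2 B ≤ 3 ∨ KP 2 B 16 := by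
  classical
  have := Fintype.ofFinite G
  choose E hE using exists_int_cn h V hV huw h1
  choose F hF using exists_int_cn h W hW hvw h2
  choose d hd using exists_int_D h w.2 lw ((orderOf_coe w).trans hw)
  have hd' : ∀ χ ψ : IrrCharacter G, 16 * cn 2 P e w χ ψ = d χ * d ψ := fun χ ψ => by
    have h4 := R1.pow_mul_cn h w.2 lw (irr_cf χ.2) (irr_cf ψ.2)
    rwa [h.df_of_central w.2 (hab w.2), ← Nat.cast_pow, ← h.card_eq, hP, hd, hd, map_intCast] at h4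
  have h0 : ∀ χ ∈ fs B, d χ ≠ 0 := fun χ hχ h0 => (cn_pos h w.2 (hab w.2) hχ (c := 16)
    (n := d χ * d χ) (by norm_num) (by push_cast; exact hd' χ χ)).ne' (by simp [h0])
  have hs := fun (a b : P) (χ ψ : IrrCharacter G) =>
    h.sum_cn_mul_cn a.2 b.2 (irr_cf χ.2) (irr_cf ψ.2)
  have hn : ∀ {a b : P}, ¬ Fz 2 P e a b → ¬ Fz 2 P e b a := fun {_ b} h4 h5 => h4 (h.fz_symm b.2 h5)
  have h1x : ∀ x : P, Fz 2 P e (1 : P) x ↔ x ∈ V ∧ x ∈ W := fun x => by
    rw [← mem_inf, h3, mem_bot]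
    exact ⟨fun h4 => h4.one_iff.1 rfl, fun h4 => h4 ▸ h.fz_refl x.2⟩
  have h4 : ∀ χ ∈ fs B, ∀ ψ : IrrCharacter G, cn 2 P e (1 : P) χ ψ + cn 2 P e u χ ψ +
      cn 2 P e v χ ψ + cn 2 P e w χ ψ = if χ = ψ then 1 else 0 := fun χ hχ ψ => by
    simp only [← h.ci_st_ind (Subtype.prop _) (irr_cf χ.2) (irr_cf ψ.2), ← H5.classInner_add_left,
      ← st_add_left, ← H5.classInner_irrCharacter]
    rw [← congrArg (classInner · (ψ : G → ℂ)) (h.st_one_of_mem (mem_fs.1 hχ))]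
    congr 2
    funext x
    have h7 : ∀ {a b : P}, ¬ Fz 2 P e a b → ¬ (Fz 2 P e a x ∧ Fz 2 P e b x) :=
      fun {_ b} h7 h8 => h7 (h.fz_trans h8.1 (h.fz_symm b.2 h8.2))
    exact ite_four (h1 x) (h2 x) (h7 huw) (h7 hvw) (h7 huv) (h1x x)
  have h5 : ∀ (f : IrrCharacter G → ℂ) (ψ : IrrCharacter G), classInner (pRegularPart 2 (lin B f)) ψ =
      ∑ χ ∈ fs B, f χ * cn 2 P e (1 : P) χ ψ := fun f ψ => by
    rw [lin, reg_sum, H5.classInner_sum_left]
    exact Finset.sum_congr rfl fun χ hχ => by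
      rw [reg_smul, H5.classInner_smul_left, coe_one, cn_one h (irr_cf χ.2) (irr_cf ψ.2),
        H86.blockPart_irr_of_mem (mem_fs.1 hχ)]
  have h6 : ∀ (f : IrrCharacter G → ℂ) (a b : P) (ψ : IrrCharacter G),
      ∑ β ∈ fs B, (∑ χ ∈ fs B, f χ * cn 2 P e a χ β) * cn 2 P e b β ψ =
        if Fz 2 P e a b then ∑ χ ∈ fs B, f χ * cn 2 P e a χ ψ else 0 := fun f a b ψ => by
    simp only [Finset.sum_mul, mul_assoc]
    rw [Finset.sum_comm]
    simp only [← Finset.mul_sum, hs]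
    split_ifs <;> simp
  have pE := pj_of_cn h hab huw lw hE hd' h0
  have pF := pj_of_cn h hab hvw lw hF hd' h0
  have h7 : ∀ {a : P} {E : IrrCharacter G → IrrCharacter G → ℤ}, (∀ χ ψ, E χ ψ = E ψ χ) →
      (∀ χ ψ : IrrCharacter G, 4 * (cn 2 P e a χ ψ + cn 2 P e w χ ψ) = E χ ψ) →
      ∀ (f : IrrCharacter G → ℂ) ψ, ∑ χ ∈ fs B, E ψ χ * f χ = 4 *
        (∑ χ ∈ fs B, f χ * cn 2 P e a χ ψ + ∑ χ ∈ fs B, f χ * cn 2 P e w χ ψ) :=
    fun h7 h8 f ψ => by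
    rw [← Finset.sum_add_distrib, Finset.mul_sum]
    exact Finset.sum_congr rfl fun χ _ => by rw [h7, ← h8]; ring
  refine (grid pE pF lu lv (fun χ _ ψ _ => Int.cast_injective (α := ℂ) ?_)
    (Int.cast_injective (α := ℂ) ?_) h0 (fun χ hχ => ?_) (Nat.cast_injective (R := ℂ) ?_)).imp_right
    fun h8 => h8.congr fun f => ⟨fun ⟨h8, h9⟩ => ?_, fun h8 => ?_⟩
  · push_cast
    simp only [← hE, ← hF, ← hd', mul_mul_mul_comm (4 : ℂ), ← Finset.mul_sum, add_mul,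
      mul_add (cn 2 P e _ _ _), Finset.sum_add_distrib, hs, if_pos (h.fz_refl w.2), if_neg huw,
      if_neg huv, if_neg (hn hvw)]
    ring
  · push_cast
    simp only [sq, ← hd', ← Finset.mul_sum, h.sum_cn_self w.2, lw, Nat.cast_one, mul_one]
  · refine sub_nonneg.1 (cn_pos h (1 : P).2 (hab (1 : P).2) hχ (c := 16) (by norm_num) ?_).le
    have h8 := h4 χ hχ χ
    rw [if_pos rfl] at h8
    push_cast
    rw [← hE, ← hF, sq, ← hd', ← OneMemClass.coe_one P]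
    linear_combination 16 * h8
  · have h8 := Finset.sum_congr rfl fun χ hχ => (h4 χ hχ χ).trans (if_pos rfl)
    simp only [Finset.sum_add_distrib, h.sum_cn_self (Subtype.prop _), lw] at h8
    rw [coe_one, h.lb_one] at h8
    simpa using h8.symm
  · simp only [h7 pE.symm hE, h7 pF.symm hF, mul_eq_zero, OfNat.ofNat_ne_zero, false_or] at h8 h9
    have h10 : ∀ ψ : IrrCharacter G, ∑ χ ∈ fs B, f χ * cn 2 P e w χ ψ = 0 := fun ψ => by
      have h10 := Finset.sum_eq_zero (s := fs B) fun β hβ =>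
        mul_eq_zero_of_left (h8 β hβ) (cn 2 P e w β ψ)
      simpa only [add_mul, Finset.sum_add_distrib, h6, if_neg huw, if_pos (h.fz_refl w.2),
        zero_add] using h10
    rw [← blockPart_lin, ← H86.blockPart_reg h.hM h.hB, H86.blockPart_eq, blockPart_lin]
    refine Finset.sum_congr rfl fun ψ hψ => congrArg (· • _) ?_
    have h11 := Finset.sum_congr rfl fun χ hχ => congrArg (f χ * ·) (h4 χ hχ ψ)
    simp only [mul_add, Finset.sum_add_distrib, mul_ite, mul_one, mul_zero, Finset.sum_ite_eq',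
      if_pos hψ] at h11
    rw [h5]
    linear_combination h11 - h8 ψ hψ - h9 ψ hψ + h10 ψ
  · have h9 : ∀ a : P, a ≠ 1 → ∀ ψ : IrrCharacter G, ∑ χ ∈ fs B, f χ * cn 2 P e a χ ψ = 0 :=
      fun a ha ψ => by
      rw [Finset.sum_congr rfl fun χ hχ => by rw [← ci_lin f hχ, ← h8, h5], h6,
        if_neg fun h9 => ha (h9.one_iff.1 rfl)]
    have h10 : ∀ {a : P} {V : Subgroup P}, a ∉ V → a ≠ 1 := fun h10 h11 => h10 (h11 ▸ one_mem _)
    simp only [h7 pE.symm hE, h7 pF.symm hF, h9 u (h10 ((h1 u).2 (.inl (h.fz_refl u.2)))),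
      h9 v (h10 ((h2 v).2 (.inl (h.fz_refl v.2)))), h9 w (h10 ((h1 w).2 (.inr (h.fz_refl w.2))))]
    simp

/-- **Watanabe**, for subgroups. -/
theorem lq_eq_of_fix (h : Ctx M p B P e) (hab : P ≤ Ce P) {Q V : Subgroup G} (hQ : Q ≤ V)
    (hV : V ≤ P) (H : ∀ t ∈ No P ⊓ stab e, t ∈ Ce Q → t ∈ Ce V) : lq p P e V = lq p P e Q := by
  obtain ⟨W, -, ⟨h1, h2, h3⟩, h4⟩ := Finite.exists_le_maximal
    (p := fun W => Q ≤ W ∧ W ≤ V ∧ lq p P e W = lq p P e Q) ⟨le_rfl, hQ, rfl⟩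
  refine le_antisymm h2 (fun z hz => h4 ⟨le_sup_of_le_left h1, sup_le h2 (zpowers_le.2 hz),
    (h.lq_sup hab (h2.trans hV) (hV hz) fun t ht h5 => ?_).trans h3⟩ le_sup_left
      (mem_sup_right (mem_zpowers z))) ▸ h3
  rw [← mem_Ce.1 (H t ht (Ce_anti h1 h5)) z hz, mul_inv_cancel_right]

theorem lb_eq_lq (h : Ctx M p B P e) (hab : P ≤ Ce P) {u : P} {V : Subgroup P} (hu : u ∈ V)
    (H : ∀ γ ∈ iq P e, γ u = u → ∀ v ∈ V, γ v = v) :
    lb p P e u = lq p P e (V.map P.subtype) := by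
  rw [← h.lq_zpowers u.2, lq_eq_of_fix h hab (Q := zpowers (u : G)) (zpowers_le.2 (mem_map_of_mem _ hu))
    (map_subtype_le V) fun t ht h1 => mem_Ce.2 ?_]
  rintro _ ⟨v, hv, rfl⟩
  obtain ⟨γ, hγ, h2⟩ := exists_mem_iq ht
  exact (mul_inv_eq_iff_eq_mul.1 ((h2 v).symm.trans (congrArg Subtype.val (H γ hγ (Subtype.ext (by
    rw [h2, ← mem_Ce.1 h1 u (mem_zpowers _), mul_inv_cancel_right])) v hv)))).symm

theorem ab_of_comm (H : ∀ a b : P, a * b = b * a) : P ≤ Ce P :=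
  fun a ha => mem_Ce_of_comm' (u := ⟨a, ha⟩) fun g => H _ _

theorem rank_of_cyclic' (h : Ctx M p B P e) [IsCyclic P] :
    blockRank p B ≤ Nat.card (iq P e) ∧ Nat.card (iq P e) ∣ p - 1 := by
  have : Fact p.Prime := ⟨h.hM.1⟩
  have hab : P ≤ Ce P := ab_of_comm (IsCyclic.commGroup (α := P)).mul_comm
  have hf := fpf_of_cyclic h.pgp (not_dvd_card_iq h hab)
  by_cases hP : P = ⊥
  · subst hP
    have h1 := h.card_eq
    rw [card_bot, eq_comm, Nat.pow_eq_one, or_iff_right h.hM.1.ne_one] at h1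
    have := Fintype.ofFinite G
    have h2 : Nat.card (iq ⊥ e) = 1 := card_eq_one.2 (eq_bot_iff.2 fun γ _ =>
      MulEquiv.ext fun _ => Subsingleton.elim _ _)
    rw [h2]
    exact ⟨(blockRank_le_card _).trans (card_eq_one_of_defect_zero h.hM h.hB h1).le, one_dvd _⟩
  obtain ⟨δ, hδ⟩ := exists_frob h hab hf
  exact ⟨hδ.rank_le hP, FpfA.card_dvd_pred hf ((h.pgp.card_eq_or_dvd).resolve_left
    fun h1 => hP (card_eq_one.1 h1))⟩

theorem rank_of_le_four {e : (Res M)[G]} (h : Ctx M 2 B P e) (hP : Nat.card P ≤ 4) :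
    blockRank 2 B = Nat.card (iq P e) ∧ (blockRank 2 B = 1 ∨ blockRank 2 B = 3) := by
  have : Fact (Nat.Prime 2) := ⟨Nat.prime_two⟩
  by_cases hc : IsCyclic P
  · rw [rank_of_cyclic h hc, Nat.dvd_one.1 (rank_of_cyclic' h).2]
    exact ⟨rfl, .inl rfl⟩
  obtain ⟨n, hn⟩ := h.pgp.exists_card_eq
  have h1 : Nat.card P = 2 ^ 2 := by
    rcases n with _ | _ | _ | n
    · exact (hc (isCyclic_of_card_dvd_prime (p := 2) (by simp [hn]))).elim
    · exact (hc (isCyclic_of_prime_card hn)).elim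
    · exact hn
    · rw [hn, pow_add] at hP
      have := Nat.one_le_two_pow (n := n)
      omega
  have : IsKleinFour P := ⟨h1, (not_isCyclic_iff_exponent_eq_prime Nat.prime_two h1).1 hc⟩
  obtain ⟨h2, h3, -⟩ := exists_std_of_three h (ab_of_comm (mul_comm_of_exponent_two IsKleinFour.exponent_two))
    card_inv_of_klein
  exact ⟨h3, h3 ▸ h2⟩

end Cfsg.Agent.H35
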