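import Cfsg.Agent.H35.KbAut
import Cfsg.Agent.H87.Std
import Cfsg.Agent.H49.Hall
import Cfsg.Agent.S0205

/-! Elements with small stabilizers in coprime groups of automorphisms of abelian groups. -/

set_option autoImplicit false
set_option linter.unusedSectionVars false
set_option synthInstance.maxSize 2048

open Subgroup

namespace Cfsg.Agent.H35

open Cfsg Cfsg.Agent.H34 Cfsg.Agent.H87

variable {A : Type*} [Group A] [Finite A] {Γ : Subgroup (MulAut A)} {γ δ : MulAut A} {p r : ℕ}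

theorem fix_of_mem_zpowers {x : A} (h : δ ∈ zpowers γ) (hx : γ x = x) : δ x = x :=
  mem_fx.1 (mem_fx_zpowers.2 hx) δ h

theorem no_pair {q : ℕ} (hq : q.Prime) (h7 : ¬ 7 ∣ q) (hq7 : ¬ q ∣ 7)
    (n7 : ∀ d, d ∣ q → d % 7 = 1 → d = 1) (nq : ∀ d, d ∣ 7 → d % q = 1 → d = 1)
    (hA : Nat.card A < 7 * q) : Nat.card Γ ≠ 7 * q := fun hΓ => by
  have p7 : Nat.Prime 7 := by norm_num
  obtain ⟨σ, hσ, σ1, σ7⟩ := exists_orderOf p7 (hΓ ▸ dvd_mul_right 7 q)
  obtain ⟨τ, hτ, τ1, τq⟩ := exists_orderOf hq (hΓ ▸ dvd_mul_left q 7)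
  have h1 : ∀ x, σ x = x ∨ τ x = x := fun x => by
    let S := Γ ⊓ MulAction.stabilizer (MulAut A) x
    have h1 : Nat.card S ≠ 1 := fun h1 => by
      have h2 := MulAction.index_stabilizer Γ x
      rw [show MulAction.stabilizer Γ x = ⊥ from eq_bot_iff.2 fun g hg => Subtype.ext
        (mem_bot.1 (card_eq_one.1 h1 ▸ (⟨g.2, hg⟩ : g.1 ∈ S))), index_bot, hΓ] at h2
      exact (h2 ▸ Set.ncard_le_card _).not_gt hA
    obtain ⟨r, hr, h2⟩ := Nat.exists_prime_and_dvd h1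
    obtain ⟨g, hg, g1, gr⟩ := exists_orderOf hr h2
    rcases (hr.dvd_mul).1 (hΓ ▸ h2.trans (card_dvd_of_le inf_le_left)) with h3 | h3
    · obtain rfl := (Nat.prime_dvd_prime_iff_eq hr p7).1 h3
      exact .inl (fix_of_mem_zpowers (mem_zpowers_of_sylow p7 hΓ.dvd h7 n7 hg.1 hσ g1 gr σ7) hg.2)
    · obtain rfl := (Nat.prime_dvd_prime_iff_eq hr hq).1 h3
      exact .inr (fix_of_mem_zpowers (mem_zpowers_of_sylow hq (mul_comm 7 r ▸ hΓ.dvd) hq7 nq hg.1
        hτ g1 gr τq) hg.2)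
  obtain ⟨a, ha⟩ := not_forall.1 (mt MulEquiv.ext σ1)
  obtain ⟨b, hb⟩ := not_forall.1 (mt MulEquiv.ext τ1)
  rcases h1 (a * b) with h | h
  · rw [map_mul, (h1 b).resolve_right hb] at h
    exact ha (mul_right_cancel h)
  · rw [map_mul, (h1 a).resolve_left ha] at h
    exact hb (mul_left_cancel h)

theorem exists_free_seven (hA : IsPGroup 2 A) (hc : Nat.card A ≤ 32) (h2 : ¬ 2 ∣ Nat.card Γ) :
    ∃ x, ∀ γ ∈ Γ, γ x = x → γ ^ 7 = 1 → γ = 1 := by
  by_contra! H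
  have p7 : Nat.Prime 7 := by norm_num
  have hd : Nat.card Γ ∣ 5 * (31 * (7 * 9)) := card_dvd_of_aut (s := 5) (k := 10) Nat.prime_two hA h2
    (by omega) fun r hr => by interval_cases r <;> decide
  obtain ⟨σ, hσ, -, σ7, σ1⟩ := H 1
  have := Fact.mk p7
  have h7 : 7 ∣ Nat.card Γ := orderOf_eq_prime σ7 σ1 ▸ Γ.orderOf_dvd_natCard hσ
  have key : ∀ q m, q.Prime → ¬ 7 ∣ q → ¬ q ∣ 7 → (∀ d, d ∣ q → d % 7 = 1 → d = 1) →
      (∀ d, d ∣ 7 → d % q = 1 → d = 1) → 32 < 7 * q → m * (7 * q) = 5 * (31 * (7 * 9)) →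
      ¬ 7 ∣ m → ¬ q ∣ m → ¬ q ∣ Nat.card Γ := fun q m hq a1 a2 a3 a4 a5 a6 a7 a8 a9 => by
    obtain ⟨K, k1, k2, k3⟩ := H49.exists_hall (M := Γ)
      (S0205.result (Nat.odd_iff.2 (Nat.two_dvd_ne_zero.1 h2))) {7, q}
    have k4 : ∀ r, r.Prime → r ∈ ({7, q} : Set ℕ) → r ∣ Nat.card Γ → r ∣ Nat.card K :=
      fun r hr h1 h3 => (hr.dvd_mul.1 (H49.card_mul_relIndex k1 ▸ h3)).resolve_right (k3 r hr h1)
    refine no_pair (Γ := K) hq a1 a2 a3 a4 (by omega) (Nat.dvd_antisymm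
      ((Nat.coprime_of_dvd fun r hr h1 => ?_).dvd_of_dvd_mul_left
        (a6 ▸ (card_dvd_of_le k1).trans hd))
      ((p7.coprime_iff_not_dvd.2 a1).mul_dvd_of_dvd_of_dvd (k4 7 p7 (by simp) h7)
        (k4 q hq (by simp) a9)))
    rcases k2 r hr h1 with rfl | rfl
    exacts [a7, a8]
  have small : ∀ {n k : ℕ}, 0 < n → (∀ d ≤ n, d ∣ n → d % k = 1 → d = 1) →
      ∀ d, d ∣ n → d % k = 1 → d = 1 := fun hn h d hd => h d (Nat.le_of_dvd hn hd) hd
  have h5 := key 5 279 Nat.prime_five (by decide) (by decide) (small (by decide) (by decide))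
    (small (by decide) (by decide)) (by decide) rfl (by decide) (by decide)
  have h31 := key 31 45 (by norm_num) (by decide) (by decide) (small (by decide) (by decide))
    (small (by decide) (by decide)) (by decide) rfl (by decide) (by decide)
  have h63 := ((Nat.Prime.coprime_iff_not_dvd (by norm_num)).2 h31).symm.dvd_of_dvd_mul_left
    ((Nat.prime_five.coprime_iff_not_dvd.2 h5).symm.dvd_of_dvd_mul_left hd)
  refine σ1 (MulEquiv.ext fun x => ?_)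
  obtain ⟨γ, hγ, h1, γ7, γ1⟩ := H x
  exact fix_of_mem_zpowers (mem_zpowers_of_sylow p7 h63 (by decide)
    (small (by decide) (by decide)) hγ hσ γ1 γ7 σ7) h1

theorem exists_norm_elt (hA : ∀ a b : A, a * b = b * a) (hp : p.Prime) (hP : IsPGroup p A)
    (hΓ : ¬ p ∣ Nat.card Γ) (z : A) : ∃ y : A, zpowers (y ^ p) = zpowers (z ^ p) ∧
      ∀ γ ∈ Γ, γ (y ^ p) = y ^ p → γ y = y := by
  classical
  let : CommGroup A := { mul_comm := hA }
  have := Fact.mk hp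
  let E := Γ ⊓ MulAction.stabilizer (MulAut A) (z ^ p)
  have := Fintype.ofFinite E
  have h1 : (∏ a : E, a.1 z) ^ p = (z ^ p) ^ Nat.card E := by
    rw [← Finset.prod_pow, Finset.prod_congr rfl fun (a : E) _ => (map_pow a.1 z p).symm.trans a.2.2,
      Finset.prod_const, Finset.card_univ, Nat.card_eq_fintype_card]
  obtain ⟨k, hk⟩ := IsPGroup.iff_orderOf.1 hP (z ^ p)
  have h2 : z ^ p ∈ zpowers ((∏ a : E, a.1 z) ^ p) := h1 ▸ mem_zpowers_pow_iff.2 (hk ▸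
    (hp.coprime_iff_not_dvd.2 fun h => hΓ (h.trans (card_dvd_of_le inf_le_left))).symm.pow_right k)
  refine ⟨_, le_antisymm (zpowers_le.2 (h1 ▸ npow_mem_zpowers _ _)) (zpowers_le.2 h2),
    fun γ hγ h3 => ?_⟩
  rw [map_prod]
  exact Fintype.prod_equiv (Equiv.mulLeft (⟨γ, hγ, mem_fx.1 (zpowers_le.2 (show _ ∈ fx (zpowers γ)
    from mem_fx_zpowers.2 h3) h2) γ (mem_zpowers γ)⟩ : E)) _ _ fun b => rfl

theorem index_eq_of_pow (hp : p.Prime) (hP : IsPGroup p A) {y z : A} (hz : z ^ p ≠ 1)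
    (h : zpowers (y ^ p) = zpowers (z ^ p)) : (zpowers y).index = (zpowers z).index := by
  have := Fact.mk hp
  have h1 : ∀ x : A, x ^ p ≠ 1 → Nat.card (zpowers x) = Nat.card (zpowers (x ^ p)) * p :=
    fun x hx => by
    obtain ⟨_ | k, hk⟩ := IsPGroup.iff_orderOf.1 hP x
    · exact absurd (by rw [orderOf_eq_one_iff.1 hk, one_pow]) hx
    rw [Nat.card_zpowers, Nat.card_zpowers, orderOf_pow_of_dvd hp.ne_zero
      (hk ▸ dvd_pow_self p k.succ_ne_zero), Nat.div_mul_cancel (hk ▸ dvd_pow_self p k.succ_ne_zero)]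
  refine Nat.eq_of_mul_eq_mul_left (Nat.card_pos (α := zpowers z)) ?_
  rw [card_mul_index, h1 z hz, ← h, ← h1 y (mt zpowers_eq_bot.2 (h ▸ mt zpowers_eq_bot.1 hz)),
    card_mul_index]

theorem exists_good_two (hA : ∀ a b : A, a * b = b * a) (hP : IsPGroup 2 A)
    (hΓ : ¬ 2 ∣ Nat.card Γ) {z : A} (hz : (zpowers z).index ≤ 16) :
    ∃ u : A, (zpowers u).index ≤ 16 ∧ ∀ γ ∈ Γ, γ u = u → γ ^ 7 = 1 → γ = 1 := by
  classical
  let : CommGroup A := { mul_comm := hA }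
  have := Fact.mk Nat.prime_two
  let Ω := (powMonoidHom 2 : A →* A).ker
  have mΩ : ∀ x, x ∈ Ω ↔ x ^ 2 = 1 := fun _ => Iff.rfl
  have : Ω.Characteristic := characteristic_iff_le_comap.2 fun φ x hx =>
    (mΩ _).2 ((map_pow φ x 2).symm.trans (by rw [(mΩ x).1 hx, map_one]))
  have h1 : Nat.card Ω ≤ 32 := by
    have := Fintype.ofFinite (zpowers z)
    have h1 := H49.card_mul_relIndex (show zpowers z ⊓ Ω ≤ Ω from inf_le_right)
    have h2 := relIndex_le_of_le_right (H := zpowers z) (le_top (a := Ω))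
      (relIndex_top_right (zpowers z) ▸ index_ne_zero_of_finite)
    have h3 : Nat.card (zpowers z ⊓ Ω : Subgroup A) ≤ 2 := by
      refine le_trans ?_ (IsCyclic.card_pow_eq_one_le (α := zpowers z) two_pos)
      rw [← Fintype.card_subtype, ← Nat.card_eq_fintype_card]
      exact Nat.card_le_card_of_injective (fun x => ⟨⟨x.1, x.2.1⟩, Subtype.ext x.2.2⟩)
        fun _ _ h => Subtype.ext (congrArg (·.1.1) h)
    rw [inf_relIndex_right] at h1
    rw [relIndex_top_right] at h2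
    nlinarith
  obtain ⟨x, hx⟩ := exists_free_seven (Γ := Γ.map (MulAut.characteristic Ω)) (hP.to_subgroup Ω) h1
    fun h => hΓ (h.trans (card_map_dvd _ _))
  have h2 : ∀ γ ∈ Γ, γ x = x → γ ^ 7 = 1 → γ = 1 := fun γ hγ h2 h3 =>
    eq_one_of_fix_omega hA hP (fun h => hΓ (h.trans (Γ.orderOf_dvd_natCard hγ))) fun y hy =>
      congrArg Subtype.val (DFunLike.congr_fun (hx _ (mem_map_of_mem _ hγ) (Subtype.ext h2)
        (by rw [← map_pow, h3, map_one])) (⟨y, hy⟩ : Ω))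
  by_cases z2 : z ^ 2 = 1
  · by_cases x1 : x.1 = 1
    · exact ⟨z, hz, fun γ hγ _ => h2 γ hγ (by rw [x1, map_one])⟩
    refine ⟨x, le_trans (Nat.le_of_mul_le_mul_left ?_ two_pos) hz, h2⟩
    rw [← orderOf_eq_prime x.2 x1, ← Nat.card_zpowers, card_mul_index, ← (zpowers z).card_mul_index,
      Nat.card_zpowers, Nat.card_zpowers, orderOf_eq_prime x.2 x1]
    exact Nat.mul_le_mul_right _ (orderOf_le_of_pow_eq_one two_pos z2)
  obtain ⟨y, h3, h4⟩ := exists_norm_elt hA Nat.prime_two hP hΓ z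
  have h5 : (y * x) ^ 2 = y ^ 2 := by rw [mul_pow, (mΩ x).1 x.2, mul_one]
  refine ⟨y * x, index_eq_of_pow Nat.prime_two hP z2 (h5 ▸ h3) ▸ hz, fun γ hγ h6 => h2 γ hγ ?_⟩
  have h7 := h4 γ hγ (by rw [← h5, map_pow, h6])
  rwa [map_mul, h7, mul_right_inj] at h6

theorem index_dvd_of_lt (hp : p.Prime) {H K : Subgroup A} (h : H < K) (hH : H.index ∣ p ^ 2) :
    K.index ∣ p := by
  obtain ⟨j, hj, h1⟩ := (Nat.dvd_prime_pow hp).1 ((index_dvd_of_le h.le).trans hH)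
  rcases hj.lt_or_eq with hj | rfl
  · exact h1 ▸ (pow_dvd_pow p (Nat.lt_succ_iff.1 hj)).trans (pow_one p).dvd
  · refine absurd (relIndex_eq_one.1 (Nat.dvd_one.1 (Nat.dvd_of_mul_dvd_mul_right
      (pow_pos hp.pos 2) ?_))) h.not_ge
    rwa [← h1, relIndex_mul_index h.le, one_mul, h1]

section E27

variable (hA : ∀ a b : A, a * b = b * a) (hc : Nat.card A = 27) (h3 : ∀ x : A, x ^ 3 = 1)
include hA hc h3

theorem exists_line (hΓ : IsPGroup 2 Γ) : ∃ t : A, t ≠ 1 ∧ ∀ γ ∈ Γ, γ t = t ∨ γ t = t⁻¹ := by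
  classical
  let : CommGroup A := { mul_comm := hA }
  have := Fact.mk Nat.prime_two
  by_contra! H
  let ι : MulAut A := MulEquiv.inv A
  have : (zpowers ι).Normal := ⟨fun n hn g => by
    rwa [mem_center_iff.1 (zpowers_le.2 (mem_center_iff.2 fun g => MulEquiv.ext fun x =>
      map_inv g x) hn) g, mul_inv_cancel_right]⟩
  have hK := hΓ.to_sup_of_normal_right (pgp_zpowers (x := ι) (n := 1) (MulEquiv.ext inv_inv))
  let S : SubMulAction ↥(Γ ⊔ zpowers ι) A :=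
    ⟨{x | x ≠ 1}, fun g _ hx => mt g.1.map_eq_one_iff.1 hx⟩
  have := Fintype.ofFinite (MulAction.orbitRel.Quotient ↥(Γ ⊔ zpowers ι) S)
  have h1 : 4 ∣ Nat.card S := by
    rw [Nat.card_congr (MulAction.selfEquivSigmaOrbits ↥(Γ ⊔ zpowers ι) S), Nat.card_sigma]
    refine Finset.dvd_sum fun ω _ => ?_
    generalize ω.out = x
    obtain ⟨γ, hγ, h1, h2⟩ := H x x.2
    obtain ⟨k, hk⟩ := hK.card_orbit x
    have h4 : 2 < Nat.card (MulAction.orbit ↥(Γ ⊔ zpowers ι) x) :=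
      (Set.two_lt_ncard_iff (Set.toFinite _)).2 ⟨x, _, _, MulAction.mem_orbit_self x,
        MulAction.mem_orbit x ⟨ι, mem_sup_right (mem_zpowers ι)⟩,
        MulAction.mem_orbit x ⟨γ, mem_sup_left hγ⟩, fun h => x.2 (by
          rw [← h3 x, pow_three, mul_eq_one_iff_eq_inv.2 (congrArg Subtype.val h), mul_one]),
        fun h => h1 (congrArg Subtype.val h).symm, fun h => h2 (congrArg Subtype.val h).symm⟩
    rw [hk] at h4 ⊢
    exact pow_dvd_pow 2 (show 2 ≤ k from (Nat.pow_lt_pow_iff_right one_lt_two).1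
      (show 2 ^ 1 < 2 ^ k from h4))
  have h2 : Nat.card S = 26 := by
    rw [show Nat.card S = ({1}ᶜ : Set A).ncard from rfl, Set.ncard_compl, hc, Set.ncard_singleton]
  omega

theorem fpf_of_thirteen (hΓ : Nat.card Γ ∣ 13 * 32) (h13 : 13 ∣ Nat.card Γ) : FpfA Γ := by
  let : CommGroup A := { mul_comm := hA }
  have p13 : Nat.Prime 13 := by norm_num
  have hP : IsPGroup 3 A := fun x => ⟨1, h3 x⟩
  obtain ⟨s, hs, s1, s13⟩ := exists_orderOf p13 h13
  have uq : ∀ {g k : MulAut A}, g ∈ Γ → k ∈ Γ → g ≠ 1 → g ^ 13 = 1 → k ^ 13 = 1 → k ∈ zpowers g :=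
    mem_zpowers_of_sylow p13 hΓ (by norm_num) fun d hd =>
      (by decide : ∀ d ≤ 32, d ∣ 32 → d % 13 = 1 → d = 1) d (Nat.le_of_dvd (by norm_num) hd) hd
  have h1 : ∀ H : Subgroup A, H ≠ ⊥ → H ≠ ⊤ → ∀ n, Nat.card H ≡ n [MOD 13] → n ≠ 1 ∧ n ≠ 27 :=
    fun H h1 h2 n h4 => by
    obtain ⟨m, i, a1, a2, -, -, a4, a5⟩ := exists_cards Nat.prime_three hP H (s := 3) hc.le
    have := a5 h2
    rw [a2] at h4
    have := (by decide : ∀ m ≤ 2, m ≠ 0 → 3 ^ m % 13 ≠ 1) m (by omega) (a4 h1)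
    constructor <;> rintro rfl <;> exact this h4
  have h2 : fx (zpowers s) = ⊥ := not_not.1 fun h2 => (h1 _ h2 (mt fx_eq_top.1 s1) _
    (card_modEq_top p13 (pgp_zpowers (n := 1) s13)).symm).2 hc
  have h4 : ∀ k ∈ Γ, k ^ 13 = 1 → ∀ a, k a = a → a ≠ 1 → k = 1 := fun k hk k13 a ha a1 =>
    not_not.1 fun k1 => a1 (mem_bot.1 (h2 ▸ mem_fx_zpowers.2
      (fix_of_mem_zpowers (uq hk hs k1 k13 s13) ha)))
  refine fun γ hγ y hy => or_iff_not_imp_left.2 fun γ1 => not_not.1 fun y1 => ?_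
  obtain ⟨r, hr, h5⟩ := Nat.exists_prime_and_dvd (mt card_eq_one.1 (mt zpowers_eq_bot.1 γ1))
  obtain ⟨g, hg, g1, gr⟩ := exists_orderOf hr h5
  replace hy := fix_of_mem_zpowers hg hy
  replace hg := zpowers_le.2 hγ hg
  rcases hr.dvd_mul.1 ((h5.trans (card_dvd_of_le (zpowers_le.2 hγ))).trans hΓ) with h6 | h6
  · obtain rfl := (Nat.prime_dvd_prime_iff_eq hr p13).1 h6
    exact g1 (h4 g hg gr y hy y1)
  obtain rfl := (Nat.prime_dvd_prime_iff_eq hr Nat.prime_two).1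
    (hr.dvd_of_dvd_pow (show r ∣ 2 ^ 5 from h6))
  have gg : ∀ x, g (g x) = x := fun x => by simpa [sq] using DFunLike.congr_fun gr x
  obtain ⟨U, ε, hU, h7⟩ : ∃ (U : Subgroup A) (ε : ℤ), U.index ≤ 3 ∧ ∀ a ∈ U, g a = a ^ ε := by
    let ψ : A →* A := (MonoidHom.id A)⁻¹ * g.toMonoidHom
    have h7 := ψ.ker.card_mul_index
    have h8 := ψ.range.card_mul_index
    obtain ⟨m, i, a1, a2, a3, -⟩ := exists_cards Nat.prime_three hP ψ.ker (s := 3) hc.le
    by_cases h9 : i ≤ 1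
    · exact ⟨ψ.ker, 1, a3 ▸ Nat.pow_le_pow_right (by norm_num) h9, fun a ha =>
        (inv_mul_eq_one.1 ha).symm.trans (zpow_one a).symm⟩
    · refine ⟨ψ.range, -1, ?_, ?_⟩
      · have := Nat.pow_le_pow_right (by norm_num : 0 < 3) (show 2 ≤ i by omega)
        rw [← index_ker, a3, hc] at h8
        nlinarith
      · rintro _ ⟨x, rfl⟩
        change g (x⁻¹ * g x) = (x⁻¹ * g x) ^ (-1 : ℤ)
        rw [map_mul, map_inv, gg, zpow_neg_one, mul_inv_rev, inv_inv]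
  obtain ⟨a, ha, a1⟩ := (nontrivial_iff_exists_ne_one (U ⊓ U.comap s.toMonoidHom)).1
    ((nontrivial_iff_ne_bot _).2 fun h => by
      have h8 := index_inf_le (H := U) (K := U.comap s.toMonoidHom)
      rw [h, index_bot, index_comap_of_surjective _ s.surjective, hc] at h8
      nlinarith)
  have h8 : g⁻¹ * s⁻¹ * g ∈ zpowers s := uq hs (mul_mem (mul_mem (inv_mem hg) (inv_mem hs)) hg) s1
    s13 (by rw [show g⁻¹ * s⁻¹ * g = g⁻¹ * s⁻¹ * g⁻¹⁻¹ by simp, conj_pow]; simp [s13])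
  have h9 := h4 (g⁻¹ * s⁻¹ * g * s) (mul_mem (zpowers_le.2 hs h8) hs) (pow_eq_one_of_dvd
    (mul_mem h8 (mem_zpowers s)) (Nat.card_zpowers s ▸ orderOf_dvd_of_pow_eq_one s13)) a (by
      have : g (s a) = s (g a) := by rw [h7 a ha.1, map_zpow]; exact h7 _ ha.2
      simp [this]) a1
  have h10 : ∀ x, g (s x) = s (g x) := fun x => DFunLike.congr_fun
    (show g * s = s * g by rw [← mul_one (s * g), ← h9]; group) x
  have h11 := card_modEq p13 (pgp_zpowers (n := 1) s13) (fx (zpowers g))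
    (inv_zpowers fun x hx => mem_fx_zpowers.2 (by rw [h10, mem_fx_zpowers.1 hx]))
  rw [h2, inf_bot_eq, card_bot] at h11
  exact (h1 _ (fun h => y1 (mem_bot.1 (h ▸ mem_fx_zpowers.2 hy))) (mt fx_eq_top.1 g1) _ h11).1 rfl

end E27

theorem exists_good_three (hA : ∀ a b : A, a * b = b * a) (hP : IsPGroup 3 A)
    (hΓ : ¬ 3 ∣ Nat.card Γ) {z : A} (hz : (zpowers z).index ∣ 3 ^ 2)
    (H : ∀ g : A, g ^ 3 ∈ zpowers (z ^ 3)) : ∃ (u : A) (F : Subgroup A), u ∈ F ∧ F.index ∣ 3 ∧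
      ∀ γ ∈ Γ, γ u = u → ∀ v ∈ F, γ v = v := by
  let : CommGroup A := { mul_comm := hA }
  have := Fact.mk Nat.prime_three
  have key : ∀ y x : A, (zpowers y ⊔ zpowers x).index ∣ 3 →
      (∀ γ ∈ Γ, γ (y * x) = y * x → γ y = y) → ∃ (u : A) (F : Subgroup A), u ∈ F ∧ F.index ∣ 3 ∧
      ∀ γ ∈ Γ, γ u = u → ∀ v ∈ F, γ v = v := fun y x h1 h2 =>
    ⟨y * x, _, mul_mem_sup (mem_zpowers y) (mem_zpowers x), h1, fun γ hγ h3 v hv =>
      mem_fx_zpowers.1 (sup_le (zpowers_le.2 (mem_fx_zpowers.2 (h2 γ hγ h3))) (zpowers_le.2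
        (mem_fx_zpowers.2 (mul_left_cancel (by rw [← h3, map_mul, h2 γ hγ h3])))) hv)⟩
  have lt : ∀ {y x : A}, x ∉ zpowers y → zpowers y < zpowers y ⊔ zpowers x := fun hx =>
    left_lt_sup.2 (mt zpowers_le.1 hx)
  by_cases z3 : z ^ 3 = 1
  swap
  · obtain ⟨y, h3, h4⟩ := exists_norm_elt hA Nat.prime_three hP hΓ z
    obtain ⟨x, h5, h6⟩ : ∃ x : A, x ^ 3 = 1 ∧ (zpowers y ⊔ zpowers x).index ∣ 3 := by
      by_cases h5 : ∃ x ∉ zpowers y, x ^ 3 = 1
      · obtain ⟨x, h5, h6⟩ := h5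
        exact ⟨x, h6, index_dvd_of_lt Nat.prime_three (lt h5)
          (index_eq_of_pow Nat.prime_three hP z3 h3 ▸ hz)⟩
      refine ⟨1, one_pow 3, (index_eq_one.2 ((eq_top_iff' _).2 fun g => mem_sup_left ?_)).dvd.trans
        (one_dvd 3)⟩
      obtain ⟨k, hk⟩ := mem_zpowers_iff.1 (h3 ▸ H g)
      exact (mul_mem_cancel_right (inv_mem (zpow_mem_zpowers y k))).1 (not_not.1 fun h6 => h5
        ⟨_, h6, by rw [mul_pow, ← hk, inv_pow, ← zpow_natCast, ← zpow_natCast, ← zpow_mul,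
          ← zpow_mul, mul_comm k, mul_inv_cancel]⟩)
    exact key y x h6 fun γ hγ h7 => h4 γ hγ (by
      rw [← mul_one (y ^ 3), ← h5, ← mul_pow, map_pow, h7])
  have h3 : ∀ g : A, g ^ 3 = 1 := fun g => by simpa [z3] using H g
  by_cases h9 : Nat.card A ∣ 3 ^ 2
  · by_cases h1 : ∃ x : A, x ≠ 1
    · obtain ⟨x, hx⟩ := h1
      exact key 1 x (index_dvd_of_lt Nat.prime_three (lt (by simpa)) (by simpa)) fun γ _ _ => map_one γ
    · push Not at h1
      exact ⟨1, ⊤, trivial, by simp, fun _ _ _ _ _ => (h1 _).trans (h1 _).symm⟩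
  have hc : Nat.card A = 27 := by
    obtain ⟨k, hk, h1⟩ := (Nat.dvd_prime_pow Nat.prime_three).1 (show Nat.card A ∣ 3 ^ (1 + 2) by
      rw [← (zpowers z).card_mul_index, pow_add, Nat.card_zpowers]
      exact mul_dvd_mul (orderOf_dvd_of_pow_eq_one z3) hz)
    rw [h1, Nat.pow_dvd_pow_iff_le_right (by norm_num)] at h9
    rw [h1, show k = 3 by omega]; rfl
  have hd : Nat.card Γ ∣ 13 * 32 := card_dvd_of_aut (s := 3) (k := 3) Nat.prime_three hP hΓ
    (by omega) fun r hr => by interval_cases r <;> decide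
  have : Nontrivial A := Finite.one_lt_card_iff_nontrivial.1 (by omega)
  by_cases h13 : 13 ∣ Nat.card Γ
  · obtain ⟨u, hu⟩ := exists_ne (1 : A)
    exact ⟨u, ⊤, trivial, by simp, fun γ hγ h1 v _ => by
      rw [(fpf_of_thirteen hA hc h3 hd h13 γ hγ u h1).resolve_right hu]; rfl⟩
  obtain ⟨t, t1, ht⟩ := exists_line hA hc h3 (Γ := Γ) fun g => ⟨5, orderOf_dvd_iff_pow_eq_one.1
    ((orderOf_dvd_natCard g).trans (((Nat.Prime.coprime_iff_not_dvd (by norm_num)).2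
      h13).symm.dvd_of_dvd_mul_left hd))⟩
  have h4 : (zpowers t).index = 3 ^ 2 := by
    have := (zpowers t).card_mul_index
    rw [Nat.card_zpowers, orderOf_eq_prime (h3 t) t1, hc] at this
    omega
  obtain ⟨w, -, hw⟩ := SetLike.exists_of_lt (lt_top_iff_ne_top.2 (mt index_eq_one.2
    (h4 ▸ by norm_num : (zpowers t).index ≠ 1)))
  by_cases h5 : ∀ γ ∈ Γ, γ (t * w) = t * w → γ t = t
  · exact key t w (index_dvd_of_lt Nat.prime_three (lt hw) h4.dvd) h5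
  push Not at h5
  obtain ⟨σ, hσ, h5, h6⟩ := h5
  refine key t (t * w) (index_dvd_of_lt Nat.prime_three (lt (by
    rwa [mul_mem_cancel_left (mem_zpowers t)])) h4.dvd) fun γ hγ h7 => not_not.1 fun h8 => ?_
  replace h6 := (ht σ hσ).resolve_left h6
  replace h8 := (ht γ hγ).resolve_left h8
  have h10 : (σ * γ) t = t := by rw [MulAut.mul_apply, h8, map_inv, h6, inv_inv]
  have h11 : (σ * γ) (t * w) = t * w * (t⁻¹ * t⁻¹) := by
    rw [map_mul, h8, inv_mul_eq_iff_eq_mul] at h7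
    rw [MulAut.mul_apply, h7, map_mul, map_mul, h5, h6, ← mul_assoc, mul_comm]
  have h12 : ∀ n, ((σ * γ) ^ n) (t * w) = t * w * (t⁻¹ * t⁻¹) ^ n := fun n => by
    induction n with
    | zero => simp
    | succ n ih => rw [pow_succ', MulAut.mul_apply, ih, map_mul, h11, map_pow, map_mul, map_inv, h10,
        pow_succ', mul_assoc]
  have h14 := h12 (Nat.card Γ)
  rw [pow_eq_one_of_dvd (mul_mem hσ hγ) dvd_rfl, MulAut.one_apply, left_eq_mul,
    show t⁻¹ * t⁻¹ = t by rw [← mul_inv, inv_eq_iff_mul_eq_one, ← pow_three', h3],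
    ← orderOf_dvd_iff_pow_eq_one, orderOf_eq_prime (h3 t) t1] at h14
  exact hΓ h14

end Cfsg.Agent.H35
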