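import Cfsg.Agent.H35.KbNa
import Cfsg.Agent.H35.KbX

/-! The `k(B)` bound for defect groups with a central cyclic subgroup of index at most `16`. -/

set_option autoImplicit false
set_option linter.unusedSectionVars false

open MonoidAlgebra Subgroup ComplexConjugate

namespace Cfsg.Agent.H35

open Cfsg Cfsg.Agent.H87 Cfsg.Agent.H32 Cfsg.Agent.H86 Cfsg.Agent.H34 Cfsg.Agent.H42

universe u

variable {M : Ideal AlgInt} [hMm : M.IsMaximal] {G : Type u} [Group G] [Finite G] {p : ℕ}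
  {B : Set (IrrCharacter G)} {P : Subgroup G} {e : (Res M)[G]}

theorem pow_semiconj {A C : Type*} [Group A] [Group C] {f : A →* C} {γ : MulAut A} {δ : MulAut C}
    (h : ∀ x, f (γ x) = δ (f x)) (n : ℕ) (x : A) : f ((γ ^ n) x) = (δ ^ n) (f x) := by
  induction n with
  | zero => rfl
  | succ n ih => rw [pow_succ', pow_succ', MulAut.mul_apply, MulAut.mul_apply, h, ih]

theorem card_le_of_cyc (h : Ctx M p B P e) {u : P} (hu : u ∈ center P) {K : Type*} [Group K]
    [IsCyclic K] (f : P →* K) (hf : Function.Surjective f) (hk : ∀ x, f x = 1 → x ∈ zpowers u) :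
    Nat.card B ≤ Nat.card P := by
  obtain ⟨q, hq⟩ := IsCyclic.exists_generator (α := K)
  obtain ⟨v, rfl⟩ := hf q
  refine card_le_of_quot_cyclic h u.2 (mem_Ce_of_comm' (mem_center_iff.1 hu)) v.2 fun g hg => ?_
  obtain ⟨j, hj⟩ := mem_zpowers_iff.1 (hq (f ⟨g, hg⟩))
  obtain ⟨i, hi⟩ := mem_zpowers_iff.1 (hk (⟨g, hg⟩ * (v ^ j)⁻¹)
    (by rw [map_mul, ← hj, map_inv, map_zpow, mul_inv_cancel]))
  exact ⟨i, j, congrArg Subtype.val (eq_mul_inv_iff_mul_eq.1 hi).symm⟩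

theorem two_of_good {e : (Res M)[G]} (h : Ctx M 2 B P e) {u : P} (hu : u ∈ center P)
    (hi : (zpowers u).index ≤ 16) (H : (∀ x y : P, x * y * (y * x)⁻¹ ∈ zpowers u) →
      ∀ γ ∈ iq P e, γ u = u → γ ^ 7 = 1 → γ = 1) : Nat.card B ≤ Nat.card P := by
  obtain ⟨K, _, _, b, Q, d, f, R⟩ := exists_red h (zpowers u) (zpowers_le.2 hu)
  have key : blockRank 2 b ≤ 3 → Nat.card B ≤ Nat.card P := fun h1 =>
    card_le_of_lb_three h u.2 (mem_Ce_of_comm' (mem_center_iff.1 hu)) (R.rank' h rfl ▸ h1)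
  by_cases hQ : center Q = ⊤
  swap
  · exact key (na16 R.ctx (R.card ▸ hi) hQ)
  have h1 : ∀ a b : Q, a * b = b * a := fun a b => mem_center_iff.1 (hQ ▸ mem_top b) a
  refine (ab16 R.ctx (ab_of_comm h1) (R.card ▸ hi) fun h7 => ?_).elim key (R.card_le rfl)
  have p7 : Nat.Prime 7 := by norm_num
  have := Fact.mk p7
  obtain ⟨δ, hδ, δ1, δ7⟩ := exists_orderOf p7 h7
  obtain ⟨γ, hγ, h2, h3⟩ := R.lift δ hδ
  obtain ⟨g, hg, g1, g7⟩ := exists_orderOf (L := zpowers γ) p7 (by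
    rw [Nat.card_zpowers, ← orderOf_eq_prime δ7 δ1, orderOf_dvd_iff_pow_eq_one]
    refine MulEquiv.ext fun q => ?_
    obtain ⟨x, rfl⟩ := R.surj q
    rw [← pow_semiconj h3, pow_orderOf_eq_one]; rfl)
  exact g1 (H (fun x y => R.eq_one.1 (by
    rw [map_mul, map_inv, map_mul, map_mul, h1 (f x), mul_inv_cancel])) g (zpowers_le.2 hγ hg)
      (fix_of_mem_zpowers hg (h2 u (mem_zpowers u))) g7)

theorem card_le_two {e : (Res M)[G]} (h : Ctx M 2 B P e) {z : P} (hz : z ∈ center P)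
    (hi : (zpowers z).index ≤ 16) : Nat.card B ≤ Nat.card P := by
  by_cases hP : center P = ⊤
  · have h1 : ∀ a b : P, a * b = b * a := fun a b => mem_center_iff.1 (hP ▸ mem_top b) a
    obtain ⟨u, h2, h3⟩ := exists_good_two h1 h.pgp (not_dvd_card_iq h (ab_of_comm h1)) hi
    exact two_of_good h (hP ▸ mem_top u) h2 fun _ => h3
  · exact two_of_good h hz hi fun hc γ _ h1 h7 =>
      eq_one_of_seven h.pgp hz hi hc hP (k := 1) h7 h1

theorem card_le_of_sq (h : Ctx M p B P e) {z : P} (hz : z ∈ center P)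
    (hi : (zpowers z).index = p ^ 2) (hP : center P ≠ ⊤) : Nat.card B ≤ Nat.card P := by
  have hp := h.hM.1
  have := Fact.mk hp
  obtain ⟨K, _, _, b, Q, d, f, R⟩ := exists_red h (zpowers z) (zpowers_le.2 hz)
  have hQ := R.card.trans hi
  have h1 := comm_of_card_dvd_sq hp hQ.dvd
  refine R.card_le rfl (kp_of_fpf R.ctx (ab_of_comm h1) (fun δ hδ y hy =>
    or_iff_not_imp_right.2 fun y1 => ?_) fun h2 => ?_)
  swap
  · rw [h2, card_bot, eq_comm, Nat.pow_eq_one] at hQ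
    exact hQ.elim hp.ne_one two_ne_zero
  obtain ⟨γ, hγ, h2, h3⟩ := R.lift δ hδ
  obtain ⟨a, rfl⟩ := R.surj y
  have hz' := zpowers_le.2 hz
  have h4 : (zpowers z ⊔ zpowers a).index ∣ p := index_dvd_of_lt hp
    (left_lt_sup.2 (mt zpowers_le.1 (mt R.eq_one.2 y1))) hi.dvd
  have : (zpowers z).Normal := ⟨fun n hn g => by
    rwa [mem_center_iff.1 (hz' hn) g, mul_inv_cancel_right]⟩
  have h5 : ∀ H, zpowers z ⊔ zpowers a ≤ H → H ≠ ⊤ → H ≤ zpowers z ⊔ zpowers a := fun H h5 h6 => by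
    rw [← relIndex_eq_one]
    have h7 := relIndex_mul_index h5
    have h8 := (Nat.dvd_prime hp).1 ((index_dvd_of_le h5).trans h4)
    rw [h8.resolve_left (mt index_eq_one.1 h6)] at h7
    exact Nat.dvd_one.1 (Nat.dvd_of_mul_dvd_mul_right hp.pos (by rwa [h7, one_mul]))
  have ha : a ∉ center P := fun ha => by
    have h6 := h5 _ (sup_le hz' (zpowers_le.2 ha)) hP
    have := isCyclic_of_card_dvd_prime (p := p) (α := P ⧸ center P)
      ((index_dvd_of_le (sup_le hz' (zpowers_le.2 ha))).trans h4)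
    exact hP ((eq_top_iff' _).2 fun g => mem_center_iff.2 fun k =>
      (isMulCommutative_of_isCyclic_quotient_center_self P).is_comm.comm k g)
  have h6 : ∀ x, δ ((f x)⁻¹ * δ (f x)) = (f x)⁻¹ * δ (f x) := fun x => by
    have h6 : γ a * a⁻¹ ∈ zpowers z := R.eq_one.1 (by rw [map_mul, h3, hy, map_inv, mul_inv_cancel])
    have h7 := h2 (x * a * (a * x)⁻¹) (R.eq_one.1 (by
      rw [map_mul, map_inv, map_mul, map_mul, h1 (f x), mul_inv_cancel]))
    have h8 := mem_center_iff.1 (hz' h6) (γ x)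
    have h9 : x⁻¹ * γ x ∈ centralizer {a} := mem_cent1.2 (by
      rw [map_mul, map_inv, map_mul, map_mul, ← inv_mul_cancel_right (γ a) a] at h7
      have h9 := mem_center_iff.1 (hz' h6) (γ x * a * (γ x)⁻¹ * a⁻¹)
      generalize γ a * a⁻¹ = k at h7 h8 h9
      calc _ = x⁻¹ * (γ x * a * (γ x)⁻¹ * a⁻¹ * k) * k⁻¹ * a * γ x := by group
        _ = x⁻¹ * (k * γ x * a * (k * a * γ x)⁻¹) * a * γ x := by rw [h9]; group
        _ = _ := by rw [← h8, mul_assoc (γ x), h7]; group)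
    obtain ⟨k, hk, l, hl, h10⟩ := mem_sup_of_normal_left.1 (h5 _ (sup_le
      (hz'.trans (center_le_centralizer _)) (zpowers_le.2 (mem_cent1.2 rfl))) (cent_ne_top ha) h9)
    obtain ⟨n, rfl⟩ := mem_zpowers_iff.1 hl
    rw [← h3, ← map_inv, ← map_mul, ← h10, map_mul, R.eq_one.2 hk, one_mul, map_zpow, map_zpow, hy]
  have h7 : ∀ n q, (δ ^ n) q = q * (q⁻¹ * δ q) ^ n := fun n q => by
    obtain ⟨x, rfl⟩ := R.surj q
    induction n with
    | zero => simp
    | succ n ih => rw [pow_succ', MulAut.mul_apply, ih, map_mul, map_pow, h6, pow_succ', ← mul_assoc,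
        mul_inv_cancel_left]
  refine orderOf_eq_one_iff.1 (Nat.eq_one_of_dvd_coprimes ((hp.coprime_iff_not_dvd.2
    (not_dvd_card_iq R.ctx (ab_of_comm h1))).pow_left 2) (orderOf_dvd_of_pow_eq_one
      (MulEquiv.ext fun q => ?_)) (orderOf_dvd_natCard _ hδ))
  rw [h7, ← hQ, pow_card_eq_one', mul_one]; rfl

theorem card_le_main (h : Ctx M p B P e) {z : P} (hz : z ∈ center P)
    (hi : (zpowers z).index ≤ 16) : Nat.card B ≤ Nat.card P := by
  have hp := h.hM.1
  have := Fact.mk hp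
  by_cases p2 : p = 2
  · subst p2
    exact card_le_two h hz hi
  obtain ⟨K, _, _, b, Q, d, f, R⟩ := exists_red h (zpowers z) (zpowers_le.2 hz)
  by_cases hc : IsCyclic Q
  · exact card_le_of_cyc h hz f R.surj fun x => R.eq_one.1
  obtain ⟨n, hn⟩ := R.ctx.pgp.exists_card_eq
  obtain ⟨rfl, rfl⟩ : p = 3 ∧ n = 2 := by
    have h1 : 2 ≤ n := not_lt.1 fun h1 => hc (isCyclic_of_card_dvd_prime (p := p)
      (hn ▸ (pow_dvd_pow p (Nat.lt_succ_iff.1 h1)).trans (pow_one p).dvd))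
    rw [← R.card, hn] at hi
    have h2 := (Nat.pow_le_pow_right hp.pos h1).trans hi
    have h3 := hp.two_le
    have h4 : p ≤ 4 := by nlinarith
    obtain rfl : p = 3 := by interval_cases p <;> simp_all (config := { decide := true })
    exact ⟨rfl, le_antisymm (Nat.lt_succ_iff.1 ((Nat.pow_lt_pow_iff_right hp.one_lt).1
      (hi.trans_lt (by norm_num)))) h1⟩
  have hi' := R.card.symm.trans hn
  by_cases hP : center P = ⊤
  swap
  · exact card_le_of_sq h hz hi' hP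
  have h1 : ∀ a b : P, a * b = b * a := fun a b => mem_center_iff.1 (hP ▸ mem_top b) a
  have hab := ab_of_comm h1
  by_cases H : ∀ g : P, g ^ 3 ∈ zpowers (z ^ 3)
  · obtain ⟨u, F, hu, h2, h3⟩ := exists_good_three h1 h.pgp (not_dvd_card_iq h hab) hi'.dvd H
    obtain ⟨K', _, _, b', Q', d', f', R'⟩ := exists_red h F (le_center_of_ab hab F)
    have := isCyclic_of_card_dvd_prime (R'.card ▸ h2)
    have h4 := rank_of_cyclic' R'.ctx
    refine card_le_of_lb h u.2 (hab u.2) ?_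
    rw [lb_eq_lq h hab hu h3, ← R'.rank]
    exact h4.1.trans (Nat.le_of_dvd two_pos h4.2)
  obtain ⟨g, hg⟩ := not_forall.1 H
  obtain ⟨k, hk⟩ := mem_zpowers_iff.1 (R.eq_one.1 (show f (g ^ 3) = 1 by
    rw [map_pow, ← (not_isCyclic_iff_exponent_eq_prime hp hn).1 hc, Monoid.pow_exponent_eq_one]))
  have h2 : ∀ k : ℤ, (z ^ k) ^ 3 ∈ zpowers (z ^ 3) := fun k =>
    ⟨k, by simp only [← zpow_natCast, ← zpow_mul, mul_comm]⟩
  obtain ⟨m, hm⟩ := IsPGroup.iff_orderOf.1 h.pgp z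
  have h3 : z ∈ zpowers g := zpowers_le.2 (hk ▸ npow_mem_zpowers g 3) (mem_zpowers_zpow_iff.2 (by
    rw [hm, Int.gcd_eq_natAbs, Int.natAbs_natCast]
    refine ((hp.coprime_iff_not_dvd.2 fun h3 => hg ?_).symm.pow_right m).gcd_eq_one
    obtain ⟨j, rfl⟩ := Int.natCast_dvd.2 h3
    rw [← hk, mul_comm, zpow_mul, zpow_natCast]
    exact h2 j))
  have h4 := index_dvd_of_lt hp (lt_of_le_of_ne (zpowers_le.2 h3) fun h4 => hg (by
    obtain ⟨j, rfl⟩ := mem_zpowers_iff.1 (h4 ▸ mem_zpowers g)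
    exact h2 j)) hi'.dvd
  have : (zpowers g).Normal := ⟨fun a ha x => by rwa [h1 x, mul_inv_cancel_right]⟩
  have := isCyclic_of_card_dvd_prime (α := P ⧸ zpowers g) h4
  exact card_le_of_cyc h (hP ▸ mem_top g) (QuotientGroup.mk' _) (QuotientGroup.mk'_surjective _)
    fun x => (QuotientGroup.eq_one_iff x).1

end Cfsg.Agent.H35
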