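import Cfsg.Agent.H35.KbAb
import Cfsg.Agent.H35.KbGn

/-! `2`-blocks with a non-abelian defect group of order at most `16`. -/

set_option autoImplicit false
set_option linter.unusedSectionVars false

open MonoidAlgebra Subgroup ComplexConjugate

namespace Cfsg.Agent.H35

open Cfsg Cfsg.Agent.H87 Cfsg.Agent.H32 Cfsg.Agent.H86 Cfsg.Agent.H34 Cfsg.Agent.H42

universe u

variable {M : Ideal AlgInt} [hMm : M.IsMaximal] {G : Type u} [Group G] [Finite G] {p : ℕ}
  {B : Set (IrrCharacter G)} {P : Subgroup G} {e : (Res M)[G]}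

theorem fz_of_iq (h : Ctx M p B P e) {γ : MulAut P} (hγ : γ ∈ iq P e) (u : P) :
    Fz p P e u (γ u) := by
  have : Fact p.Prime := ⟨h.hM.1⟩
  have := res_charP h.hM
  obtain ⟨g, hg, h2⟩ := mem_iq.1 hγ
  refine ⟨g, ?_, (h2 u).symm⟩
  have := (h.blk_spec u.2).2.cj (x := g) (top_le_No_top trivial)
  rwa [mem_No_iff_cjS.1 hg.1, mem_stab.1 hg.2, cjS_zpowers] at this

theorem exists_pow_fix (h : Ctx M p B P e) {γ : MulAut P} (hγ : γ ∈ iq P e) :
    ∃ m, ¬ p ∣ m ∧ ∀ z ∈ center P, (γ ^ m) z = z := by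
  have : Fact p.Prime := ⟨h.hM.1⟩
  have := res_charP h.hM
  have h1 := h.hm.not_dvd_relIndex (good h.hM) le_rfl top_le_No_top (blk_eB h.hB)
  rw [top_inf_eq, top_inf_eq] at h1
  obtain ⟨g, hg, h2⟩ := mem_iq.1 hγ
  have : ((Ce P ⊔ P).subgroupOf (No P ⊓ stab e)).Normal := normal_subgroupOf_of_le_normalizer
    (inf_le_left.trans ((le_inf (No_le_No_Ce P) le_rfl).trans (No_inf_No_le_sup _ _)))
  refine ⟨_, h1, fun z hz => Subtype.ext ?_⟩
  have h3 : ∀ n (x : P), ((γ ^ n) x : G) = g ^ n * x * (g ^ n)⁻¹ := fun n => by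
    induction n with
    | zero => simp
    | succ n ih => intro x; rw [pow_succ, MulAut.mul_apply, ih, h2, pow_succ]; group
  have h4 : Ce P ⊔ P ≤ Ce (zpowers (z : G)) := sup_le (Ce_anti (zpowers_le.2 z.2))
    (le_Ce_comm.1 (zpowers_le.2 (mem_Ce_of_comm' (mem_center_iff.1 hz))))
  have h5 := h4 (pow_index_mem (H := (Ce P ⊔ P).subgroupOf (No P ⊓ stab e)) ⟨g, hg⟩)
  exact (h3 _ z).trans (mul_inv_eq_iff_eq_mul.2 (mem_Ce.1 h5 z (mem_zpowers _)).symm)

theorem lb_eq_of_max (h : Ctx M p B P e) (u : P) (H : ∀ v : P, Fz p P e u v →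
    Nat.card (centralizer {v} : Subgroup P) ≤ Nat.card (centralizer {u} : Subgroup P)) :
    ∃ (K : Type u) (_ : Group K) (_ : Finite K) (b : Set (IrrCharacter K)) (Q : Subgroup K)
      (d : (Res M)[K]) (_ : Q ≃* (centralizer {u} : Subgroup P)), Ctx M p b Q d ∧
        lb p P e u = blockRank p b := by
  have : Fact p.Prime := ⟨h.hM.1⟩
  have := res_charP h.hM
  obtain ⟨hb, hs⟩ := h.blk_spec u.2
  have h1 := (h.hm.isDef_inf_iff le_rfl top_le_No_top (blk_eB h.hB) hs (K := Ce (zpowers (u : G)))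
    inf_le_right le_top (Ce_le_No _) ((hs.pair_iff.2 h.pair).blk.inv.mono
      (le_inf le_top le_rfl))).2 fun x _ hx => by
    rw [cjS_zpowers] at hx
    have h2 : Fz p P e u (x * u * x⁻¹) := ⟨x, hx, rfl⟩
    rw [cjS_Ce, cjS_zpowers, card_inf_Ce u]
    exact (card_inf_Ce ⟨_, h2.mem⟩).trans_le (H ⟨_, h2.mem⟩ h2)
  obtain ⟨d, hd⟩ := exists_ctx h.hM hb ((isDefectGroup_subgroupOf_iff h.hM inf_le_right hb).2 h1)
  have h2 : (centralizer {u} : Subgroup P).map P.subtype = P ⊓ Ce (zpowers (u : G)) := by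
    ext x
    refine ⟨?_, fun hx => ⟨⟨x, hx.1⟩, mem_cent1.2 (Subtype.ext
      (mem_Ce.1 hx.2 u (mem_zpowers _)).symm), rfl⟩⟩
    rintro ⟨x, hx, rfl⟩
    exact ⟨x.2, (isCent_zpowers _ _).2 (congrArg Subtype.val (mem_cent1.1 hx))⟩
  exact ⟨_, _, inferInstance, _, _, d, (subgroupOfEquivOfLe inf_le_right).trans
    ((MulEquiv.subgroupCongr h2.symm).trans (equivMapOfInjective _ _ P.subtype_injective).symm),
    hd, rfl⟩

theorem sum_lin_eq_zero [Fintype P] (h : Ctx M p B P e) (μ : P →* ℂˣ)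
    (hl : ∀ u v : P, Fz p P e u v → μ v = μ u) {y : P} (hy : y ∈ center P) (h1 : μ y ≠ 1) :
    ∑ u : P, (μ u : ℂ) * (wt p P e u * lb p P e u) = 0 := by
  have := Fintype.ofFinite G
  have hl : Stab p P e fun u => (μ u : ℂ) := h.stab_iff.2 fun u v huv => by rw [hl u v huv]
  rw [← h.sum_ci_st hl]
  refine Finset.sum_eq_zero fun χ hχ => ?_
  obtain ⟨ψ, -, hψ⟩ := h.irr_st_linear μ hl (mem_fs.1 hχ)
  rw [← hψ]
  refine H5.classInner_irr_ne ψ.2 χ.2 fun h2 => h1 (Units.ext ?_)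
  exact h.eq_of_st_eq hl (stab_const 1) (irr_cf χ.2) (by
    rw [← hψ, h2, h.st_one_of_mem (mem_fs.1 hχ)])
    (h.cn_self_ne_zero_of_central y.2 (mem_Ce_of_comm' (mem_center_iff.1 hy)) (mem_fs.1 hχ))

variable {e : (Res M)[G]} (h : Ctx M 2 B P e)
include h

theorem iq_of_fz (H : ∀ X φ, LA P ⊤ e X φ → X = ⊤) {u v : P} (h1 : Fz 2 P e u v) :
    ∃ γ ∈ iq P e, γ u = v := by
  have : Fact (Nat.Prime 2) := ⟨Nat.prime_two⟩
  have := res_charP h.hM
  obtain ⟨F, hF⟩ := exists_isBFS (T := ⊤) top_le_No_top h.pair le_top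
  obtain ⟨g, hg, h2⟩ := h1
  have h3 : F.IsConjElt u v := H91.isConjElt_iff.2 ⟨fun a => g * a * g⁻¹,
    (hF.M_iff h.pair (h.blk_spec u.2).2).2 ⟨g, mem_top g, fun _ _ => rfl, by
      rwa [cjS_zpowers]⟩, h2⟩
  have key : ∀ t ∈ No P ⊓ stab e, ∀ a, (∃ γ ∈ iq P e, (γ u : G) = a) →
      ∃ γ ∈ iq P e, (γ u : G) = t * a * t⁻¹ := fun t ht a ⟨γ, hγ, h4⟩ => by
    obtain ⟨δ, hδ, h5⟩ := exists_mem_iq ht
    exact ⟨δ * γ, mul_mem hδ hγ, by rw [MulAut.mul_apply, h5, h4]⟩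
  obtain ⟨γ, hγ, h4⟩ := inv_of_ess h.pgp (hF.saturated le_rfl top_le_No_top (blk_eB h.hB) h.hm
    (good h.hM)) (fun a => ∃ γ ∈ iq P e, (γ u : G) = a)
    (fun s hs a _ => key s (le_stab h.pair hs) a)
    (fun X hc _ h4 α hα a ha h5 => by
      obtain ⟨φ, h6⟩ := la_of_ess h h.pair hF hc.1 (H91.centric_centralizerIn_le hc)
        (fun _ h => h) h4
      obtain rfl : X = P := le_antisymm hc.1 (subgroupOf_eq_top.1 (H _ φ h6))
      rw [hF.autGroup_eq h.pair (Sub.refl X e), H91.mem_autInducedBy_iff] at hα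
      obtain ⟨t, ht, h7⟩ := hα
      rw [H91.efn_of_mem _ ha, h7]
      exact key t ⟨ht.1.2, ht.2⟩ a h5) h3 ⟨1, one_mem _, rfl⟩
  exact ⟨γ, hγ, Subtype.ext h4⟩

theorem rank_le_of_elt {x : P} (hx : (zpowers x).index ≤ 2) : blockRank 2 B ≤ 3 :=
  rank_le_of_metacyclic h (mc_of_index hx)

theorem rank_le_of_order {x : P} {n : ℕ} (hc : Nat.card P ≤ 2 ^ (n + 2)) (hx : x ^ 2 ^ n ≠ 1) :
    blockRank 2 B ≤ 3 := by
  have : Fact (Nat.Prime 2) := ⟨Nat.prime_two⟩
  obtain ⟨k, hk⟩ := IsPGroup.iff_orderOf.1 h.pgp x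
  have h1 := (zpowers x).card_mul_index
  have h2 : 2 ^ (n + 1) ≤ orderOf x := hk ▸ Nat.pow_le_pow_right two_pos (not_le.1 fun h2 =>
    hx (orderOf_dvd_iff_pow_eq_one.1 (hk ▸ pow_dvd_pow 2 h2)))
  refine rank_le_of_elt h (x := x) (Nat.le_of_mul_le_mul_left ?_ (Nat.two_pow_pos (n + 1)))
  rw [Nat.card_zpowers] at h1
  calc _ ≤ _ := Nat.mul_le_mul_right _ h2
    _ ≤ _ := h1 ▸ hc

theorem rank_le_eight (hc : Nat.card P ≤ 8) (hn : center P ≠ ⊤) : blockRank 2 B ≤ 3 := by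
  by_contra h1
  refine hn ((eq_top_iff' _).2 fun a => mem_center_iff.2 fun b => mul_inv_eq_one.1 (mem_bot.1
    (comm_mem_of_sq (fun g => ?_) b a)))
  by_contra h2
  exact h1 (rank_le_of_order h (n := 1) (x := g) hc (by rwa [pow_one, sq]))

theorem na16 (hc : Nat.card P ≤ 16) (hn : center P ≠ ⊤) : blockRank 2 B ≤ 3 := by
  classical
  have : Fact (Nat.Prime 2) := ⟨Nat.prime_two⟩
  have := Fintype.ofFinite P
  by_contra hr
  have h4 : ∀ g : P, g ^ 4 = 1 := fun g => not_not.1 fun h1 =>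
    hr (rank_le_of_order h (n := 2) (x := g) hc h1)
  replace hc : Nat.card P = 16 := by
    obtain ⟨n, h1⟩ := h.pgp.exists_card_eq
    have h2 := mt (rank_le_eight h · hn) hr
    rw [h1] at hc h2 ⊢
    have h3 := (Nat.pow_le_pow_iff_right one_lt_two).1 (show 2 ^ n ≤ 2 ^ 4 from hc)
    interval_cases n <;> simp_all
  have hZ := center_index_four h.pgp hc h4 hn
  have hsq := sq_central h.pgp hc h4
  have c8 : ∀ u ∉ center P, Nat.card (centralizer {u} : Subgroup P) = 8 := fun u hu => by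
    have := (centralizer {u} : Subgroup P).card_mul_index
    rw [(cent_two hZ hu).1, hc] at this
    omega
  have ex : ∀ u ∉ center P, ∃ a ∈ (centralizer {u} : Subgroup P), a * a ≠ 1 := fun u hu => by
    by_contra! h1
    rcases sm_of_e8 h.pgp hc h4 (fun z hz => h1 z (center_le_centralizer _ hz)) hu
      (h1 u (mem_cent1.2 rfl)) with h2 | ⟨x, y, s, m, T⟩
    exacts [hr (rank_le_of_metacyclic h h2), hr (T.rank_le h)]
  have H : ∀ X φ, LA P ⊤ e X φ → X = ⊤ := fun X φ L => by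
    by_contra h1
    have h2 : center P ≤ X := fun z hz => L.cen z fun u _ => mem_center_iff.1 hz u
    have h3 : center P < X := lt_of_le_of_ne h2 fun h3 => hn ((eq_top_iff' _).2 fun v =>
      h3 ▸ L.cen v fun u hu => (mem_center_iff.1 (h3 ▸ hu) v).symm)
    obtain ⟨u, hu, hu'⟩ := SetLike.exists_of_lt h3
    have h5 : X = centralizer {u} := eq_of_le_of_card_ge (fun x hx => by
      by_contra h5
      have h6 := mul_inv_mem_of_relIndex_two (index_two_of_lt hZ h3 h1).2 hx hu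
        (fun h6 => h5 (center_le_centralizer _ h6)) hu'
      exact h5 ((mul_mem_cancel_right (inv_mem (mem_cent1.2 rfl))).1
        (center_le_centralizer _ h6))) (by
      have := X.card_mul_index
      rw [(index_two_of_lt hZ h3 h1).1, hc] at this
      rw [c8 u hu']; omega)
    obtain ⟨v, hv, h6⟩ := L.ne
    obtain ⟨a, ha, a1⟩ := ex u hu'
    exact h6 (fix_of_eight L.odd (h5 ▸ c8 u hu') (h5 ▸ fun a ha b hb => comm_cent' hZ hu' ha hb)
      (fun g _ => h4 g) (h5 ▸ ha) a1 hv)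
  obtain ⟨X, φ, L⟩ : ∃ X φ, LA P ⊤ e X φ := by
    by_contra! h1
    exact hr ((rank_of_la h h1).trans_le (by norm_num))
  obtain rfl := H X φ L
  obtain ⟨a, b, c, hab, cZ, c1, cc, hcm⟩ := exists_comm hZ hsq
  have cZ' : zpowers c ≤ center P := zpowers_le.2 cZ
  have oc : Nat.card (zpowers c) = 2 := by
    rw [Nat.card_zpowers, orderOf_eq_prime (sq c ▸ cc) c1]
  have Z4 : Nat.card (center P) = 4 := by
    have := (center P).card_mul_index
    rw [hZ, hc] at this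
    omega
  have rc : (zpowers c).relIndex (center P) = 2 := by
    have := card_mul_relIndex cZ'
    rw [oc, Z4] at this
    omega
  have mc : ∀ (γ : MulAut P) (x : P), γ x ∈ center P ↔ x ∈ center P := fun γ x =>
    SetLike.ext_iff.1 ((characteristic_iff_comap_eq (H := center P)).1 inferInstance γ) x
  have fZ : ∀ γ ∈ iq P e, ∀ z ∈ center P, γ z = z := fun γ hγ z hz => by
    obtain ⟨m, hm, h1⟩ := exists_pow_fix h hγ
    have O : OddAut (center P) γ := ⟨h.pgp.to_subgroup _, fun g hg => (mc γ g).2 hg,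
      fun a _ b _ => map_mul γ a b, m, Nat.two_dvd_ne_zero.1 hm |> Nat.odd_iff.2, fun g hg =>
        (smul_iterate_apply γ m g).trans (h1 g hg)⟩
    refine O.fix_of_relIndex_two rc (fun b _ hb => O.fix_zpowers cZ
      (O.fix_of_mem_zpowers cZ ?_) hb) hz
    conv_rhs => rw [hab]
    simpa only [map_mul, map_inv] using hcm _ _
  have fz : ∀ u v : P, Fz 2 P e u v ↔ ∃ γ ∈ iq P e, γ u = v := fun u v =>
    ⟨iq_of_fz h H, fun ⟨γ, hγ, h1⟩ => h1 ▸ fz_of_iq h hγ u⟩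
  have l1 : ∀ u ∉ center P, lb 2 P e u = 1 := fun u hu => by
    obtain ⟨K, _, _, b, Q, d, α, h1, h2⟩ := lb_eq_of_max h u fun v hv => by
      obtain ⟨γ, -, rfl⟩ := (fz u v).1 hv
      rw [c8 u hu, c8 _ (mt (mc γ u).1 hu)]
    have h3 : ∀ a b : Q, a * b = b * a := fun a b => α.injective (by
      rw [map_mul, map_mul]; exact Subtype.ext (comm_cent' hZ hu (α a).2 (α b).2))
    refine h2 ▸ rank_of_la h1 fun X φ L => ?_
    obtain rfl : X = ⊤ := (eq_top_iff' _).2 fun v => L.cen v fun u _ => h3 u v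
    obtain ⟨v, hv, h6⟩ := L.ne
    obtain ⟨a, ha, a1⟩ := ex u hu
    exact h6 (fix_of_eight L.odd (by rw [card_top, Nat.card_congr α.toEquiv, c8 u hu])
      (fun a _ b _ => h3 a b) (fun g _ => α.injective (Subtype.ext (by simpa using h4 (α g))))
      (mem_top (α.symm ⟨a, ha⟩)) (fun h7 => a1 (by
        simpa using congrArg (fun x => (α x : P)) h7)) hv)
  obtain ⟨w, wZ, wc, hw⟩ := relIndex_eq_two_iff_exists_notMem_and.1 rc
  have l3 : ∀ w ∈ center P, w ∉ zpowers c → lb 2 P e w ≤ 3 := fun w wZ wc => by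
    obtain ⟨K, _, _, b', Q, d, f, R⟩ := exists_red h (zpowers w) (zpowers_le.2 wZ)
    rw [← R.rank' h rfl]
    have h1 := (zpowers w).card_mul_index
    rw [hc, ← R.card] at h1
    have h2 : 1 < Nat.card (zpowers w) := Finite.one_lt_card_iff_nontrivial.2
      ((nontrivial_iff_ne_bot _).2 (mt zpowers_eq_bot.1 fun h2 => wc (h2 ▸ one_mem _)))
    by_cases h3 : c ∈ zpowers w
    · have h5 := card_lt_of_lt (lt_of_le_of_ne (zpowers_le.2 h3) fun h5 => wc (h5 ▸ mem_zpowers w))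
      have h6 := (rank_of_le_four R.ctx (by
        have := Nat.le_of_dvd (by norm_num) (Z4 ▸ card_dvd_of_le (zpowers_le.2 wZ))
        rw [oc] at h5
        interval_cases Nat.card (zpowers w) <;> omega)).2
      omega
    · refine rank_le_eight R.ctx (by nlinarith) fun h5 => h3 (R.eq_one.1 ?_)
      rw [hab, map_mul, map_inv, map_mul, map_mul, mem_center_iff.1 (h5 ▸ mem_top (f b)) (f a),
        mul_inv_cancel]
  obtain ⟨K, _, _, b', Q, d, f, R⟩ := exists_red h (zpowers c) cZ'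
  have hQ := R.comm hcm
  have hab' := ab_of_comm hQ
  have fw : ∀ δ ∈ iq Q d, δ (f w) = f w := fun δ hδ => by
    obtain ⟨γ, hγ, -, h1⟩ := R.lift δ hδ
    rw [← h1, fZ γ hγ w wZ]
  have lc : lb 2 P e c = 3 := by
    obtain ⟨K', _, _, b'', Q', d', g, R'⟩ := exists_red R.ctx (zpowers (f w))
      (le_center_of_ab hab' _)
    have h1 : ∀ x, g (f x) = 1 → x ∈ center P := fun x hx => by
      obtain ⟨k, hk⟩ := R'.eq_one.1 hx
      have h2 : x * (w ^ k)⁻¹ ∈ zpowers c := R.eq_one.1 (by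
        rw [map_mul, map_inv, map_zpow, ← hk, mul_inv_cancel])
      exact (mul_mem_cancel_right (inv_mem (zpow_mem wZ k))).1 (cZ' h2)
    have h2 : Nat.card Q' ≤ 4 := by
      have h2 := (zpowers (f w)).card_mul_index
      have h3 := (zpowers c).card_mul_index
      have h5 : 1 < Nat.card (zpowers (f w)) := Finite.one_lt_card_iff_nontrivial.2
        ((nontrivial_iff_ne_bot _).2 (mt zpowers_eq_bot.1 (mt R.eq_one.1 wc)))
      rw [← R'.card, R.card] at h2
      rw [oc, hc] at h3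
      nlinarith
    obtain ⟨h3, h5⟩ := rank_of_le_four R'.ctx h2
    rw [← R.rank' h rfl, rank_eq_lq R.ctx hab' (zpowers_le.2 (mem_fx.2 fw)), ← R'.rank]
    refine h5.resolve_left fun h5 => ?_
    obtain ⟨v, -, h6⟩ := L.ne
    refine h6 (L.odd.fix_of_fix (mem_top v) ?_)
    obtain ⟨γ, hγ, h7⟩ := (fz _ _).1 (L.fz v (mem_top v))
    obtain ⟨δ, hδ, h8⟩ := R.push γ hγ fun v hv => fZ γ hγ v (cZ' hv)
    obtain ⟨ε, hε, h9⟩ := R'.push δ hδ fun v hv => mem_fx.1 (zpowers_le.2 (mem_fx.2 fw) hv) δ hδ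
    rw [card_eq_one.1 (h3.symm.trans h5), mem_bot] at hε
    have h10 := h1 (φ v * v⁻¹) (by
      rw [map_mul, map_mul, ← h7, h8, h9, hε, MulAut.one_apply, map_inv, map_inv, mul_inv_cancel])
    obtain ⟨γ, hγ, h11⟩ := (fz _ _).1 (L.fz (φ v * v⁻¹) (mem_top _))
    rw [← h11, fZ γ hγ _ h10]
  obtain ⟨π, hπ, hπ'⟩ := R.ctx.exists_norm hab'
  let : CommGroup Q := { mul_comm := hQ }
  obtain ⟨ν, hν⟩ := CommGroup.exists_apply_ne_one_of_hasEnoughRootsOfUnity Q ℂ
    (a := π (f w)) fun h1 => wc (R.eq_one.1 (hπ' _ (fun t ht => by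
      obtain ⟨δ, hδ, h2⟩ := exists_mem_iq ht
      rw [← h2, fw δ hδ]) h1))
  let μ : P →* ℂˣ := ν.comp (π.comp f)
  have μc : μ c = 1 := by simp [μ, R.eq_one.2 (mem_zpowers c)]
  have μw : (μ w : ℂ) = -1 := by
    refine (mul_self_eq_one_iff.1 ?_).resolve_left fun h1 => hν (Units.ext h1)
    simp [μ, ← map_mul, ← Units.val_mul, R.eq_one.2 ((hw w wZ).resolve_right wc)]
  have h6 := sum_lin_eq_zero h μ (fun u v huv => by
    obtain ⟨γ, hγ, rfl⟩ := (fz u v).1 huv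
    obtain ⟨δ, hδ, h8⟩ := R.push γ hγ fun v hv => fZ γ hγ v (cZ' hv)
    exact congrArg ν (hπ _ _ (h8 u ▸ fz_of_iq R.ctx hδ _))) wZ hν
  have h7 : ∀ u : P, wt 2 P e (u * w : P) = wt 2 P e u := fun u => by
    rw [h.wt_eq u.2, h.wt_eq (u * w).2, Nat.card_congr ((Equiv.mulRight w).subtypeEquiv
      (p := fun v : P => Fz 2 P e u v) fun v => ?_)]
    simp only [fz, Equiv.coe_mulRight]
    exact exists_congr fun γ => and_congr_right fun hγ => by
      rw [map_mul, fZ γ hγ w wZ, mul_left_inj]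
  have h8 : ∑ u : P, (μ u : ℂ) * wt 2 P e u = 0 := by
    have h8 := Equiv.sum_comp (Equiv.mulRight w) fun u : P => (μ u : ℂ) * wt 2 P e u
    simp only [Equiv.coe_mulRight, h7, map_mul, Units.val_mul, μw, mul_neg, mul_one, neg_mul,
      Finset.sum_neg_distrib] at h8
    exact self_eq_neg.1 h8.symm
  have h9 : ∀ z ∈ center P, wt 2 P e z = 1 := fun z hz => by
    rw [h.wt_eq z.2, Nat.card_eq_one_iff_exists.2 ⟨⟨z, h.fz_refl z.2⟩, fun ⟨v, hv⟩ => by
      obtain ⟨γ, hγ, rfl⟩ := (fz z v).1 hv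
      exact Subtype.ext (fZ γ hγ z hz)⟩]
    simp
  have wc' : w * c ∉ zpowers c := by rwa [mul_mem_cancel_right (mem_zpowers c)]
  have h10 : ∑ u ∈ ({1, c, w, w * c} : Finset P), (μ u : ℂ) * wt 2 P e u * (lb 2 P e u - 1) = 0 := by
    rw [Finset.sum_subset (Finset.subset_univ _) fun u _ hu => by
      rw [l1 u fun h1 => hu ?_, Nat.cast_one, sub_self, mul_zero]
      simp only [Finset.mem_insert, Finset.mem_singleton]
      by_cases h2 : u ∈ zpowers c
      · have := (mem_zpowers_of_mul_self cc).1 h2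
        tauto
      · have := (mem_zpowers_of_mul_self cc).1 (mul_inv_mem_of_relIndex_two rc h1 wZ h2 wc)
        rw [mul_inv_eq_one, mul_inv_eq_iff_eq_mul, ← mem_center_iff.1 cZ w] at this
        tauto]
    simp only [mul_sub, mul_one, Finset.sum_sub_distrib, h8, mul_assoc, h6, sub_zero]
  have n1 : ∀ a ∈ zpowers c, ∀ b ∉ zpowers c, a ≠ b := fun a ha b hb h1 => hb (h1 ▸ ha)
  rw [Finset.sum_insert (by simp [c1.symm, n1 1 (one_mem _) w wc, n1 1 (one_mem _) _ wc']),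
    Finset.sum_insert (by simp [n1 c (mem_zpowers c) w wc, n1 c (mem_zpowers c) _ wc']),
    Finset.sum_pair (by simp [c1]), h9 1 (one_mem _), h9 c cZ, h9 w wZ, h9 _ (mul_mem wZ cZ),
    map_mul, μc, mul_one, μw, map_one, lc, coe_one, h.lb_one] at h10
  have h11 : blockRank 2 B + 3 = lb 2 P e w + lb 2 P e (w * c : P) := by
    refine Nat.cast_injective (R := ℂ) ?_
    push_cast at h10 ⊢
    linear_combination h10
  have := l3 w wZ wc
  have := l3 _ (mul_mem wZ cZ) wc'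
  omega

end Cfsg.Agent.H35
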