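import Cfsg.Agent.H35.SbNum
import Cfsg.Agent.H86.Contr2
import Cfsg.Agent.H87.KB
import Cfsg.Agent.H93.Metacyc
import Cfsg.Agent.H92.Reduce
import Cfsg.Agent.S4528
import Cfsg.Agent.S4529
import Cfsg.Agent.S4530
import Cfsg.Agent.S4552

/-! Two-blocks with metacyclic defect groups have at most three Brauer characters; the reduction
of Brauer's `k(B)`-problem to the dominated block of a major subsection. -/

set_option autoImplicit false
set_option linter.unusedSectionVars false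

open MonoidAlgebra Subgroup

namespace Cfsg.Agent.H35

open Cfsg Cfsg.Agent.H87 Cfsg.Agent.H32 Cfsg.Agent.H86 Cfsg.Agent.H42

universe u

variable {M : Ideal AlgInt} [hMm : M.IsMaximal] {G : Type u} [Group G] [Finite G]
  {B : Set (IrrCharacter G)} {P : Subgroup G} {e : (Res M)[G]}

theorem rank_of_cyclic (h : Ctx M 2 B P e) (hc : IsCyclic P) : blockRank 2 B = 1 := by
  obtain ⟨d, hd⟩ := hc.exists_generator
  exact rank_of_la h fun X φ L => L.ne.elim fun v hv =>
    hv.2 (L.odd.fix_of_mem_cyclic hv.1 (hd _) (hd _))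

theorem rank_of_three (h : Ctx M 2 B P e) {A : Type*} [Group A] (α : P ≃* A)
    (hA : ∀ a b : A, a * b = b * a) (h3 : Nat.card {x : A // orderOf x = 2} = 3) :
    blockRank 2 B ≤ 3 := by
  obtain ⟨h1, h2, -⟩ := exists_std_of_three h (fun u hu => mem_Ce_of_comm' (u := ⟨u, hu⟩) fun g =>
    α.injective (by rw [map_mul, map_mul, hA])) (h3 ▸ Nat.card_congr
      (α.toEquiv.subtypeEquiv fun a => by simp))
  omega

theorem rank_le_of_metacyclic (h : Ctx M 2 B P e) (hm : IsMetacyclic P) : blockRank 2 B ≤ 3 := by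
  have : Fact (Nat.Prime 2) := ⟨Nat.prime_two⟩
  have := res_charP h.hM
  obtain ⟨n, hn⟩ := h.pgp.exists_card_eq
  have hp : ∀ a m : ℕ, Nat.card P = a * m → ∃ k, m = 2 ^ k := fun a m h1 =>
    ((Nat.dvd_prime_pow Nat.prime_two).1 (hn ▸ h1 ▸ dvd_mul_left m a)).imp fun _ h => h.2
  by_cases hd : ∃ m : ℕ, Nonempty (P ≃* DihedralGroup m)
  · obtain ⟨m, ⟨α⟩⟩ := hd
    have h1 := (Nat.card_congr α.toEquiv).trans DihedralGroup.nat_card
    obtain ⟨_ | _ | k, rfl⟩ := hp _ _ h1
    · exact (rank_of_cyclic h (isCyclic_of_prime_card (p := 2) h1)).trans_le (by norm_num)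
    · exact rank_of_three h (A := DihedralGroup 2) α (by decide) card_inv_of_klein
    · exact (S4528.result M h.hM B h.hB P h.isDefectGroup (k + 3) (by omega) ⟨α⟩).2.2.1
  by_cases hq : ∃ m : ℕ, Nonempty (P ≃* QuaternionGroup m)
  · obtain ⟨m, ⟨α⟩⟩ := hq
    have : NeZero m := ⟨by
      rintro rfl
      exact absurd (Finite.of_equiv _ α.toEquiv) (not_finite_iff_infinite.2
        (Infinite.of_injective (fun k : ZMod 0 => QuaternionGroup.a (n := 0) k)
          fun _ _ h => by injection h))⟩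
    have h1 := (Nat.card_congr α.toEquiv).trans (Nat.card_eq_fintype_card.trans QuaternionGroup.card)
    obtain ⟨_ | k, rfl⟩ := hp _ _ h1
    · exact (rank_of_cyclic h (α.isCyclic.2 QuaternionGroup.quaternionGroup_one_isCyclic)).trans_le
        (by norm_num)
    · exact (S4530.result M h.hM B h.hB P h.isDefectGroup (k + 3) (by omega) ⟨α⟩).2.1
  by_cases hsd : IsQuasiDihedral P
  · obtain ⟨k, h1, h2, h3⟩ := hsd
    exact (S4529.result M h.hM B h.hB P h.isDefectGroup (k + 1) (by omega) h2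
      ⟨k, h1, h2, h3⟩).2.2.1
  by_cases hA : IsPGroup 2 (MulAut P)
  · obtain ⟨F, hF⟩ := exists_isBFS (T := ⊤) top_le_No_top h.pair le_top
    have h1 := hF.saturated le_rfl top_le_No_top (blk_eB h.hB) h.hm (good h.hM)
    exact (h.rank_of_nilp ((hF.nilp_iff (good h.hM) (blk_eB h.hB) h.hm).2 (H92.inner_iff'.2
      (H92.inner_of_normal_top h.pgp h1 (H93.metacyclic_normal h.pgp h1 (H91.stronglyClosed_top F)
        hm hd hq hsd) (hA.to_subgroup _))))).trans_le (by norm_num)
  rcases S1896.result h.pgp hm hA with h1 | ⟨_ | k, ⟨α⟩⟩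
  · exact absurd ⟨2, h1⟩ hq
  · have : Subsingleton P := α.toEquiv.subsingleton_congr.2 (by
      rw [pow_zero]; infer_instance)
    exact (rank_of_cyclic h inferInstance).trans_le (by norm_num)
  · exact rank_of_three h (α.trans (MulEquiv.prodMultiplicative _ _).symm) mul_comm
      (S4552.card_inv _ (by omega))

/-- Groups all of whose blocks have at most three Brauer characters. -/
def Sm (K : Type*) [Group K] : Prop := IsMetacyclic K ∨ ∃ (x y s : K) (m : ℕ), DY x y s m

theorem card_le_of_sm (h : Ctx M 2 B P e) {z : P} (hz : ∀ g, g * z = z * g)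
    (H : ∀ (K : Type u) [Group K] (f : P →* K), Function.Surjective f → f.ker = zpowers z → Sm K) :
    Nat.card B ≤ Nat.card P := by
  classical
  have : Fact (Nat.Prime 2) := ⟨Nat.prime_two⟩
  have hM := h.hM
  obtain ⟨C, hC, b, Z, _, hb, hd, h3, h4, hZ, -, h6, -⟩ := exists_major h z.2 (mem_Ce_of_comm' hz)
  have := Fintype.ofFinite G
  obtain ⟨e', h'⟩ := exists_ctx hM (h3.isPBlock_dom hM hb.1).1 h6
  have hl : blockRank 2 b ≤ 3 := by
    rw [← h3.rank_dom hM hb.1]
    rcases H _ (((QuotientGroup.mk' Z).comp (inclusion h4)).codRestrict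
      ((P.subgroupOf C).map (QuotientGroup.mk' Z)) fun u =>
        mem_map_of_mem _ (mem_subgroupOf.2 u.2))
      (by rintro ⟨_, g, hg, rfl⟩; exact ⟨⟨g, hg⟩, rfl⟩) (Subgroup.ext fun u => by
        rw [MonoidHom.ker_codRestrict, MonoidHom.mem_ker, MonoidHom.comp_apply,
          QuotientGroup.mk'_apply, QuotientGroup.eq_one_iff, hZ, ← coe_mem_zpowers' (P := C),
          ← coe_mem_zpowers', hC.coe_elt, coe_inclusion]) with h5 | ⟨x, y, s, m, T⟩
    exacts [rank_le_of_metacyclic h' h5, T.rank_le h']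
  obtain ⟨n, hn⟩ := h.pElt z.2
  obtain ⟨ω, hω⟩ := H86.exists_primitiveRoot hM.1 n
  obtain ⟨χ₀, h₀, hh₀⟩ := H86.exists_height_zero (p := 2) (isPBlock_nonempty h.hB)
  have h7 := (hermFam_con hM hC hn hω hb).robinson hM hω hl
    (fun k hk => by exact_mod_cast sum_pow_mul_con_self hM hC hn hb k hk)
    (fun χ => blockHeight 2 B (χ : G → ℂ)) (fun χ _ ψ hψ => ?_) (fun χ hχ ψ hψ k hk => ?_)
    (mem_fs.2 h₀) hh₀
  · have h8 := three_mul_card_le_weight B fun χ => blockHeight 2 B (χ : G → ℂ)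
    rw [hd, ← h.card_eq] at h7
    omega
  · rw [hd, pow_one]
    exact_mod_cast con_div_mem hM hC ⟨n, hn⟩ hb.1 (H53.virt_of_irr χ.2) (mem_fs.1 hψ)
  · rw [hd]
    exact_mod_cast con_div_mem_iff hM (hC.pow (hn ▸ hk)) (pElt_pow_coprime hn hk) hb hd
      (mem_fs.1 hχ) (mem_fs.1 hψ)

end Cfsg.Agent.H35
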