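import Cfsg.Agent.H35.KbAlg
import Cfsg.Agent.H35.KbLat
import Cfsg.Agent.H35.SbLM

/-! Reduction of Brauer's `k(B)`-problem modulo a central subgroup of the defect group. -/

set_option autoImplicit false
set_option linter.unusedSectionVars false

open MonoidAlgebra Subgroup ComplexConjugate

namespace Cfsg.Agent.H35

open Cfsg Cfsg.Agent.H87 Cfsg.Agent.H32 Cfsg.Agent.H86 Cfsg.Agent.H34

universe u

variable {M : Ideal AlgInt} [hMm : M.IsMaximal] {G : Type u} [Group G] [Finite G] {p : ℕ}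
  {B : Set (IrrCharacter G)} {P : Subgroup G} {e : (Res M)[G]}

variable (B) in
/-- The linear combination of the members of `B` with coefficients `f`. -/
noncomputable def lin (f : IrrCharacter G → ℂ) : G → ℂ := ∑ χ ∈ fs B, f χ • (χ : G → ℂ)

variable (p B) in
/-- Families of virtual projective characters which bound the number of characters. -/
abbrev KP (N : ℕ) : Prop := KP0 (fs B) (fun f => pRegularPart p (lin B f) = lin B f) N

theorem blockPart_lin (f : IrrCharacter G → ℂ) : blockPart B (lin B f) = lin B f := by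
  have := Fintype.ofFinite G
  rw [lin, H86.blockPart_sum]
  exact Finset.sum_congr rfl fun χ hχ => by
    rw [H86.blockPart_smul, H86.blockPart_irr_of_mem (mem_fs.1 hχ)]

theorem virt_lin (n : IrrCharacter G → ℤ) : IsGeneralizedCharacter G (lin B fun χ => n χ) :=
  H53.virt_sum _ _ fun χ _ => by
    rw [Int.cast_smul_eq_zsmul]; exact H53.virt_zsmul _ (H53.virt_of_irr χ.2)

theorem cf_lin (f : IrrCharacter G → ℂ) : IsClassFunction G (lin B f) :=
  blockPart_lin (B := B) f ▸ have := Fintype.ofFinite G; H86.isClassFunction_blockPart _ _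

theorem ci_lin_int [Fintype G] (F : G → ℂ) (n : IrrCharacter G → ℤ) :
    classInner F (lin B fun χ => n χ) = ∑ χ ∈ fs B, classInner F χ * n χ := by
  simp only [lin, H5.classInner_sum_right, H5.classInner_smul_right, map_intCast, mul_comm]

theorem ci_lin [Fintype G] (f : IrrCharacter G → ℂ) {ψ : IrrCharacter G} (hψ : ψ ∈ fs B) :
    classInner (lin B f) ψ = f ψ := by
  classical
  simp [lin, H5.classInner_sum_left, H5.classInner_smul_left, H5.classInner_irrCharacter, hψ]

theorem card_le_of_kp {C : Subgroup G} {u : G} {b : Set (IrrCharacter C)} (hM : IsPModular p M)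
    (hC : IsCent C u) (hu : ∃ k, orderOf u = p ^ k) (hind : IsInducedBlock M C b B)
    (hd : blockDefect p b = blockDefect p B) {Z : Subgroup C} [Z.Normal] (hZ : CZ p Z) {N : ℕ}
    (hK : KP p (dom Z b) N) : Nat.card B ≤ Nat.card Z * N := by
  have := Fintype.ofFinite G
  have := Fintype.ofFinite C
  have := Fintype.ofFinite (C ⧸ Z)
  obtain ⟨ι, S, n, m, hm, h1, h2, h3⟩ := hK
  have hb := (hZ.isPBlock_dom hM hind.1).1
  have h4 : ∀ i, blockPart b ((Nat.card Z : ℂ) • lif p (lin (dom Z b) fun χ => n i χ)) =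
      (Nat.card Z : ℂ) • lif p (lin (dom Z b) fun χ => n i χ) := fun i => by
    rw [H86.blockPart_smul, blockPart_lif hM hind.1 (cf_lin _), blockPart_lin]
  have h5 := mul_card_le_sum hM hC hu hind S
    (fun i => (Nat.card Z : ℂ) • lif p (lin (dom Z b) fun χ => n i χ))
    (fun i hi => hZ.virt_lif hM (virt_lin _) fun q hq => h1 i hi ▸ reg_of_singular _ hq)
    (fun i _ => by rw [reg_smul, reg_lif]) (fun i _ => h4 i) (m := m) (T := fs B) subset_rfl
    fun χ hχ => by
      set F := gen p C u b χ with hF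
      have a4 := hZ.isClassFunction_dsc (isClassFunction_gen b χ : IsClassFunction C F)
      have a5 : lif p (blockPart (dom Z b) (pRegularPart p (dsc p Z F))) = F := by
        rw [← blockPart_lif hM hind.1 (isClassFunction_reg a4), lif_reg, hZ.lif_dsc,
          reg_gen hM hind.1, blockPart_gen]
      have a6 : lin (dom Z b) (fun ψ => classInner (pRegularPart p (dsc p Z F)) ψ) =
          blockPart (dom Z b) (pRegularPart p (dsc p Z F)) := (H86.blockPart_eq _ _).symm
      obtain ⟨t, ht, h5, h6⟩ := h2 (fun ψ => classInner (pRegularPart p (dsc p Z F)) ψ)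
        (by beta_reduce; rw [a6, blockPart_reg hM hb, reg_reg]) (by
          by_contra! h5
          refine gen_ne_zero_of_major hM hC hu hind hd (mem_fs.1 hχ) ?_
          rw [← hF, ← a5, ← a6, lin, Finset.sum_eq_zero fun ψ hψ => by rw [h5 ψ hψ, zero_smul]]
          exact reg_zero)
      refine ⟨t, ht, h5, fun i hi h7 => h6 i hi ?_⟩
      rw [← h4, ← reg_lif, ← reg_smul, H86.blockPart_reg hM hind.1, ← classInner_reg,
        ← H86.classInner_blockPart] at h7
      change classInner F _ = 0 at h7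
      rwa [H5.classInner_smul_right, map_natCast, ← a5, hZ.ci_lif, blockPart_reg hM hb, reg_reg,
        ← blockPart_reg hM hb, H86.classInner_blockPart, blockPart_lin, ci_lin_int] at h7
  rw [← Complex.re_sum, Finset.sum_congr rfl fun i hi => by
    rw [H5.classInner_smul_left, H5.classInner_smul_right, map_natCast, hZ.ci_lif, h1 i hi,
      ci_lin_int, Finset.sum_congr rfl fun ψ hψ => by rw [ci_lin _ hψ, ← Int.cast_mul, ← sq],
      ← Int.cast_sum], ← Finset.mul_sum, ← Int.cast_sum, ← Int.cast_natCast (Nat.card Z), ← Int.cast_mul,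
    Complex.intCast_re, card_fs] at h5
  have h6 : (m * Nat.card B : ℤ) ≤ m * (Nat.card Z * N) := (by exact_mod_cast h5 : (_ : ℤ) ≤ _).trans
    ((mul_le_mul_of_nonneg_left h3 (by positivity)).trans_eq (by ring))
  exact Nat.le_of_mul_le_mul_left (by exact_mod_cast h6) hm

theorem exists_ctx_Ce (h : Ctx M p B P e) {Q : Subgroup G} (hPQ : P ≤ Ce Q)
    {c : Set (IrrCharacter (Ce Q))} (hc : IsPBlock M c)
    (hs : Sub p ⊤ Q (idm M (Ce Q).subtype c) P e) :
    ∃ e', Ctx M p c (P.subgroupOf (Ce Q)) e' ∧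
      ∀ t : Ce Q, t ∈ No (P.subgroupOf (Ce Q)) ⊓ stab e' ↔ (t : G) ∈ No P ⊓ stab e := by
  have : Fact p.Prime := ⟨h.hM.1⟩
  have := res_charP h.hM
  have hι := (Ce Q).subtype_injective
  have hm := h.hm.inf_Ce (blk_eB h.hB) hs hPQ
  rw [top_inf_eq] at hm
  have hP : (P.subgroupOf (Ce Q)).map (Ce Q).subtype = P := map_subgroupOf_eq_of_le hPQ
  have hT : (⊤ : Subgroup (Ce Q)).map (Ce Q).subtype = Ce Q := (emb_subtype _).map_top
  obtain ⟨e', rfl⟩ := exists_up_eq hι (H := ⊤) (z := e) (hT.symm ▸ hm.bpair.pair.suppN)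
  refine ⟨e', ⟨h.hM, hc, BPair.maxPair_of_isDef
    ((bpair_up_iff hι).1 (by rw [hT, hP]; exact hm.bpair))
    ((isDef_up_iff hι).1 (by
      rw [hT, hP]; exact hm.isDef le_rfl le_normalizer ((emb_subtype _).blk_idm hc)))⟩,
    fun t => and_congr ((mem_No_map_iff hι).symm.trans (by rw [hP]; rfl)) ?_⟩
  change cj t e' = e' ↔ cj ((Ce Q).subtype t) (up _ e') = up _ e'
  rw [cj_up, (up_injective hι).eq_iff]

variable (p B e) in
/-- The block dominated by the block of `C_G(V)` modulo the central subgroup `V` of `P`. -/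
structure Red (V : Subgroup P) {K : Type u} [Group K] [Finite K] (b : Set (IrrCharacter K))
    (Q : Subgroup K) (d : (Res M)[K]) (f : P →* Q) : Prop where
  ctx : Ctx M p b Q d
  surj : Function.Surjective f
  ker : f.ker = V
  rank : blockRank p b = lq p P e (V.map P.subtype)
  push : ∀ γ ∈ iq P e, (∀ v ∈ V, γ v = v) → ∃ δ ∈ iq Q d, ∀ x, f (γ x) = δ (f x)
  lift : ∀ δ ∈ iq Q d, ∃ γ ∈ iq P e, (∀ v ∈ V, γ v = v) ∧ ∀ x, f (γ x) = δ (f x)
  kp : ∀ u : P, V = zpowers u → ∀ N, KP p b N → Nat.card B ≤ Nat.card V * N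

theorem exists_red (h : Ctx M p B P e) (V : Subgroup P) (hV : V ≤ center P) :
    ∃ (K : Type u) (_ : Group K) (_ : Finite K) (b : Set (IrrCharacter K)) (Q : Subgroup K)
      (d : (Res M)[K]) (f : P →* Q), Red p B e V b Q d f := by
  have : Fact p.Prime := ⟨h.hM.1⟩
  have := res_charP h.hM
  set W := V.map P.subtype with hW
  have hWP : W ≤ P := map_subtype_le V
  have hPW : P ≤ Ce W := fun g hg => mem_Ce.2 (by
    rintro _ ⟨v, hv, rfl⟩
    exact congrArg Subtype.val (mem_center_iff.1 (hV hv) ⟨g, hg⟩).symm)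
  obtain ⟨j, hj⟩ := exists_sub h.pair hWP
  obtain ⟨c, hc, rfl⟩ := (hj.pair_iff.2 h.pair).exists_idm
  obtain ⟨e', h1, h2⟩ := exists_ctx_Ce h hPW hc.2 hj
  have h3 : W.subgroupOf (Ce W) ≤ center _ := fun z hz => mem_center_iff.2 fun g =>
    Subtype.ext (mem_Ce.1 g.2 z hz).symm
  have : (W.subgroupOf (Ce W)).Normal := ⟨fun z hz g => by
    rwa [mem_center_iff.1 (h3 hz) g, mul_inv_cancel_right]⟩
  have h4 : CZ p (W.subgroupOf (Ce W)) := ⟨h.hM.1, (h.pgp.to_le hWP).comap_subtype, h3⟩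
  obtain ⟨d, h5, h6, h7⟩ := exists_ctx_quot h1 h4 (comap_mono hWP)
  refine ⟨_, _, inferInstance, _, _, d, ((QuotientGroup.mk' _).comp (inclusion hPW)).codRestrict
    ((P.subgroupOf (Ce W)).map (QuotientGroup.mk' (W.subgroupOf (Ce W)))) fun u => mem_map_of_mem _ (mem_subgroupOf.2 u.2), h5, ?_, Subgroup.ext fun u => ?_,
    (h4.rank_dom h.hM hc.2).trans (h.lq_eq (emb_subtype _) hc.2 hj).symm, fun γ hγ h8 => ?_,
    fun δ hδ => ?_, fun u hu N hK => ?_⟩
  · rintro ⟨_, g, hg, rfl⟩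
    exact ⟨⟨g, hg⟩, rfl⟩
  · rw [MonoidHom.ker_codRestrict, MonoidHom.mem_ker, MonoidHom.comp_apply,
      QuotientGroup.mk'_apply, QuotientGroup.eq_one_iff, mem_subgroupOf, coe_inclusion]
    exact mem_map_iff_mem P.subtype_injective
  · obtain ⟨g, hg, h9⟩ := mem_iq.1 hγ
    have h10 : g ∈ Ce W := mem_Ce.2 (by
      rintro _ ⟨v, hv, rfl⟩
      exact (mul_inv_eq_iff_eq_mul.1 ((h9 v).symm.trans (congrArg Subtype.val (h8 v hv)))).symm)
    obtain ⟨δ, hδ, h11⟩ := exists_mem_iq (h6 ⟨g, h10⟩ ((h2 _).2 hg))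
    refine ⟨δ, hδ, fun x => Subtype.ext ?_⟩
    rw [h11]
    exact congrArg (QuotientGroup.mk' _) (Subtype.ext (h9 x) : inclusion hPW (γ x) =
      ⟨g, h10⟩ * inclusion hPW x * ⟨g, h10⟩⁻¹)
  · obtain ⟨m, hm, h9⟩ := mem_iq.1 hδ
    obtain ⟨n, hn, h10⟩ := h7 m hm
    obtain ⟨γ, hγ, h11⟩ := exists_mem_iq ((h2 n).1 hn)
    refine ⟨γ, hγ, fun v hv => Subtype.ext ?_, fun x => Subtype.ext ?_⟩
    · rw [h11, ← mem_Ce.1 n.2 v (mem_map_of_mem _ hv), mul_inv_cancel_right]
    · refine (congrArg (QuotientGroup.mk' _) (Subtype.ext (h11 x) : inclusion hPW (γ x) =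
        n * inclusion hPW x * n⁻¹)).trans ?_
      have h12 := mem_Ce.1 h10 _ (δ ⟨_, mem_map_of_mem _ (mem_subgroupOf.2 x.2 :
        inclusion hPW x ∈ _)⟩).2
      rw [h9] at h12 ⊢
      rw [map_mul, map_mul, map_inv, mul_inv_eq_iff_eq_mul]
      refine mul_right_cancel (b := m⁻¹) ?_
      refine Eq.trans ?_ (h12.symm.trans (mul_assoc _ _ _).symm)
      simp only [mul_assoc, inv_mul_cancel_left]
  · have h8 : W = zpowers (u : G) := by rw [hW, hu, MonoidHom.map_zpowers]; rfl
    have hC : IsCent (Ce W) u := h8 ▸ isCent_zpowers (u : G)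
    refine (card_le_of_kp h.hM hC (h.pElt u.2) ((hC.bpair_iff h.hM (h.pElt u.2) hc.2 h.hB).2
      (h8 ▸ h.bpair_of_sub hj)) (Nat.pow_right_injective h.hM.1.two_le ?_) h4 hK).trans_eq ?_
    · exact h1.card_eq.symm.trans ((Nat.card_congr (subgroupOfEquivOfLe hPW).toEquiv).trans
        h.card_eq)
    · rw [Nat.card_congr (subgroupOfEquivOfLe (hWP.trans hPW)).toEquiv, card_subtype]

theorem kp_of_fpf (h : Ctx M p B P e) (hab : P ≤ Ce P) (hf : FpfA (iq P e)) (hP : P ≠ ⊥) :
    KP p B (Nat.card P) := by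
  classical
  have := Fintype.ofFinite P
  have := Fintype.ofFinite (P →* ℂˣ)
  obtain ⟨δ, hδ⟩ := exists_frob h hab hf
  obtain ⟨a, ha, hg, hr⟩ := hδ.exists_gram hP
  obtain ⟨ε, c, ζ, b, f⟩ := hg.exists_form
  obtain ⟨h1, h2⟩ := hδ.card_sdiff hg f
  have h0 := kp0_of_form f hg (Finset.card_pos.1 (h1 ▸ have := Fintype.ofFinite G
    one_le_blockRank h.hM.1 (isPBlock_nonempty h.hB)))
  have := Fintype.ofFinite G
  refine h2 ▸ h0.congr fun v => ⟨fun h3 => ?_, fun h3 l _ => ?_⟩
  · refine reg_eq_self fun g => hδ.apply_eq_zero (cf_lin v) (blockPart_lin v) fun u hu => ?_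
    rw [lin, D, H87.dn_sum, Finset.sum_congr rfl fun χ _ => by
      rw [H87.dn_smul, ← D, hδ.D_eq hu, fourier_off_one hδ.comm (th p P e δ χ) hu,
        mul_left_comm, Finset.mul_sum], ← Finset.mul_sum, Finset.sum_comm, Finset.sum_eq_zero,
      mul_zero]
    intro l _
    simp only [← mul_assoc, ← Finset.sum_mul]
    by_cases hl : l = 1
    · rw [hl, show lc (1 : P →* ℂˣ) - 1 = 0 from funext fun u => by simp [lc_one_left]]
      simp [H5.classInner_zero_right]
    · simp only [ha, h3 l (by simpa using hl), zero_mul]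
  · rw [Finset.sum_congr rfl fun χ hχ => by rw [← ci_lin v hχ], ← ci_lin_int, ← h3, classInner_reg,
      reg_congr (ψ := 0) fun g hg => by simpa [lin] using hr l g hg, reg_zero,
      H5.classInner_zero_right]

theorem card_le_of_lb (h : Ctx M p B P e) {u : G} (hu : u ∈ P) (hc : u ∈ Ce P)
    (hl : lb p P e u ≤ 2) : Nat.card B ≤ Nat.card P :=
  have := Fintype.ofFinite G
  have := Fintype.ofFinite (Ce (zpowers u))
  h.card_eq ▸ card_le_of_rank_le_two h.hM (isCent_zpowers u) (h.pElt hu) (h.induced hu)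
    (h.df_of_central hu hc) hl

theorem card_le_of_lb_three {e : (Res M)[G]} (h : Ctx M 2 B P e) {u : G} (hu : u ∈ P)
    (hc : u ∈ Ce P) (hl : lb 2 P e u ≤ 3) : Nat.card B ≤ Nat.card P := by
  classical
  have := Fintype.ofFinite G
  have := Fintype.ofFinite (Ce (zpowers u))
  have hM := h.hM
  have hC := isCent_zpowers u
  have hb := h.induced hu
  have hd : blockDefect 2 (blk 2 P e u) = _ := h.df_of_central hu hc
  obtain ⟨n, hn⟩ := h.pElt hu
  obtain ⟨ω, hω⟩ := H86.exists_primitiveRoot hM.1 n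
  obtain ⟨χ₀, h₀, hh₀⟩ := H86.exists_height_zero (p := 2) (isPBlock_nonempty h.hB)
  have h7 := (hermFam_con hM hC hn hω hb).robinson hM hω hl
    (fun k hk => by exact_mod_cast sum_pow_mul_con_self hM hC hn hb k hk)
    (fun χ => blockHeight 2 B (χ : G → ℂ)) (fun χ _ ψ hψ => ?_) (fun χ hχ ψ hψ k hk => ?_)
    (mem_fs.2 h₀) hh₀
  · have h8 := three_mul_card_le_weight B fun χ => blockHeight 2 B (χ : G → ℂ)
    rw [hd, ← h.card_eq] at h7
    omega
  · rw [hd, pow_one]
    exact_mod_cast con_div_mem hM hC ⟨n, hn⟩ hb.1 (H53.virt_of_irr χ.2) (mem_fs.1 hψ)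
  · rw [hd]
    exact_mod_cast con_div_mem_iff hM (hC.pow (hn ▸ hk)) (pElt_pow_coprime hn hk) hb hd
      (mem_fs.1 hχ) (mem_fs.1 hψ)

end Cfsg.Agent.H35
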