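import Cfsg.Agent.H35.OlH
import Cfsg.Agent.H35.KbMain
import Cfsg.Agent.H64.PHall
import Cfsg.Agent.H92.Iso2

/-! Olsson's bound for `2`-blocks of defect at most five. -/

set_option autoImplicit false
set_option linter.unusedSectionVars false
set_option synthInstance.maxSize 2048

open MonoidAlgebra Subgroup ComplexConjugate

namespace Cfsg.Agent.H35

open Cfsg Cfsg.Agent.H87 Cfsg.Agent.H32 Cfsg.Agent.H86 Cfsg.Agent.H34 Cfsg.Agent.H42

universe u

open Polynomial in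
theorem exists_coeff (Q : ℤ[X]) : ∃ a b c d : ℤ, ∀ z : ℂ, z ^ 4 = -1 →
    aeval z Q = a + b * z + c * z ^ 2 + d * z ^ 3 := by
  induction Q using Polynomial.induction_on with
  | C a => exact ⟨a, 0, 0, 0, fun z _ => by simp⟩
  | add P Q h1 h2 =>
    obtain ⟨a, b, c, d, h1⟩ := h1
    obtain ⟨a', b', c', d', h2⟩ := h2
    exact ⟨a + a', b + b', c + c', d + d', fun z hz => by
      rw [map_add, h1 z hz, h2 z hz]; push_cast; ring⟩
  | monomial n r h =>
    obtain ⟨a, b, c, d, h⟩ := h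
    exact ⟨-d, a, b, c, fun z hz => by
      rw [pow_succ, ← mul_assoc, map_mul, h z hz, aeval_X]; push_cast
      linear_combination d * hz⟩

theorem fam_eight {ω : ℂ} (hω : IsPrimitiveRoot ω 8) {F : ℕ → ℂ} (h : Fam 8 ω F)
    (H : F 3 = F 1 ∧ F (3 * 5) = F 5 ∨ F 7 = F 1 ∧ F (7 * 5) = F 5) :
    ∃ a : ℤ, F 1 + F 5 = 2 * a ∧ (a = 0 → ∃ m : ℤ, F 1 * F 1 = 2 * m) := by
  obtain ⟨Q, hQ⟩ := h
  obtain ⟨a, b, c, d, h⟩ := exists_coeff Q
  have h4 : ω ^ 4 = -1 := (hω.pow (by norm_num) (show 8 = 4 * 2 from rfl)).eq_neg_one_of_two_right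
  have h1 : ∀ k, Odd k → Nat.Coprime 8 k →
      F k = a + b * ω ^ k + c * (ω ^ k) ^ 2 + d * (ω ^ k) ^ 3 := fun k hk hk' => by
    rw [hQ k hk', h _ (by rw [pow_right_comm, h4, hk.neg_one_pow])]
  have e : ∀ n, ω ^ (n + 4) = -ω ^ n := fun n => by rw [pow_add, h4, mul_neg_one]
  have h2 := h1 1 (by decide) (by decide)
  have h3 := h1 5 (by decide) (by decide)
  have h5 := h1 3 (by decide) (by decide)
  have h6 := h1 15 (by decide) (by decide)
  have h7 := h1 7 (by decide) (by decide)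
  have h8 := h1 35 (by decide) (by decide)
  simp only [← pow_mul, Nat.reduceMul] at h2 h3 h5 h6 h7 h8 H
  simp only [e, neg_neg, pow_one] at h2 h3 h5 h6 h7 h8
  rcases H with ⟨H1, H2⟩ | ⟨H1, H2⟩
  · refine ⟨a, by linear_combination (h2 + h3 + h5 + h6 - H1 - H2) / 2, fun h0 => ⟨-b ^ 2, ?_⟩⟩
    have h9 : (b - d) * (ω - ω ^ 3) = 0 := by
      linear_combination (h5 - h2 - h6 + h3 - H1 + H2) / 2
    have h10 : (d : ℂ) = b := by
      linear_combination (ω ^ 3 - ω) / 2 * h9 + (b - d) * (ω ^ 2 - 2) / 2 * h4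
    have h11 : c * ω ^ 2 = 0 := by linear_combination (h5 - h2 + h6 - h3 - H1 - H2) / 4
    rw [h2, h11, h10, h0]
    push_cast
    linear_combination b ^ 2 * (ω ^ 2 + 2) * h4
  · refine ⟨a, by linear_combination (h2 + h3 + h7 + h8 - H1 - H2) / 2, fun h0 => ⟨b ^ 2, ?_⟩⟩
    have h9 : (b + d) * (ω + ω ^ 3) = 0 := by
      linear_combination (h7 - h2 - h8 + h3 - H1 + H2) / 2
    have h10 : (d : ℂ) = -b := by
      linear_combination (ω ^ 3 + ω) / -2 * h9 + (b + d) * (ω ^ 2 + 2) / 2 * h4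
    have h11 : c * ω ^ 2 = 0 := by linear_combination (h7 - h2 + h8 - h3 - H1 - H2) / 4
    rw [h2, h11, h10, h0]
    push_cast
    linear_combination b ^ 2 * (ω ^ 2 - 2) * h4

variable {M : Ideal AlgInt} [hMm : M.IsMaximal] {G : Type u} [Group G] [Finite G] {p : ℕ}
  {B : Set (IrrCharacter G)} {P : Subgroup G} {e : (Res M)[G]}

variable (B) in
/-- The number of characters of height zero. -/
noncomputable abbrev k0 : ℕ :=
  Nat.card {χ : IrrCharacter G // χ ∈ B ∧ blockHeight 2 B (χ : G → ℂ) = 0}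

theorem lb_max (h : Ctx M p B P e) (u : P)
    (H : ∀ v : P, Fz p P e u v → Nat.card (ce v) ≤ Nat.card (ce u)) :
    p ^ df p P e u = Nat.card (ce u) ∧
    ∃ (K : Type u) (_ : Group K) (_ : Finite K) (b : Set (IrrCharacter K)) (Q : Subgroup K)
      (d : (Res M)[K]) (α : Q ≃* ce u), Ctx M p b Q d ∧ lb p P e u = blockRank p b ∧
        ∀ x : Q, (α x : P) = u → (x : K) ∈ center K := by
  have : Fact p.Prime := ⟨h.hM.1⟩
  have := res_charP h.hM
  obtain ⟨hb, hs⟩ := h.blk_spec u.2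
  have h1 := (h.hm.isDef_inf_iff le_rfl top_le_No_top (blk_eB h.hB) hs (K := Ce (zpowers (u : G)))
    inf_le_right le_top (Ce_le_No _) ((hs.pair_iff.2 h.pair).blk.inv.mono
      (le_inf le_top le_rfl))).2 fun x _ hx => by
    rw [cjS_zpowers] at hx
    have h2 : Fz p P e u (x * u * x⁻¹) := ⟨x, hx, rfl⟩
    rw [cjS_Ce, cjS_zpowers, card_inf_Ce u]
    exact (card_inf_Ce ⟨_, h2.mem⟩).trans_le (H ⟨_, h2.mem⟩ h2)
  obtain ⟨d, hd⟩ := exists_ctx h.hM hb ((isDefectGroup_subgroupOf_iff h.hM inf_le_right hb).2 h1)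
  have h2 : (ce u).map P.subtype = P ⊓ Ce (zpowers (u : G)) := by
    ext x
    refine ⟨?_, fun hx => ⟨⟨x, hx.1⟩, mem_cent1.2 (Subtype.ext
      (mem_Ce.1 hx.2 u (mem_zpowers _)).symm), rfl⟩⟩
    rintro ⟨x, hx, rfl⟩
    exact ⟨x.2, (isCent_zpowers _ _).2 (congrArg Subtype.val (mem_cent1.1 hx))⟩
  let β := equivMapOfInjective (ce u) _ P.subtype_injective
  refine ⟨(h.pow_df u.2 (by rwa [top_inf_eq])).trans (card_inf_Ce u), _, _, inferInstance, _, _, d,
    (subgroupOfEquivOfLe inf_le_right).trans ((MulEquiv.subgroupCongr h2.symm).trans β.symm),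
    hd, rfl, fun x hx => mem_center_iff.2 fun g => Subtype.ext ?_⟩
  have h4 := congrArg Subtype.val hx
  have h3 : ((x : Ce (zpowers (u : G))) : G) = u := (congrArg Subtype.val (β.apply_symm_apply
    (MulEquiv.subgroupCongr h2.symm (subgroupOfEquivOfLe inf_le_right x)))).symm.trans h4
  rw [coe_mul, coe_mul, h3]
  exact (mem_Ce.1 g.2 u (mem_zpowers _)).symm

variable {e : (Res M)[G]} (h : Ctx M 2 B P e)
include h

theorem k0_le_of_lb {u : G} (hu : u ∈ P) (hl : lb 2 P e u ≤ 3) : k0 B ≤ 2 ^ df 2 P e u := by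
  classical
  have := Fintype.ofFinite G
  have := Fintype.ofFinite (Ce (zpowers u))
  have hM := h.hM
  have hC := isCent_zpowers u
  have hb := h.induced hu
  obtain ⟨n, hn⟩ := h.pElt hu
  obtain ⟨ω, hω⟩ := H86.exists_primitiveRoot hM.1 n
  have H := hermFam_con hM hC hn hω hb
  obtain ⟨a, ha, ha0, hodd, hsum⟩ := H.exists_avg hM hω (l := lb 2 P e u)
    fun k hk => by exact_mod_cast sum_pow_mul_con_self hM hC hn hb k hk
  rw [k0, ← card_filter_fs]
  set t := (fs B).filter fun χ : IrrCharacter G => blockHeight 2 B (χ : G → ℂ) = 0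
  have ht : t ⊆ fs B := Finset.filter_subset _ _
  have h1 : ∀ χ ∈ t, ∀ ψ ∈ t, ((2 : ℕ) : ℂ) ^ blockDefect 2 (blk 2 P e u) *
      con 2 (Ce (zpowers u)) (u ^ 1) (blk 2 P e u) χ ψ ∉ locMax M := fun χ hχ ψ hψ => by
    rw [pow_one, pow_mul_con_mem_iff hM hC ⟨n, hn⟩ hb (mem_fs.1 (ht hχ)) (mem_fs.1 (ht hψ)),
      (Finset.mem_filter.1 hχ).2, (Finset.mem_filter.1 hψ).2]
    simp
  by_cases hc : ∃ χ ∈ t, a χ = 1
  · obtain ⟨χ, hχ, h2⟩ := hc
    have h3 := H.row_le hM hω (ht hχ) ht (fun _ => 0) (fun ψ _ => by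
      rw [pow_zero, div_one]
      exact mem_locRing_of_isIntegral (pow_mul_con_isIntegral hM (by rwa [pow_one]) hb.1
        (H53.virt_of_irr χ.2) (H53.virt_of_irr ψ.2)))
      (fun ψ hψ => ne_zero_of_not_mem_locMax (h1 χ hχ ψ hψ)) (a := 1)
      (by rw [ha χ (ht hχ), h2]; simp)
    simp only [pow_zero, one_pow, Finset.sum_const, nsmul_eq_mul, mul_one] at h3
    exact_mod_cast h3
  push Not at hc
  have h2 := (Finset.card_nsmul_le_sum t a 3 fun χ hχ => by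
    obtain ⟨c, h2⟩ := hodd χ (ht hχ) (h1 χ hχ χ hχ)
    have := ha0 χ (ht hχ)
    have := hc χ hχ
    omega).trans (Finset.sum_le_sum_of_subset_of_nonneg ht fun χ hχ _ => ha0 χ hχ)
  rw [hsum, nsmul_eq_mul] at h2
  have h3 : t.card * 3 ≤ 2 ^ df 2 P e u * lb 2 P e u := by exact_mod_cast h2
  exact Nat.le_of_mul_le_mul_right (h3.trans (Nat.mul_le_mul_left _ hl)) three_pos

theorem k0_le_of_good {n : ℕ} {u : P} (H : ∀ v : P, Fz 2 P e u v → Good n v) : k0 B ≤ n := by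
  obtain ⟨v, hv, h1⟩ := Set.exists_max_image {v : P | Fz 2 P e u v} (fun v => Nat.card (ce v))
    (Set.toFinite _) ⟨u, h.fz_refl u.2⟩
  obtain ⟨h2, K, _, _, b, Q, d, α, h3, h4, h5⟩ := lb_max h v fun w hw => h1 w (h.fz_trans hv hw)
  obtain ⟨h6, h7⟩ := H v hv
  refine (k0_le_of_lb h v.2 ?_).trans (h2.trans_le h6)
  let x := α.symm ⟨v, mem_cent1.2 rfl⟩
  have h8 : (α x : P) = v := congrArg Subtype.val (α.apply_symm_apply _)
  obtain ⟨K', _, _, b', Q', d', f, R⟩ := exists_red h3 (zpowers x)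
    (zpowers_le.2 (mem_center_iff.2 fun g => Subtype.ext (mem_center_iff.1 (h5 x h8) g)))
  have h9 := h3.lb_mul (one_mem Q) x.2 (h5 x h8)
  have h10 := (zpowers x).card_mul_index
  rw [one_mul, h3.lb_one, ← R.rank' h3 rfl] at h9
  rw [← R.card, Nat.card_zpowers, ← α.orderOf_eq, ← orderOf_coe, h8, Nat.card_congr α.toEquiv]
    at h10
  have h11 := orderOf_pos v
  rw [h4, ← h9]
  rcases h7 with h7 | ⟨y, hy, h7, h12⟩
  · have := (rank_of_le_four R.ctx (by nlinarith)).2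
    omega
  · refine rank_le_of_order R.ctx (n := 1) (x := f (α.symm ⟨y, hy⟩))
      (show _ ≤ 8 by nlinarith) fun h13 => h12 ?_
    rw [← map_pow, R.eq_one] at h13
    obtain ⟨k, hk⟩ := h13
    exact ⟨k, by simpa [h8, sq] using congrArg (fun z => (α z : P)) hk⟩

theorem k0_le_of_sp {a : P} (S : Sp a) : k0 B ≤ 8 := by
  classical
  have : Fact (Nat.Prime 2) := ⟨Nat.prime_two⟩
  have := Fintype.ofFinite G
  have o : ∀ v : P, v ^ 4 ≠ 1 → v ^ 8 = 1 → orderOf v = 8 := fun v =>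
    orderOf_eq_prime_pow (p := 2) (n := 2)
  have c4 : ∀ u v : P, IsConj (u : G) v → u ^ 4 ≠ 1 → v ^ 4 ≠ 1 := fun u v h1 h2 h3 => h2 (by
    have h4 := h1.pow 4
    rw [← coe_pow, ← coe_pow, h3, coe_one, isConj_one_left] at h4
    exact Subtype.ext h4)
  have r : ∀ v : P, v ^ 4 ≠ 1 → v ^ 8 = 1 → R1 2 P e v ∧ 2 ^ df 2 P e v = 16 := fun v hv v8 => by
    obtain ⟨h2, K, _, _, b, Q, d, α, h3, h4, -⟩ := lb_max h v fun w hw => by
      rw [S.cen w (c4 v w hw.isConj hv), S.cen v hv]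
    refine ⟨h4.trans (rank_of_la h3 fun X φ L => ?_), by rw [h2, S.cen v hv, S.card]⟩
    have h5 : ∀ a b : Q, a * b = b * a := fun a b => α.injective (by
      rw [map_mul, map_mul]
      exact Subtype.ext (S.comm _ ((S.cen v hv).le (α a).2) _ ((S.cen v hv).le (α b).2)))
    obtain rfl : X = ⊤ := (eq_top_iff' _).2 fun v => L.cen v fun u _ => h5 u v
    obtain ⟨g, hg, h6⟩ := L.ne
    let x := α.symm ⟨v, mem_cent1.2 rfl⟩
    have h8 : (α x : P) = v := congrArg Subtype.val (α.apply_symm_apply _)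
    have h9 := (zpowers x).card_mul_index
    rw [Nat.card_zpowers, ← α.orderOf_eq, ← orderOf_coe, h8, Nat.card_congr α.toEquiv, o v hv v8,
      S.cen v hv, S.card] at h9
    refine h6 (fix_of_cyc2 h3.pgp L.odd (fun a _ b _ => h5 a b) (mem_top x)
      (by rw [relIndex_top_right]; omega) (fun h10 => hv ?_) hg)
    rw [← h8, ← coe_pow, ← map_pow, pow_add x 2 2, sq, h10, one_mul, map_one, coe_one]
  have a5 : (a ^ 5) ^ 4 ≠ 1 := by
    rw [← pow_mul, show 5 * 4 = 8 * 2 + 4 from rfl, pow_add, pow_mul, S.a8, one_pow, one_mul]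
    exact S.a4
  have nf : ¬ Fz 2 P e a (a ^ 5 : P) := fun h1 => S.nc (isConj_of_fz h (fun X φ L b hb h2 =>
    L.ne.elim fun g hg => hg.2 (S.fix X φ L.odd b hb (c4 a b (P.subtype.map_isConj h2) S.a4) g hg.1))
    h1)
  obtain ⟨r1, d1⟩ := r a S.a4 S.a8
  obtain ⟨r5, d5⟩ := r _ a5 (by rw [pow_right_comm, S.a8, one_pow])
  obtain ⟨ω, hω : IsPrimitiveRoot ω 8⟩ := H86.exists_primitiveRoot Nat.prime_two 3
  have oa : orderOf (a : G) = 8 := by rw [orderOf_coe, o a S.a4 S.a8]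
  have key : ∀ χ : IrrCharacter G, ∃ n : ℤ, D 2 P e a χ + D 2 P e (a ^ 5 : P) χ = 2 * n ∧
      (χ ∈ B → blockHeight 2 B (χ : G → ℂ) = 0 → n ≠ 0) := fun χ => by
    have := Fintype.ofFinite (Ce (zpowers (a : G)))
    have hχ := irr_cf χ.2
    obtain ⟨i, hi⟩ := r1.exists_ibr h a.2
    have h1 : Fam 8 ω fun k => D 2 P e (a ^ k : P) χ :=
      (oa ▸ fam_gdec (isCent_zpowers (a : G)) (oa ▸ hω) (H53.virt_of_irr χ.2) i).congr
        fun k hk => by
          rw [coe_pow, D, ← h.eq_bi (h.sub_pow a.2 (oa ▸ hk)), dn_eq_gdec h.hM hχ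
            ((isCent_zpowers _).pow (oa ▸ hk)) (h.blk_spec a.2).1 hi]
    have h2 : ∀ s, IsConj a (a ^ s) → D 2 P e (a ^ s : P) χ = D 2 P e (a ^ 1 : P) χ ∧
        D 2 P e (a ^ (s * 5) : P) χ = D 2 P e (a ^ 5 : P) χ := fun s hs =>
      ⟨by rw [pow_one]; exact D_fz h hχ a.2 (h.fz_of_isConj hs), by
        rw [pow_mul]; exact D_fz h hχ (a ^ 5).2 (h.fz_of_isConj (hs.pow 5))⟩
    obtain ⟨n, h3, h4⟩ := fam_eight hω h1 (S.conj.imp (h2 3) (h2 7))
    rw [pow_one] at h3 h4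
    refine ⟨n, h3, fun hB h0 h5 => ?_⟩
    obtain ⟨m, hm⟩ := h4 h5
    have h6 := (r1.not_mem_iff h a.2 hB).2 h0
    have h7 := mem_locRing_of_isIntegral (M := M) (r1.isIntegral h a.2 (H53.virt_of_irr χ.2))
    refine mul_not_mem_locMax h7 h7 h6 h6 ?_
    rw [hm]
    exact_mod_cast (intCast_mem_locMax_iff h.hM (n := 2 * m)).2 (dvd_mul_right _ _)
  choose n hn hn0 using key
  have h1 := h.sum_D_mul_conj a.2 a.2 r1
  have h2 := h.sum_D_mul_conj a.2 (a ^ 5).2 r1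
  have h3 := h.sum_D_mul_conj (a ^ 5).2 a.2 r5
  have h4 := h.sum_D_mul_conj (a ^ 5).2 (a ^ 5).2 r5
  rw [if_pos (h.fz_refl (Subtype.prop _))] at h1 h4
  rw [if_neg nf] at h2
  rw [if_neg (mt (h.fz_symm (a ^ 5).2) nf)] at h3
  have h5 : ∑ χ ∈ fs B, n χ ^ 2 = 8 := by
    have h5 : ∑ χ ∈ fs B, (2 * n χ : ℂ) * conj (2 * n χ : ℂ) = 16 + 16 := by
      simp only [← hn, map_add, mul_add, add_mul, Finset.sum_add_distrib, h1, h2, h3, h4, add_zero,
        zero_add]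
      norm_cast
      omega
    simp only [map_mul, map_ofNat, map_intCast, ← sq, mul_pow, ← Finset.mul_sum] at h5
    refine Int.cast_injective (α := ℂ) ?_
    push_cast
    linear_combination h5 / 4
  rw [k0, ← card_filter_fs]
  have h6 := (Finset.card_nsmul_le_sum _ (fun χ => n χ ^ 2) 1 fun χ hχ =>
    Int.add_one_le_of_lt (sq_pos_of_ne_zero (hn0 χ (mem_fs.1 (Finset.mem_filter.1 hχ).1)
      (Finset.mem_filter.1 hχ).2))).trans (Finset.sum_le_sum_of_subset_of_nonneg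
        (Finset.filter_subset _ (fs B)) fun χ _ _ => sq_nonneg _)
  rw [h5, nsmul_eq_mul, mul_one] at h6
  exact_mod_cast h6

theorem exists_fusion : ∃ F : FusionSystem (⊤ : Subgroup P), F.IsSaturated 2 ∧
    ∀ u v : P, Fz 2 P e u v → F.IsConjElt u v := by
  have : Fact (Nat.Prime 2) := ⟨Nat.prime_two⟩
  have := res_charP h.hM
  obtain ⟨F, hF⟩ := exists_isBFS (T := ⊤) top_le_No_top h.pair le_top
  obtain ⟨F', h1⟩ := H92.exists_fIso (H92.gIso_efn (topEquiv (G := P)).symm) F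
  refine ⟨F', h1.isSaturated (hF.saturated le_rfl top_le_No_top (blk_eB h.hB) h.hm (good h.hM)),
    fun u v ⟨g, hg, h2⟩ => ?_⟩
  have h3 := h1.isConjElt (H91.isConjElt_iff.2 ⟨fun a => g * a * g⁻¹,
    (hF.M_iff h.pair (h.blk_spec u.2).2).2 ⟨g, mem_top g, fun _ _ => rfl, by
      rwa [cjS_zpowers]⟩, h2⟩)
  rwa [H91.efn_coe, H91.efn_coe] at h3

theorem k0_of_four (hn : center P ≠ ⊤) (h4 : (commutator P).index = 4) : k0 B = 4 := by
  have : Fact (Nat.Prime 2) := ⟨Nat.prime_two⟩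
  obtain ⟨a, ha⟩ := H4.exists_index_zpowers_eq_two P h.pgp h4
  obtain ⟨b, hb⟩ := exists_not_mem (X := zpowers a) (mt index_eq_one.2 (by omega))
  have h1 : ∀ u ∈ zpowers a, b * u = u * b → u ^ 2 = 1 := fun u hu h1 => pow_eq_one_of_dvd
    (show u ∈ zpowers a ⊓ centralizer {b} from ⟨hu, mem_cent1.2 h1.symm⟩)
    (H4.card_inf_centralizer_eq_two h4 ha hb).dvd
  have h2 : ¬ ∀ x y : P, x * y = y * x := fun h2 =>
    hn ((eq_top_iff' _).2 fun x => mem_center_iff.2 fun y => h2 y x)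
  obtain ⟨c, hc⟩ := H31.four_dvd_orderOf h.pgp (w := a) fun h3 => h2 (comm_of_card_dvd_sq
    Nat.prime_two (by
      rw [← (zpowers a).card_mul_index, ha, Nat.card_zpowers, sq]
      exact Nat.mul_dvd_mul_right (orderOf_dvd_of_pow_eq_one h3) 2))
  have h3 := orderOf_pow_of_eq_mul (x := a) (d := c) (e := 4)
    (fun h3 => (orderOf_pos a).ne' (by rw [hc, h3])) (hc.trans (mul_comm _ _))
  have hp : ∀ a m : ℕ, Nat.card P = a * m → ∃ k, m = 2 ^ k := fun a m h1 => by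
    obtain ⟨n, hn⟩ := h.pgp.exists_card_eq
    exact ((Nat.dvd_prime_pow Nat.prime_two).1 (hn ▸ h1 ▸ dvd_mul_left m a)).imp fun _ h => h.2
  have h5 : ¬ Nat.card P ∣ 2 ^ 2 := mt (comm_of_card_dvd_sq Nat.prime_two) h2
  rcases H64.max_class h.pgp (D := zpowers a) inferInstance ha (pow_mem (mem_zpowers a) c)
    (h3 ▸ pow_orderOf_eq_one _) (t := b) (fun h5 => absurd (h3 ▸ orderOf_dvd_of_pow_eq_one
      (h1 _ (pow_mem (mem_zpowers a) c) h5)) (by norm_num)) with ⟨m, ⟨α⟩⟩ | ⟨m, ⟨α⟩⟩ | hsd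
  · have h1 := (Nat.card_congr α.toEquiv).trans DihedralGroup.nat_card
    obtain ⟨_ | _ | k, rfl⟩ := hp _ _ h1
    · exact absurd (by rw [h1]; norm_num) h5
    · exact absurd (by rw [h1]; norm_num) h5
    · exact (S4528.result M h.hM B h.hB P h.isDefectGroup (k + 3) (by omega) ⟨α⟩).2.2.2.1
  · have : NeZero m := ⟨by
      rintro rfl
      exact absurd (Finite.of_equiv _ α.toEquiv) (not_finite_iff_infinite.2
        (Infinite.of_injective (fun k : ZMod 0 => QuaternionGroup.a (n := 0) k)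
          fun _ _ h => by injection h))⟩
    have h1 := (Nat.card_congr α.toEquiv).trans (Nat.card_eq_fintype_card.trans QuaternionGroup.card)
    obtain ⟨_ | k, rfl⟩ := hp _ _ h1
    · exact absurd (by rw [h1]; norm_num) h5
    · exact (S4530.result M h.hM B h.hB P h.isDefectGroup (k + 3) (by omega) ⟨α⟩).2.2.2.1
  · obtain ⟨k, h1, h2, h3⟩ := hsd
    exact (S4529.result M h.hM B h.hB P h.isDefectGroup (k + 1) (by omega) h2
      ⟨k, h1, h2, h3⟩).2.2.2.2.2.1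

theorem olsson (hc : Nat.card P ≤ 32) : k0 B ≤ (commutator P).index := by
  have : Fact (Nat.Prime 2) := ⟨Nat.prime_two⟩
  by_cases hn : center P = ⊤
  · rw [le_bot_iff.1 (commutator_le_iff.2 fun x y => mem_bot.2 (mul_inv_eq_one.2
      (mem_center_iff.1 (hn ▸ mem_top y) x))), index_bot]
    refine (Nat.card_le_card_of_injective (β := B) (fun χ => ⟨χ.1, χ.2.1⟩) fun _ _ h =>
      Subtype.ext (Subtype.mk.inj h)).trans ?_
    by_cases h1 : ∃ z : P, z ≠ 1
    · obtain ⟨z, hz⟩ := h1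
      have h2 := (zpowers z).card_mul_index
      have h3 := (Nat.two_le_iff _).2 ⟨(orderOf_pos z).ne', mt orderOf_eq_one_iff.1 hz⟩
      rw [Nat.card_zpowers] at h2
      exact card_le_main h (z := z) (hn ▸ mem_top z) (by nlinarith)
    · refine card_le_main h (one_mem _) ?_
      rw [zpowers_one_eq_bot, index_bot, Nat.card_eq_one_iff_exists.2 ⟨1, by simpa using h1⟩]
      norm_num
  by_cases h4 : (commutator P).index = 4
  · exact (k0_of_four h hn h4).trans_le h4.ge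
  obtain ⟨F, hF, h1⟩ := exists_fusion h
  have h2 : (∃ u, ∀ v, F.IsConjElt u v → Good (commutator P).index v) →
      k0 B ≤ (commutator P).index := fun ⟨u, hu⟩ => k0_le_of_good h fun v hv => hu v (h1 u v hv)
  have h3 := H4.sq_le_index_commutator h.pgp fun h3 => hn ((eq_top_iff' _).2 fun x =>
    mem_center_iff.2 fun y => (h3.commGroup.mul_comm y x :))
  obtain ⟨m, i, h5, h6, h7, h8, h9, -⟩ := exists_cards Nat.prime_two h.pgp (commutator P)
    (show _ ≤ 2 ^ 5 from hc)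
  have h10 := h9 fun h10 => hn ((eq_top_iff' _).2 fun x => mem_center_iff.2 fun y =>
    mul_inv_eq_one.1 (mem_bot.1 (h10 ▸ comm_mem_commutator y x)))
  rw [h7] at h3 h4
  rcases (by decide : ∀ m ≤ 5, ∀ i ≤ 5, m + i ≤ 5 → m ≠ 0 → 2 ^ 2 ≤ 2 ^ i → 2 ^ i ≠ 4 →
    2 ^ m = 2 ∨ 2 ^ m = 4 ∧ 2 ^ (m + i) = 32) m (by omega) i (by omega) h5 h10 h3 h4 with
      h11 | ⟨h11, h12⟩
  · exact h2 (good_two h.pgp hF hc hn (h6.trans h11))
  by_cases hZ : commutator P ≤ center P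
  · exact h2 (good_special h.pgp hF (h8.trans h12) (h6.trans h11) hZ)
  obtain ⟨c, d, T⟩ := exists_c3 h.pgp (h8.trans h12) (h6.trans h11) hZ
  rcases T.good_or_sp hF with h13 | ⟨h13, a, S⟩
  exacts [h2 h13, (k0_le_of_sp h S).trans h13.ge]

end Cfsg.Agent.H35
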