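import Cfsg.Agent.H35.KbGn
import Cfsg.Agent.H42.FsBasic
import Cfsg.Agent.H93.AbIdx2

/-! Invariant sets of elements in saturated fusion systems over small `2`-groups. -/

set_option autoImplicit false
set_option linter.unusedSectionVars false

open Subgroup Function

namespace Cfsg.Agent.H35

open Cfsg Cfsg.Agent.H42
open Cfsg.Agent.H91 (efn efn_mem efn_map_mul efn_map_inv efn_mul efn_inv_efn efn_efn_inv efn_cjAut
  cjAut)

variable {D : Type*} [Group D] [Finite D] {a b c d g k u x y z : D} {X : Subgroup D}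

/-- The centralizer of an element. -/
abbrev ce (u : D) : Subgroup D := centralizer {u}

theorem efn_inj (α : MulAut X) (hx : x ∈ X) (hy : y ∈ X) (h : efn α x = efn α y) : x = y := by
  rw [← efn_inv_efn α hx, h, efn_inv_efn α hy]

theorem efn_one' (α : MulAut X) : efn α 1 = 1 := (H91.homOn_efn α).map_one

theorem orderOf_efn (α : MulAut X) (hx : x ∈ X) : orderOf (efn α x) = orderOf x := by
  rw [H91.efn_of_mem α hx, orderOf_coe, α.orderOf_eq, ← orderOf_coe]

section Half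

variable (hu : u ∉ center D) (hi : (center D).relIndex (ce u) = 2)
include hu hi

theorem exists_central (hx : x ∈ ce u) (hx' : x ∉ center D) :
    ∃ z ∈ center D, x = z * u :=
  ⟨_, mul_inv_mem_of_relIndex_two hi hx (mem_cent1.2 rfl) hx' hu, by simp⟩

theorem comm_half (hx : x ∈ ce u) (hy : y ∈ ce u) : x * y = y * x := by
  by_cases h : x ∈ center D
  · exact (mem_center_iff.1 h y).symm
  obtain ⟨z, hz, rfl⟩ := exists_central hu hi hx h
  rw [mul_assoc, ← mem_cent1.1 hy, ← mul_assoc, ← mem_center_iff.1 hz y, mul_assoc]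

theorem comm_cases (hx : x ∈ ce u) (g : D) :
    x⁻¹ * (g * x * g⁻¹) = 1 ∨ x⁻¹ * (g * x * g⁻¹) = u⁻¹ * (g * u * g⁻¹) := by
  by_cases h : x ∈ center D
  · exact .inl (by rw [mem_center_iff.1 h g]; group)
  obtain ⟨z, hz, rfl⟩ := exists_central hu hi hx h
  exact .inr (by rw [← mul_assoc g, mem_center_iff.1 hz g]; group)

theorem fix_iff (hg : g ∉ ce u) (hx : x ∈ ce u) :
    g * x * g⁻¹ = x ↔ x ∈ center D := by
  refine ⟨fun h => not_not.1 fun h1 => hg ?_, fun h => by rw [mem_center_iff.1 h g]; group⟩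
  obtain ⟨z, hz, rfl⟩ := exists_central hu hi hx h1
  rw [← mul_assoc, mem_center_iff.1 hz g, mul_assoc z, mul_assoc z, mul_right_inj] at h
  exact mem_cent1.2 (mul_inv_eq_iff_eq_mul.1 h)

theorem cent_eq (hx : x ∈ ce u) (hx' : x ∉ center D) :
    ce x = ce u := by
  obtain ⟨z, hz, rfl⟩ := exists_central hu hi hx hx'
  ext g
  rw [mem_cent1, mem_cent1, ← mul_assoc, mem_center_iff.1 hz g, mul_assoc, mul_assoc, mul_right_inj]

end Half

variable (hD : IsPGroup 2 D) {F : FusionSystem (⊤ : Subgroup D)} (hF : F.IsSaturated 2)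
include hD hF

theorem inv_of_lr (A : D → Prop) (H1 : ∀ γ : MulAut D, ∀ a, A a → A (γ a))
    (H2 : ∀ X, X ≠ ⊤ → F.IsCentric X → F.IsRadical 2 X → F.IsFullyNormalized X → Ess F X →
      ∀ α ∈ F.autGroup X, ∀ a ∈ X, A a → A (efn α a)) (hab : F.IsConjElt a b) (ha : A a) : A b := by
  have : Fact (Nat.Prime 2) := ⟨Nat.prime_two⟩
  have hS := hD.to_subgroup ⊤
  obtain ⟨f, hf, rfl⟩ := H91.isConjElt_iff.mp hab
  have ha' := mem_zpowers a
  refine H91.alperin_induction hS hF (C := fun f => A (f a)) (fun f h => by rwa [h a ha'])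
    (fun f g R α _ hfa hR hα hfR hg => ?_) hf
  obtain ⟨hc, hr, hn⟩ := H91.centric_radical_of_alp hS hF hR
  show A (g a)
  rw [hg a ha']
  by_cases hT : R = ⊤
  · subst hT
    rw [H91.efn_of_mem _ (mem_top _)]
    exact H1 (MulAut.congr topEquiv α) _ hfa
  by_cases he : Ess F R
  · exact H2 R hT hc hr hn he α hα _ (hfR a ha') hfa
  · obtain ⟨s, -, e⟩ := H91.mem_autInducedBy_iff'.mp (aut_le_of_not_ess hS hF hn he hα)
    rw [e _ (hfR a ha')]
    exact H1 (MulAut.conj s) _ hfa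

omit hD hF in
theorem cen_of_centric (hc : F.IsCentric X) (h : ∀ x ∈ X, x * g = g * x) : g ∈ X :=
  H91.centric_centralizerIn_le hc ⟨trivial, h⟩

omit hD hF in
theorem center_le_of_centric (hc : F.IsCentric X) : center D ≤ X :=
  fun _ hz => cen_of_centric hc fun x _ => mem_center_iff.1 hz x

omit hF in
theorem eq_top_of_radical (hc : F.IsCentric X) (hr : F.IsRadical 2 X) {K : Subgroup D}
    (hK : K ≤ center D) (h1 : ∀ α : MulAut X, ∀ z ∈ X, z ∈ K → efn α z ∈ K)
    (h2 : ∀ x y : D, x * y * (y * x)⁻¹ ∈ K) : X = ⊤ := by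
  have : Fact (Nat.Prime 2) := ⟨Nat.prime_two⟩
  have h3 : ∀ g y : D, y⁻¹ * (g * y * g⁻¹) ∈ K := fun g y => by
    simpa only [mul_inv_rev, inv_inv, mul_assoc] using h2 y⁻¹ g
  exact (eq_top_iff' _).2 fun g => H93.mem_of_two_step (hD.to_subgroup ⊤) hc hr (fun α _ => h1 α)
    ⟨trivial, H91.mem_normalizer_of_conj_mem fun y hy => by
      simpa using mul_mem hy (center_le_of_centric hc (hK (h3 g y)))⟩
    (fun z _ hz => by rw [mem_center_iff.1 (hK hz) g, mul_inv_cancel_right]) fun y _ => h3 g y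

theorem efn_not_mem (hu : u ∉ center D) (hi : (center D).relIndex (ce u) = 2)
    (hcm : ∀ x y : D, x * y * (y * x)⁻¹ ∈ center D) (hn : F.IsFullyNormalized (ce u))
    {α : MulAut (ce u)} (hα : α ∈ F.autGroup _) {h : D}
    (hg : g ∉ ce u) (hh : h ∉ ce u)
    (h1 : efn α (u⁻¹ * (g * u * g⁻¹)) ∈ center D) (hk : k ∈ center D)
    (h2 : efn α k = u⁻¹ * (h * u * h⁻¹)) : efn α u ∉ center D := by
  have : Fact (Nat.Prime 2) := ⟨Nat.prime_two⟩
  have hZ : center D ≤ ce u := center_le_centralizer _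
  have uX : u ∈ ce u := mem_cent1.2 rfl
  have h3 : ∀ g y : D, y⁻¹ * (g * y * g⁻¹) ∈ center D := fun g y => by
    simpa only [mul_inv_rev, inv_inv, mul_assoc] using hcm y⁻¹ g
  have h4 : ∀ g, ∀ y ∈ ce u, g * y * g⁻¹ ∈ ce u := fun g y hy => by
    simpa using mul_mem hy (hZ (h3 g y))
  have hN : ∀ g, g ∈ FusionSystem.normalizerIn ⊤ (ce u) := fun g =>
    ⟨trivial, H91.mem_normalizer_of_conj_mem (h4 g)⟩
  have key : ∀ (β : MulAut (ce u)) (h h' : D), h ∉ ce u →
      (∀ x ∈ ce u, efn β (h * x * h⁻¹) = h' * efn β x * h'⁻¹) →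
      ∀ y ∈ ce u, efn β y ∈ center D ↔ y ∈ center D := fun β h h' hh h5 y hy => by
    have h6 : h' ∉ ce u := fun h6 => hu ((fix_iff hu hi hh uX).1 (efn_inj β (h4 h u uX) uX (by
      rw [h5 u uX, comm_half hu hi h6 (efn_mem β uX), mul_inv_cancel_right])))
    rw [← fix_iff hu hi h6 (efn_mem β hy), ← fix_iff hu hi hh hy, ← h5 y hy]
    exact ⟨efn_inj β (h4 h y hy) hy, congrArg _⟩
  let W := center D ⊓ (((center D).subgroupOf (ce u)).map α.toMonoidHom).map (ce u).subtype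
  have mW : ∀ k ∈ center D, efn α k ∈ center D → efn α k ∈ W := fun k hk h =>
    ⟨h, _, ⟨⟨k, hZ hk⟩, hk, rfl⟩, (H91.efn_of_mem α (hZ hk)).symm⟩
  have hτ : ∀ y ∈ ce u, efn (α * cjAut (ce u) g (hN g).2 * α⁻¹) (efn α y) = efn α (g * y * g⁻¹) :=
    fun y hy => by
      rw [efn_mul _ _ (efn_mem α hy), efn_inv_efn α hy, efn_mul _ _ hy, efn_cjAut _ _ _ hy]
  obtain ⟨β, -, h5, h6⟩ := H93.exists_conj_of_chain (hD.to_subgroup ⊤) hF hn
    (H91.cjAut_mem_autGroup F le_top (hN h))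
    (mul_mem (mul_mem hα (H91.cjAut_mem_autGroup F le_top (hN g))) (inv_mem hα))
    (fun i => if i = 0 then ⊥ else if i = 1 then W else (ce u)) 2 rfl le_rfl
    (fun i _ => by
      obtain rfl | rfl : i = 0 ∨ i = 1 := by omega
      exacts [bot_le, inf_le_left.trans hZ])
    (fun β hβ i _ x hx hx' => by
      obtain rfl | rfl : i = 0 ∨ i = 1 := by omega
      · refine mem_bot.2 (inv_mul_eq_one.2 ?_)
        rcases hβ with rfl | rfl
        · rw [efn_cjAut _ _ _ hx, (fix_iff hu hi hh hx).2 hx'.1]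
        · obtain ⟨-, _, ⟨y, hy, rfl⟩, rfl⟩ := hx'
          rw [show (ce u).subtype (α.toMonoidHom y) = efn α y from (H91.efn_coe α y).symm,
            hτ y y.2, (fix_iff hu hi hg y.2).2 hy]
      change _ ∈ W
      rcases hβ with rfl | rfl
      · rw [efn_cjAut _ _ _ hx]
        rcases comm_cases hu hi hx h with h5 | h5
        · exact h5 ▸ one_mem _
        · exact h5 ▸ h2 ▸ mW k hk (h2 ▸ h3 h u)
      · have hy := efn_mem α⁻¹ hx
        rw [← efn_efn_inv α hx, hτ _ hy, ← efn_map_inv α hy, ← efn_map_mul α (inv_mem hy) (h4 g _ hy)]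
        rcases comm_cases hu hi hy g with h5 | h5
        · rw [h5, efn_one']; exact one_mem _
        · exact h5 ▸ mW _ (h3 g u) h1)
  obtain ⟨h', -, h5⟩ := H91.mem_autInducedBy_iff'.1 h5
  obtain ⟨g', -, h6⟩ := H91.mem_autInducedBy_iff'.1 h6
  rw [← key β h h' hh (fun x hx => by
    rw [← h5 _ (efn_mem β hx), efn_mul _ _ (efn_mem β hx), efn_inv_efn β hx, efn_mul _ _ hx,
      efn_cjAut _ _ _ hx]) _ (efn_mem α uX), ← efn_mul _ _ uX, key (β * α) g g' hg (fun x hx => by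
    rw [efn_mul _ _ hx, efn_mul _ _ (h4 g x hx), ← h6 _ (efn_mem β (efn_mem α hx)),
      efn_mul _ _ (efn_mem β (efn_mem α hx)), efn_inv_efn β (efn_mem α hx),
      efn_mul _ _ (efn_mem α hx), hτ x hx]) u uX]
  exact hu

end Cfsg.Agent.H35
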