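import Cfsg.Agent.H35.OlF
import Cfsg.Agent.H4.MaxClass

/-! Elements with small centralizers in fusion systems over `2`-groups of class two and order at
most `32`. -/

set_option autoImplicit false
set_option linter.unusedSectionVars false
set_option synthInstance.maxSize 2048

open Subgroup Function

namespace Cfsg.Agent.H35

open Cfsg Cfsg.Agent.H42
open Cfsg.Agent.H91 (efn efn_mem efn_map_mul efn_map_inv efn_mul efn_inv_efn efn_efn_inv)

variable {D : Type*} [Group D] [Finite D] {a b c d g k u v x y z : D} {X : Subgroup D}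

/-- An element with a small centralizer. -/
def Good (n : ℕ) (u : D) : Prop := Nat.card (ce u) ≤ n ∧ (Nat.card (ce u) ≤ 4 * orderOf u ∨
  ∃ x ∈ ce u, Nat.card (ce u) ≤ 8 * orderOf u ∧ x * x ∉ zpowers u)

theorem comm_mem_commutator (x y : D) : x * y * (y * x)⁻¹ ∈ commutator D := by
  simpa only [commutatorElement_def, mul_inv_rev, mul_assoc, _root_.commutator_def] using
    commutator_mem_commutator (mem_top x) (mem_top y)

theorem commutator_le_iff {K : Subgroup D} :
    commutator D ≤ K ↔ ∀ x y : D, x * y * (y * x)⁻¹ ∈ K :=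
  ⟨fun h x y => h (comm_mem_commutator x y), fun h => commutator_le.2 fun x _ y _ => by
    simpa only [commutatorElement_def, mul_inv_rev, mul_assoc] using h x y⟩

theorem commutator_le_of_index {K : Subgroup D} (h : K.index ∣ 2) : commutator D ≤ K := by
  rcases (Nat.dvd_prime Nat.prime_two).1 h with h | h
  · exact index_eq_one.1 h ▸ le_top
  · refine commutator_le_iff.2 fun x y => ?_
    simp only [mul_mem_iff_of_index_two h, inv_mem_iff]
    tauto

theorem index_ce_dvd (hc : c ∈ center D) (cc : c * c = 1)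
    (h : ∀ g, g * x * (x * g)⁻¹ ∈ zpowers c) : (ce x).index ∣ 2 := by
  by_cases h0 : x ∈ center D
  · rw [show ce x = ⊤ from centralizer_eq_top_iff_subset.2 (Set.singleton_subset_iff.2 h0),
      index_top]
    exact one_dvd 2
  obtain ⟨a, -, ha⟩ := SetLike.exists_of_lt (lt_top_iff_ne_top.2 (cent_ne_top h0))
  have h1 : ∀ g ∉ ce x, g * x = c * (x * g) := fun g hg => mul_inv_eq_iff_eq_mul.1
    (((mem_zpowers_of_mul_self cc).1 (h g)).resolve_left fun h => hg
      (mem_cent1.2 (mul_inv_eq_one.1 h)))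
  refine index_dvd_two_iff.2 ⟨a, fun g => or_iff_not_imp_right.2 fun hg => mem_cent1.2 ?_⟩
  rw [mul_assoc, h1 a ha, ← mul_assoc, mem_center_iff.1 hc g, mul_assoc, ← mul_assoc g, h1 g hg,
    ← mul_assoc, ← mul_assoc, cc, one_mul, mul_assoc]

theorem mem_center_aut (γ : MulAut D) : γ x ∈ center D ↔ x ∈ center D :=
  SetLike.ext_iff.1 ((characteristic_iff_comap_eq (H := center D)).1 inferInstance γ) x

theorem mem_commutator_aut (γ : MulAut D) : γ x ∈ commutator D ↔ x ∈ commutator D :=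
  SetLike.ext_iff.1 ((characteristic_iff_comap_eq (H := commutator D)).1 inferInstance γ) x

theorem index_ce_aut (γ : MulAut D) (x : D) : (ce (γ x)).index = (ce x).index := by
  rw [← index_comap_of_surjective (f := γ.toMonoidHom) _ γ.surjective]
  congr 1
  ext g
  simp only [mem_comap, mem_cent1, MulEquiv.coe_toMonoidHom, ← map_mul, γ.apply_eq_iff_eq]

theorem two_le_orderOf (h : u ∉ center D) : 2 ≤ orderOf u :=
  (Nat.two_le_iff _).2 ⟨(orderOf_pos u).ne', fun h1 => h (orderOf_eq_one_iff.1 h1 ▸ one_mem _)⟩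

theorem relIndex_of_card {H K : Subgroup D} (h : H ≤ K) {m n : ℕ} (h1 : Nat.card H = m)
    (h2 : Nat.card K = m * n) : H.relIndex K = n :=
  Nat.eq_of_mul_eq_mul_left (h1 ▸ Nat.card_pos) (h2 ▸ h1 ▸ card_mul_relIndex h)

theorem exists_not_mem (h : X ≠ ⊤) : ∃ g, g ∉ X :=
  not_forall.1 (mt (eq_top_iff' _).2 h)

variable (hD : IsPGroup 2 D)
include hD

theorem four_le_orderOf (h : u * u ≠ 1) : 4 ≤ orderOf u := by
  have : Fact (Nat.Prime 2) := ⟨Nat.prime_two⟩
  obtain ⟨k, hk⟩ := IsPGroup.iff_orderOf.1 hD u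
  rw [← sq, Ne, ← orderOf_dvd_iff_pow_eq_one, hk] at h
  exact hk ▸ Nat.pow_le_pow_right (n := 2) two_pos (show 2 ≤ k from not_le.1 fun h1 =>
    h ((pow_dvd_pow 2 h1).trans (pow_one 2).dvd))

theorem four_le_index (h : ¬ X.index ∣ 2) : 4 ≤ X.index := by
  have : Fact (Nat.Prime 2) := ⟨Nat.prime_two⟩
  obtain ⟨k, hk⟩ := hD.index X
  rw [hk] at h ⊢
  exact Nat.pow_le_pow_right (n := 2) two_pos (show 2 ≤ k from not_le.1 fun h1 =>
    h ((pow_dvd_pow 2 h1).trans (pow_one 2).dvd))

theorem center_index_cases (hc : Nat.card D ≤ 2 ^ 5) (hn : center D ≠ ⊤) :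
    (center D).index = 4 ∨ (center D).index = 8 ∨ (center D).index = 16 ∧ Nat.card D = 32 := by
  have : Fact (Nat.Prime 2) := ⟨Nat.prime_two⟩
  obtain ⟨b, hb⟩ := exists_not_mem hn
  have : Nontrivial D := ⟨b, 1, fun h => hb (h ▸ one_mem _)⟩
  obtain ⟨m, i, h1, -, h3, h5, h6, h7⟩ := exists_cards Nat.prime_two hD (center D) hc
  have h8 : i ≠ 1 := by
    rintro rfl
    exact hb (mem_center_iff.2 (cent_of_index h3 hb rfl fun g hg => (mem_center_iff.1 hg b).symm))
  rw [h3, h5]
  exact (by decide : ∀ m ≤ 5, ∀ i ≤ 5, m + i ≤ 5 → m ≠ 0 → i ≠ 0 → i ≠ 1 →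
    2 ^ i = 4 ∨ 2 ^ i = 8 ∨ 2 ^ i = 16 ∧ 2 ^ (m + i) = 32) m (by omega) i (by omega) h1
      (h6 ((nontrivial_iff_ne_bot _).1 hD.center_nontrivial)) (h7 hn) h8

theorem fix_of_cyc2 {φ : D → D} (h : OddAut X φ) (hX : ∀ a ∈ X, ∀ b ∈ X, a * b = b * a)
    (ha : a ∈ X) (hi : (zpowers a).relIndex X ≤ 2) (a1 : a * a ≠ 1) (hg : g ∈ X) : φ g = g := by
  by_cases h1 : (zpowers a).relIndex X = 1
  · exact h.fix_of_mem_cyclic hg (relIndex_eq_one.1 h1 hg) (relIndex_eq_one.1 h1 (h.mem g hg))
  replace hi : (zpowers a).relIndex X = 2 := by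
    have : (zpowers a).relIndex X ≠ 0 := index_ne_zero_of_finite
    omega
  have h2 := h.mem a ha
  have ft : φ (a * a) = a * a := h.fix_of_mem_cyclic (mul_mem ha ha)
    (mul_mem (mem_zpowers a) (mem_zpowers a))
    (h.mul a ha a ha ▸ (mul_mem_iff_of_relIndex_two hi h2 h2).2 Iff.rfl)
  have fk : ∀ k ∈ zpowers a, k * k = 1 → φ k = k := fun k hk k2 =>
    h.fix_zpowers (mul_mem ha ha) ft ((sq_or_gen hD hk).resolve_right fun h3 => a1 (by
      rcases (mem_zpowers_of_mul_self k2).1 h3 with rfl | rfl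
      exacts [one_mul _, k2]))
  refine h.fix_of_fix_omega hX (fun g hg g2 => ?_) hg
  by_cases h2 : g ∈ zpowers a
  · exact fk g h2 g2
  have h3 := h.mem g hg
  have h5 : φ g * φ g = 1 := by rw [← h.mul g hg g hg, g2, h.one]
  refine h.fix_of_fix hg (fk _ (mul_inv_mem_of_relIndex_two hi h3 hg (fun h6 => h2 ?_) h2) ?_)
  · rwa [← h.inj h3 hg (fk _ h6 h5)]
  · rw [mul_assoc, ← mul_assoc g⁻¹, hX _ (inv_mem hg) _ h3, ← mul_assoc, ← mul_assoc, h5, one_mul,
      ← mul_inv_rev, g2, inv_one]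

variable {F : FusionSystem (⊤ : Subgroup D)} (hF : F.IsSaturated 2)
include hF

theorem orderOf_eq_of_conj (h : F.IsConjElt u v) : orderOf v = orderOf u :=
  inv_of_lr hD hF (fun a => orderOf a = orderOf u) (fun γ a h => (γ.orderOf_eq a).trans h)
    (fun _ _ _ _ _ _ α _ _ ha h => (orderOf_efn α ha).trans h) h rfl

theorem good_four (hc : Nat.card D ≤ 32) (hZ : (center D).index = 4) :
    ∃ u, ∀ v, F.IsConjElt u v → Good (commutator D).index v := by
  have hi := fun u (hu : u ∉ center D) => (cent_two hZ hu).2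
  have hs : ∀ g, g * g ∈ center D := fun g => by
    by_cases hg : g ∈ center D
    exacts [mul_mem hg hg, (mul_mem_iff_of_relIndex_two (hi g hg) (mem_cent1.2 rfl)
      (mem_cent1.2 rfl)).2 Iff.rfl]
  obtain ⟨a, b, c, hab, cZ, c1, cc, hcm⟩ := exists_comm hZ hs
  have hcm' : ∀ x y : D, x * y ≠ y * x → x * y * (y * x)⁻¹ = c := fun x y h =>
    ((mem_zpowers_of_mul_self cc).1 (hcm x y)).resolve_left (mt mul_inv_eq_one.1 h)
  have ab : a * b ≠ b * a := fun h => c1 (by rw [hab, h, mul_inv_cancel])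
  have h1 : commutator D = zpowers c := le_antisymm (commutator_le_iff.2 hcm)
    (zpowers_le.2 (hab ▸ comm_mem_commutator a b))
  let T : D → Prop := fun u => u ∉ center D ∧
    ((∃ z ∈ center D, z * z = c) ∨ ∀ z ∈ center D, z * u * (z * u) ≠ 1)
  obtain ⟨u, hu⟩ : ∃ u, T u := by
    have ha : a ∉ center D := fun h => ab (mem_center_iff.1 h b).symm
    by_cases h2 : ∃ z ∈ center D, z * z = c
    · exact ⟨a, ha, .inl h2⟩
    by_contra! h3
    simp only [T, not_and, not_or, not_forall, not_not] at h3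
    obtain ⟨z, hz, h4⟩ := (h3 a ha).2
    obtain ⟨y, hy, h5⟩ := (h3 b fun h => ab (mem_center_iff.1 h a)).2
    have h6 : z * a * (y * b) ≠ y * b * (z * a) := fun h => ab (by
      rw [mul_assoc, ← mul_assoc a, mem_center_iff.1 hy, mul_assoc y, mul_assoc y, ← mul_assoc b,
        mem_center_iff.1 hz b, ← mul_assoc z, mem_center_iff.1 hy z, mul_assoc y, mul_assoc z] at h
      exact mul_left_cancel (mul_left_cancel h))
    obtain ⟨x, hx, h7⟩ := (h3 (z * a * (y * b)) fun h => h6 (mul_left_cancel (a := z * a) (by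
      rw [mem_center_iff.1 h (z * a), mul_assoc (z * a)]))).2
    have h8 := hcm' _ _ h6
    rw [mul_inv_rev, ← eq_inv_of_mul_eq_one_left h4, ← eq_inv_of_mul_eq_one_left h5] at h8
    rw [mul_assoc, ← mul_assoc _ x, mem_center_iff.1 hx, mul_assoc x, h8, ← mul_assoc] at h7
    exact h2 ⟨x, hx, (eq_inv_of_mul_eq_one_left h7).trans (inv_eq_of_mul_eq_one_left cc)⟩
  refine ⟨u, fun v hv => ?_⟩
  obtain ⟨h2, h3⟩ := inv_of_lr hD hF T (fun γ x ⟨h2, h3⟩ => ⟨mt (mem_center_aut γ).1 h2, h3.imp
    (fun ⟨z, hz, h4⟩ => ⟨γ z, (mem_center_aut γ).2 hz, by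
      rw [← map_mul, h4, hab, map_mul, map_inv, map_mul, map_mul, hcm' _ _ (by
        rwa [← map_mul, ← map_mul, Ne, γ.apply_eq_iff_eq]), hab]⟩)
    fun h4 z hz h5 => h4 (γ.symm z) ((mem_center_aut γ.symm).2 hz) (γ.injective (by simpa))⟩)
    (fun X hX hc _ hn _ α hα x hx ⟨h2, h3⟩ => by
      have h4 := center_le_of_centric hc
      have h5 := (index_two_of_lt hZ (lt_of_le_of_ne h4 fun h => h2 (h ▸ hx)) hX).2
      obtain rfl : X = ce x := by
        have h6 : X ≤ ce x := fun y hy => not_not.1 fun h6 => h6 ((mul_mem_cancel_right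
          (inv_mem (mem_cent1.2 rfl))).1 (center_le_centralizer _ (mul_inv_mem_of_relIndex_two h5
            hy hx (fun h7 => h6 (center_le_centralizer _ h7)) h2)))
        exact le_antisymm h6 fun y hy => cen_of_centric hc fun w hw =>
          comm_half h2 (hi x h2) (h6 hw) hy
      have h6 : ∀ β : MulAut (ce x), efn β c ∈ center D := fun β => by
        rcases h3 with ⟨z, hz, rfl⟩ | h3
        · exact efn_map_mul β (h4 hz) (h4 hz) ▸ hs _
        by_contra h6
        obtain ⟨z, hz, h7⟩ := exists_central h2 (hi x h2) (efn_mem β (h4 cZ)) h6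
        exact h3 z hz (by rw [← h7, ← efn_map_mul β (h4 cZ) (h4 cZ), cc, efn_one'])
      obtain ⟨g, hg⟩ := exists_not_mem hX
      have h7 : x⁻¹ * (g * x * g⁻¹) = c := by
        simpa only [mul_inv_rev, inv_inv, mul_assoc] using hcm' x⁻¹ g fun h => hg
          (mem_cent1.2 (show Commute x⁻¹ g from h).inv_left.symm.eq |> fun h => by simpa using h)
      have h8 := efn_not_mem hD hF h2 (hi x h2) (fun x y => zpowers_le.2 cZ (hcm x y)) hn hα hg hg
        (h7 ▸ h6 α) (h6 α⁻¹) ((efn_efn_inv α (h4 cZ)).trans h7.symm)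
      obtain ⟨z, hz, h9⟩ := exists_central h2 (hi x h2) (efn_mem α hx) h8
      exact ⟨h8, h3.imp_right fun h3 y hy => by
        rw [h9, ← mul_assoc y]; exact h3 _ (mul_mem hy hz)⟩) hv hu
  have h4 := (ce v).card_mul_index
  have h5 := (zpowers c).card_mul_index
  rw [(cent_two hZ h2).1] at h4
  rw [Nat.card_zpowers, orderOf_eq_prime (sq c ▸ cc) c1, ← h1] at h5
  have h6 := two_le_orderOf h2
  refine ⟨by omega, ?_⟩
  by_cases h7 : v * v = 1
  · obtain ⟨z, hz, rfl⟩ := h3.resolve_right fun h => h 1 (one_mem _) (by simpa using h7)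
    exact .inr ⟨z, center_le_centralizer _ hz, by omega, fun h =>
      ((mem_zpowers_of_mul_self h7).1 h).elim c1 fun h => h2 (h ▸ cZ)⟩
  · have := four_le_orderOf hD h7
    exact .inl (by omega)

theorem good_two (hc : Nat.card D ≤ 32) (hn : center D ≠ ⊤) (hN : Nat.card (commutator D) = 2) :
    ∃ u, ∀ v, F.IsConjElt u v → Good (commutator D).index v := by
  have : Fact (Nat.Prime 2) := ⟨Nat.prime_two⟩
  obtain ⟨c, hc', c1, cc⟩ := exists_orderOf Nat.prime_two hN.symm.dvd
  have h1 : zpowers c = commutator D := eq_of_le_of_card_ge (zpowers_le.2 hc')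
    (by rw [hN, Nat.card_zpowers, orderOf_eq_prime cc c1])
  rw [sq] at cc
  have cZ : c ∈ center D := mem_center_iff.2
    (central_of_sq hD (h1 ▸ inferInstance) (mem_zpowers c) cc)
  have h2 : ∀ x : D, (ce x).index ∣ 2 := fun x =>
    index_ce_dvd cZ cc fun g => h1 ▸ comm_mem_commutator g x
  rcases center_index_cases hD hc hn with h3 | h3 | ⟨h3, h4⟩
  · exact good_four hD hF hc h3
  · exact absurd h3 (center_index_ne_eight h2)
  obtain ⟨u, hu⟩ : ∃ u : D, u * u ≠ 1 := not_forall.1 fun h => c1 (mem_bot.1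
    (commutator_le_iff.2 (comm_mem_of_sq (N := ⊥) h) hc'))
  refine ⟨u, fun v hv => ?_⟩
  have h5 := orderOf_eq_of_conj hD hF hv ▸ four_le_orderOf hD hu
  have h6 := (center D).card_mul_index
  have h7 := (commutator D).card_mul_index
  have h8 := (ce v).card_mul_index
  rw [index_cent_eq (fun h => by
    have := Nat.le_of_dvd Nat.card_pos ((center D).orderOf_dvd_natCard h)
    rw [h3] at h6
    omega) (h2 v)] at h8
  rw [hN] at h7
  exact ⟨by omega, .inl (by omega)⟩

theorem good_special (hc : Nat.card D = 32) (hN : Nat.card (commutator D) = 4)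
    (hZ : commutator D ≤ center D) : ∃ u, ∀ v, F.IsConjElt u v → Good (commutator D).index v := by
  have : Fact (Nat.Prime 2) := ⟨Nat.prime_two⟩
  have hcm := commutator_le_iff.1 hZ
  have hn : center D ≠ ⊤ := fun h => by
    rw [le_bot_iff.1 (commutator_le_iff.2 fun x y => mem_bot.2 (mul_inv_eq_one.2
      (mem_center_iff.1 (h ▸ mem_top y) x))), card_bot] at hN
    omega
  have h1 := (center D).card_mul_index
  have h2 := card_le_of_le hZ
  have h7 := (commutator D).card_mul_index
  rw [hN] at h7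
  rcases center_index_cases hD hc.le hn with h3 | h3 | ⟨h3, -⟩
  · exact good_four hD hF hc.le h3
  swap
  · rw [h3] at h1; omega
  rw [h3] at h1
  have h4 : ∀ u : D, ¬ (ce u).index ∣ 2 → u ∉ center D ∧ (ce u).index = 4 ∧
      (center D).relIndex (ce u) = 2 := fun u hu => by
    have h4 : u ∉ center D := fun h => hu (by
      rw [show ce u = ⊤ from centralizer_eq_top_iff_subset.2 (Set.singleton_subset_iff.2 h),
        index_top]
      exact one_dvd 2)
    have h5 := four_le_index hD hu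
    have h6 := relIndex_mul_index (center_lt_cent h4).le
    have h8 := mt relIndex_eq_one.1 (center_lt_cent h4).not_ge
    rw [h3] at h6
    have h9 := Nat.le_of_dvd (by norm_num) (Dvd.intro_left _ h6)
    refine ⟨h4, ?_⟩
    change (centralizer {u}).index = 4 ∧ (center D).relIndex (centralizer {u}) = 2
    change 4 ≤ (centralizer {u}).index at h5
    interval_cases (centralizer {u} : Subgroup D).index <;> omega
  obtain ⟨u, hu⟩ := not_forall.1 fun h => center_index_ne_eight h h3
  refine ⟨u, fun v hv => ?_⟩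
  obtain ⟨h5, h6, -⟩ := h4 v (inv_of_lr hD hF (fun u => ¬ (ce u).index ∣ 2)
    (fun γ x h => by rwa [index_ce_aut]) (fun X hX hc hr hn _ α hα x hx h5 => by
      obtain ⟨h5, h6, hi⟩ := h4 x h5
      have h8 := center_le_of_centric hc
      have h9 : ce x ≤ X := fun y hy => by
        by_cases h9 : y ∈ center D
        · exact h8 h9
        · obtain ⟨z, hz, rfl⟩ := exists_central h5 hi hy h9
          exact mul_mem (h8 hz) hx
      have h10 : ce x = X := by
        refine h9.antisymm (not_not.1 fun h10 => hX (eq_top_of_radical hD hc hr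
          le_rfl (fun β z hz hz' => not_not.1 fun h11 => h10 fun y hy => ?_) hcm))
        have h12 : ∀ y ∈ X, y * efn β z = efn β z * y := fun y hy => by
          have h12 := efn_mem β⁻¹ hy
          rw [← efn_efn_inv β hy, ← efn_map_mul β h12 hz, mem_center_iff.1 hz', efn_map_mul β hz h12]
        exact cent_eq h5 hi (mem_cent1.2 (h12 x hx).symm) h11 ▸ mem_cent1.2 (h12 y hy)
      subst h10
      · obtain ⟨k, hk, k1, h10⟩ : ∃ k ∈ center D, k ≠ 1 ∧ efn α k ∈ center D := by
          have : Nontrivial (center D) := Finite.one_lt_card_iff_nontrivial.1 (by omega)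
          obtain ⟨a, a1⟩ := exists_ne (1 : center D)
          obtain ⟨b, b1, b2⟩ := ENat.exists_ne_ne_of_three_le (α := center D)
            (by rw [ENat.card_eq_coe_natCard]; norm_cast; omega) 1 a
          by_contra! h10
          refine h10 _ (a * b⁻¹).2 (fun h => b2 (mul_inv_eq_one.1 (Subtype.ext h)).symm) ?_
          rw [coe_mul, coe_inv, efn_map_mul α (h8 a.2) (inv_mem (h8 b.2)), efn_map_inv α (h8 b.2)]
          exact mul_inv_mem_of_relIndex_two hi (efn_mem α (h8 a.2)) (efn_mem α (h8 b.2))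
            (h10 _ a.2 fun h => a1 (Subtype.ext h)) (h10 _ b.2 fun h => b1 (Subtype.ext h))
        have h11 : ∀ g : D, x⁻¹ * (g * x * g⁻¹) ∈ center D := fun g => by
          simpa only [mul_inv_rev, inv_inv, mul_assoc] using hcm x⁻¹ g
        let ψ : D →* center D := MonoidHom.mk' (fun g => ⟨_, h11 g⟩) fun g h => Subtype.ext (by
          have := mem_center_iff.1 (h11 h) g⁻¹
          calc _ = x⁻¹ * (g * x * (x⁻¹ * (h * x * h⁻¹) * g⁻¹)) := by group
            _ = _ := by rw [← this, coe_mul]; group)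
        have h12 : ψ.ker = ce x := Subgroup.ext fun g => by
          rw [MonoidHom.mem_ker, Subtype.ext_iff, mem_cent1]
          exact inv_mul_eq_one.trans (eq_comm.trans mul_inv_eq_iff_eq_mul)
        have h13 : ∀ k ∈ center D, k ≠ 1 → ∃ g ∉ ce x, x⁻¹ * (g * x * g⁻¹) = k := fun k hk k1 => by
          obtain ⟨g, hg⟩ := MonoidHom.range_eq_top.1 (ψ.range.eq_top_of_card_eq
            (by rw [← index_ker, h12, h6]; omega)) ⟨k, hk⟩
          exact ⟨g, fun h => k1 (congrArg Subtype.val (hg.symm.trans (h12 ▸ h : g ∈ ψ.ker))),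
            congrArg Subtype.val hg⟩
        obtain ⟨g, hg, h14⟩ := h13 k hk k1
        obtain ⟨h, hh, h15⟩ := h13 _ h10 fun h => k1 (efn_inj α (h8 hk) (one_mem _)
          (h.trans (efn_one' α).symm))
        rw [cent_eq h5 hi (efn_mem α hx) (efn_not_mem hD hF h5 hi hcm hn hα hg hh (h14 ▸ h10) hk
          h15.symm), h6]
        norm_num) hv hu)
  have h8 := (ce v).card_mul_index
  have := two_le_orderOf h5
  rw [h6] at h8
  exact ⟨by omega, .inl (by omega)⟩

end Cfsg.Agent.H35
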