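import Cfsg.Agent.H35.OlG
import Cfsg.Agent.H3.PGroup

/-! Elements with small centralizers in fusion systems over `2`-groups of order `32` and class
three with commutator subgroup of order `4`. -/

set_option autoImplicit false
set_option linter.unusedSectionVars false

open Subgroup Function

namespace Cfsg.Agent.H35

open Cfsg Cfsg.Agent.H42
open Cfsg.Agent.H91 (efn efn_mem efn_map_mul efn_map_inv efn_mul efn_inv_efn efn_efn_inv)

variable {D : Type*} [Group D] [Finite D] {a b c d g n t u v x y : D} {X : Subgroup D}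

/-- A group of order `32` and class three with commutator subgroup `{1, c, d, cd}`. -/
structure C3 (c d : D) : Prop where
  hD : IsPGroup 2 D
  card : Nat.card D = 32
  cN : Nat.card (commutator D) = 4
  cZ : c ∈ center D
  c1 : c ≠ 1
  cc : c * c = 1
  cm : c ∈ commutator D
  dm : d ∈ commutator D
  dZ : d ∉ center D

/-- The exceptional groups: an abelian maximal subgroup containing all elements of order `8`. -/
structure Sp (a : D) : Prop where
  a4 : a ^ 4 ≠ 1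
  a8 : a ^ 8 = 1
  card : Nat.card (ce a) = 16
  comm : ∀ x ∈ ce a, ∀ y ∈ ce a, x * y = y * x
  conj : IsConj a (a ^ 3) ∨ IsConj a (a ^ 7)
  nc : ¬ IsConj a (a ^ 5)
  cen : ∀ v : D, v ^ 4 ≠ 1 → ce v = ce a
  fix : ∀ (X : Subgroup D) φ, OddAut X φ → ∀ v ∈ X, v ^ 4 ≠ 1 → ∀ g ∈ X, φ g = g

theorem exists_c3 (hD : IsPGroup 2 D) (hc : Nat.card D = 32) (hN : Nat.card (commutator D) = 4)
    (hZ : ¬ commutator D ≤ center D) : ∃ c d : D, C3 c d := by
  have : Fact (Nat.Prime 2) := ⟨Nat.prime_two⟩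
  obtain ⟨K, hK, h1, h2⟩ := H3.exists_normal_le_card_eq hD (commutator D) 1 (by omega)
  obtain ⟨c, hc', c1, cc⟩ := exists_orderOf Nat.prime_two h2.symm.dvd
  have h3 : zpowers c = K := eq_of_le_of_card_ge (zpowers_le.2 hc')
    (by rw [h2, Nat.card_zpowers, orderOf_eq_prime cc c1, pow_one])
  rw [sq] at cc
  obtain ⟨d, hd, dZ⟩ := SetLike.not_le_iff_exists.1 hZ
  exact ⟨c, d, hD, hc, hN, mem_center_iff.2 (central_of_sq hD (h3 ▸ hK) (mem_zpowers c) cc), c1, cc,
    h1 hc', hd, dZ⟩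

namespace C3

variable (T : C3 c d)
include T

theorem oc : Nat.card (zpowers c) = 2 := by
  have : Fact (Nat.Prime 2) := ⟨Nat.prime_two⟩
  rw [Nat.card_zpowers, orderOf_eq_prime (sq c ▸ T.cc) T.c1]

theorem kZ : zpowers c ≤ center D := zpowers_le.2 T.cZ

theorem kN : zpowers c ≤ commutator D := zpowers_le.2 T.cm

theorem ri : (zpowers c).relIndex (commutator D) = 2 := relIndex_of_card T.kN T.oc T.cN

theorem eq_mul (hn : n ∈ commutator D) (h : n ∉ zpowers c) : ∃ k ∈ zpowers c, n = k * d :=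
  ⟨_, mul_inv_mem_of_relIndex_two T.ri hn T.dm h fun h => T.dZ (T.kZ h), by simp⟩

theorem ce_eq (hn : n ∈ commutator D) (h : n ∉ zpowers c) : ce n = ce d := by
  obtain ⟨k, hk, rfl⟩ := T.eq_mul hn h
  ext g
  rw [mem_cent1, mem_cent1, ← mul_assoc, mem_center_iff.1 (T.kZ hk) g, mul_assoc, mul_assoc,
    mul_right_inj]

theorem mem_k (hn : n ∈ commutator D) (hu : u ∉ ce d) (h : u * n = n * u) : n ∈ zpowers c :=
  not_not.1 fun h1 => hu (T.ce_eq hn h1 ▸ mem_cent1.2 h)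

theorem comm_N (hn : n ∈ commutator D) (hg : g ∈ ce d) : g * n = n * g := by
  by_cases h : n ∈ zpowers c
  exacts [mem_center_iff.1 (T.kZ h) g, mem_cent1.1 ((T.ce_eq hn h).ge hg)]

theorem comm_k (hn : n ∈ commutator D) (g : D) : g * n * (n * g)⁻¹ ∈ zpowers c := by
  by_cases h : n ∈ zpowers c
  · rw [mem_center_iff.1 (T.kZ h) g, mul_inv_cancel]; exact one_mem _
  rw [mul_inv_rev, ← mul_assoc]
  refine mul_inv_mem_of_relIndex_two T.ri (Normal.conj_mem inferInstance n hn g) hn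
    (fun h1 => h ?_) h
  have h2 := mem_center_iff.1 (T.kZ h1) g⁻¹
  rw [← mul_assoc, ← mul_assoc, inv_mul_cancel, one_mul, mul_left_inj] at h2
  exact h2 ▸ h1

theorem iC : (ce d).index = 2 := index_cent_eq T.dZ (index_ce_dvd T.cZ T.cc (T.comm_k T.dm))

theorem mul_iff : x * y ∈ ce d ↔ (x ∈ ce d ↔ y ∈ ce d) := mul_mem_iff_of_index_two T.iC

theorem small (hu : u ∉ ce d) : Good (commutator D).index u := by
  have h1 := four_le_index T.hD (X := ce u) fun h =>
    hu (mem_cent1.2 (mem_cent1.1 (commutator_le_of_index h T.dm)).symm)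
  have h2 := (ce u).card_mul_index
  have h3 := (commutator D).card_mul_index
  have h4 := two_le_orderOf (u := u) fun h => hu (center_le_centralizer _ h)
  rw [T.cN, T.card] at h3
  have h5 : Nat.card (ce u) ≤ 8 := by rw [T.card] at h2; nlinarith
  exact ⟨by omega, .inl (by omega)⟩

theorem aut_c (γ : MulAut D) : γ c = c :=
  ((mem_zpowers_of_mul_self T.cc).1 (not_not.1 fun h => T.dZ (centralizer_eq_top_iff_subset.1
    ((T.ce_eq ((mem_commutator_aut γ).2 T.cm) h).symm.trans (centralizer_eq_top_iff_subset.2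
      (Set.singleton_subset_iff.2 ((mem_center_aut γ).2 T.cZ)))) rfl))).resolve_left
        (by simpa using T.c1)

theorem mem_k_iff {f : D → D} (hc : c ∈ X) (hx : x ∈ X) (h1 : f 1 = 1) (h2 : f c = c)
    (hi : ∀ x ∈ X, ∀ y ∈ X, f x = f y → x = y) : f x ∈ zpowers c ↔ x ∈ zpowers c := by
  simp only [mem_zpowers_of_mul_self T.cc]
  exact or_congr ⟨fun h => hi _ hx _ (one_mem _) (h.trans h1.symm), fun h => h ▸ h1⟩
    ⟨fun h => hi _ hx _ hc (h.trans h2.symm), fun h => h ▸ h2⟩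

theorem good_out {F : FusionSystem (⊤ : Subgroup D)} (hF : F.IsSaturated 2) (hu : u ∉ ce d)
    (hu' : u * u ∉ zpowers c) (hv : F.IsConjElt u v) : v ∉ ce d := by
  have : Fact (Nat.Prime 2) := ⟨Nat.prime_two⟩
  have hk := fun (γ : MulAut D) x => T.mem_k_iff (X := ⊤) (f := γ) (x := x) trivial trivial
    (map_one γ) (T.aut_c γ) fun _ _ _ _ h => γ.injective h
  refine (inv_of_lr T.hD hF (fun u => u ∉ ce d ∧ u * u ∉ zpowers c)
    (fun γ x ⟨h1, h2⟩ => ⟨fun h => h1 ?_, by rwa [← map_mul, hk]⟩)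
    (fun X hX hc _ _ he α _ x hx ⟨h1, h2⟩ => ?_) hv ⟨hu, hu'⟩).1
  · rw [← T.ce_eq ((mem_commutator_aut γ).2 T.dm) (mt (hk γ d).1 fun h => T.dZ (T.kZ h)),
      mem_cent1, ← map_mul, ← map_mul] at h
    exact mem_cent1.2 (γ.injective h)
  have cX := center_le_of_centric hc T.cZ
  have xC : x * x ∈ ce d := T.mul_iff.2 Iff.rfl
  have h3 := X.card_mul_index
  rw [T.card] at h3
  by_cases hi : X.index ∣ 2
  · have hN := commutator_le_of_index hi
    have h4 : X.index = 2 := ((Nat.dvd_prime Nat.prime_two).1 hi).resolve_left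
      (mt index_eq_one.1 hX)
    have h5 := card_eq_two_mul_card_inf (S := ⊤) ((relIndex_top_right _).trans T.iC) le_top hx h1
    have h6 : commutator D ≤ X ⊓ ce d := le_inf hN fun n hn => mem_cent1.2
      (T.comm_N hn (mem_cent1.2 rfl)).symm
    have h7 : (commutator D).relIndex (X ⊓ ce d) = 2 :=
      relIndex_of_card h6 T.cN (by rw [h4] at h3; omega)
    have h8 : x * x ∈ X ⊓ ce d := ⟨mul_mem hx hx, xC⟩
    have h9 : x * x ∉ commutator D := fun h => h2 (T.mem_k h h1 (mul_assoc _ _ _).symm)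
    have h10 : ∀ y ∈ X ⊓ ce d, y ∈ commutator D ∨ ∃ n ∈ commutator D, y = n * (x * x) :=
      fun y hy => or_iff_not_imp_left.2 fun h =>
        ⟨_, mul_inv_mem_of_relIndex_two h7 hy h8 h h9, by group⟩
    have h11 : ∀ y ∈ X ⊓ ce d, y * y ∈ zpowers c := fun y hy => by
      have h11 := fun n hn => (mul_mem_iff_of_relIndex_two T.ri (a := n) hn hn).2 Iff.rfl
      obtain h | ⟨n, hn, rfl⟩ := h10 y hy
      · exact h11 y h
      rw [mul_assoc, ← mul_assoc (x * x), T.comm_N hn xC, mul_assoc n, ← mul_assoc n n]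
      exact mul_mem (h11 n hn) (T.mem_k ((mul_mem_iff_of_relIndex_two h7 h8 h8).2 Iff.rfl) h1
        (by group))
    have : (zpowers c).Normal := ⟨fun n hn g => by
      rwa [mem_center_iff.1 (T.kZ hn) g, mul_inv_cancel_right]⟩
    let π := QuotientGroup.mk' (zpowers c)
    have hπ : ∀ x y, Commute (π x) (π y) ↔ x * y * (y * x)⁻¹ ∈ zpowers c := fun x y => by
      rw [commute_iff_eq, ← map_mul, ← map_mul, ← div_eq_mul_inv]
      exact QuotientGroup.eq_iff_div_mem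
    have h12 : ∀ w, Commute (π w) (π x) → ∀ y ∈ X, Commute (π w) (π y) := fun w hw y hy => by
      have h12 : ∀ y ∈ X ⊓ ce d, Commute (π w) (π y) := fun y hy => by
        obtain h | ⟨n, hn, rfl⟩ := h10 y hy
        · exact (hπ _ _).2 (T.comm_k h w)
        · rw [map_mul, map_mul]
          exact ((hπ _ _).2 (T.comm_k hn w)).mul_right (hw.mul_right hw)
      by_cases h : y ∈ ce d
      · exact h12 y ⟨hy, h⟩
      rw [← mul_inv_cancel_right y x, map_mul, map_inv]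
      exact (h12 _ ⟨mul_mem hy hx, T.mul_iff.2 (iff_of_false h h1)⟩).mul_right hw.inv_right
    have h13 : x * d * (d * x)⁻¹ = c := ((mem_zpowers_of_mul_self T.cc).1
      (T.comm_k T.dm x)).resolve_left fun h => h1 (mem_cent1.2 (mul_inv_eq_one.1 h))
    have dX := hN T.dm
    have h14 : efn α c = c := ((mem_zpowers_of_mul_self T.cc).1 (by
      rw [← h13, efn_map_mul α (mul_mem hx dX) (inv_mem (mul_mem dX hx)),
        efn_map_inv α (mul_mem dX hx), efn_map_mul α hx dX, efn_map_mul α dX hx, h13]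
      exact (hπ _ _).1 (h12 _ (h12 x (Commute.refl _) _ (efn_mem α hx)).symm _
        (efn_mem α dX)))).resolve_left fun h => T.c1 (efn_inj α cX (one_mem _)
          (h.trans (efn_one' α).symm))
    have h15 : efn α x * efn α x ∉ zpowers c := by
      rwa [← efn_map_mul α hx hx, T.mem_k_iff cX (mul_mem hx hx) (efn_one' α) h14
        fun _ h _ h' => efn_inj α h h']
    exact ⟨fun h => h15 (h11 _ ⟨efn_mem α hx, h⟩), h15⟩
  have h4 := four_le_index T.hD hi
  have h5 := H4.mul_card_le_of_lt (T.hD.to_subgroup (zpowers c ⊔ zpowers (x * x)))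
    (lt_of_le_of_ne le_sup_left fun h => h2 (h ▸ mem_sup_right (mem_zpowers _)))
  have h6 := H4.mul_card_le_of_lt (T.hD.to_subgroup (zpowers c ⊔ zpowers x))
    (lt_of_le_of_ne (sup_le_sup_left (zpowers_le.2 (mul_mem (mem_zpowers x) (mem_zpowers x))) _)
      fun h => h1 (sup_le (T.kZ.trans (center_le_centralizer _)) (zpowers_le.2 xC)
        (h ▸ mem_sup_right (mem_zpowers _))))
  rw [T.oc] at h5
  have h7 : Nat.card X ≤ 8 := by nlinarith
  have h8 : zpowers c ⊔ zpowers x = X :=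
    eq_of_le_of_card_ge (sup_le (zpowers_le.2 cX) (zpowers_le.2 hx)) (by omega)
  have h9 : ∀ w, x ∈ ce w → X ≤ ce w := fun w hw =>
    h8 ▸ sup_le (T.kZ.trans (center_le_centralizer _)) (zpowers_le.2 hw)
  have h10 : x * x ≠ 1 := fun h => h2 (h ▸ one_mem _)
  have h11 := card_mul_relIndex (zpowers_le.2 hx)
  have h12 := four_le_orderOf T.hD h10
  rw [Nat.card_zpowers] at h11
  obtain ⟨f, hf, g, hg, h13⟩ := he.oddAut (T.hD.to_subgroup X)
  exact (h13 (fix_of_cyc2 T.hD hf (fun a ha b hb => mem_cent1.1 (h9 b (mem_cent1.2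
    (mem_cent1.1 (h9 x (mem_cent1.2 rfl) hb)).symm) ha)) hx (by nlinarith) h10 hg)).elim

section In

variable (H : ∀ u ∉ ce d, u * u ∈ zpowers c)
include H

theorem sq_mem (hv : v ^ 4 ≠ 1) : v * v ∉ zpowers c := fun h => hv (by
  rw [pow_add v 2 2, sq]
  rcases (mem_zpowers_of_mul_self T.cc).1 h with h | h <;> rw [h]
  exacts [one_mul _, T.cc])

theorem of_sq (hv : v * v ∉ zpowers c) : v ∈ ce d ∧ ce v ≤ ce d ∧ v ^ 4 = c ∧
    ∀ t ∉ ce d, t * v * t⁻¹ = v ^ 3 ∨ t * v * t⁻¹ = v ^ 7 := by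
  have h1 : v ∈ ce d := not_not.1 fun h => hv (H v h)
  have h2 : ∀ t ∉ ce d, t * v * t⁻¹ * v ∈ zpowers c := fun t ht => by
    have h2 := mul_mem (H (t * v) fun h => ht ((T.mul_iff.1 h).2 h1)) (inv_mem (H t ht))
    rw [mul_assoc (t * v), mem_center_iff.1 (inv_mem (T.kZ (H t ht)))] at h2
    simpa only [mul_inv_rev, mul_assoc, inv_mul_cancel_left] using h2
  obtain ⟨t, ht⟩ := exists_not_mem (cent_ne_top T.dZ)
  have h3 : v * v ∈ commutator D := by
    simpa only [mul_inv_rev, mul_assoc, inv_mul_cancel_left, inv_inv, mul_inv_cancel_left] using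
      mul_mem (comm_mem_commutator v t) (T.kN (h2 t ht))
  have h4 := ((mem_zpowers_of_mul_self T.cc).1 (T.comm_k h3 t)).resolve_left
    fun h => hv (T.mem_k h3 ht (mul_inv_eq_one.1 h))
  have h5 : ∀ t ∉ ce d, t * v * t⁻¹ = v⁻¹ ∨ t * v * t⁻¹ = c * v⁻¹ := fun t ht =>
    ((mem_zpowers_of_mul_self T.cc).1 (h2 t ht)).imp eq_inv_of_mul_eq_one_left
      eq_mul_inv_of_mul_eq
  have h6 : v ^ 4 = c := by
    rw [show t * (v * v) * (v * v * t)⁻¹ = t * v * t⁻¹ * (t * v * t⁻¹) * (v * v)⁻¹ by group] at h4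
    have h6 : t * v * t⁻¹ * (t * v * t⁻¹) = v⁻¹ * v⁻¹ := by
      rcases h5 t ht with h | h <;> rw [h]
      rw [mul_assoc, ← mul_assoc v⁻¹, mem_center_iff.1 T.cZ v⁻¹, ← mul_assoc, ← mul_assoc, T.cc,
        one_mul]
    rw [← inv_eq_of_mul_eq_one_left T.cc, ← h4, h6]
    group
  refine ⟨h1, fun g hg => T.ce_eq h3 hv ▸ mem_cent1.2 ?_, h6, fun t ht => ?_⟩
  · rw [← mul_assoc, mem_cent1.1 hg, mul_assoc, mem_cent1.1 hg, mul_assoc]
  · refine (h5 t ht).symm.imp (fun h => ?_) fun h => ?_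
    · rw [h, ← h6]; group
    · rw [h, ← one_mul v⁻¹, ← T.cc, ← h6]; group

theorem sp (ha : a ^ 4 ≠ 1) (hc : 8 < Nat.card (ce a)) : Sp a := by
  have : Fact (Nat.Prime 2) := ⟨Nat.prime_two⟩
  have hs := fun v hv => T.of_sq H (T.sq_mem H (v := v) hv)
  obtain ⟨h1, h2, h3, h4⟩ := hs a ha
  have h5 : Nat.card (ce d) = 16 := by
    have := (ce d).card_mul_index
    rw [T.iC, T.card] at this
    omega
  have h6 : ce a = ce d := not_not.1 fun h => by
    have := H4.mul_card_le_of_lt (T.hD.to_subgroup _) (lt_of_le_of_ne h2 h)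
    omega
  have h7 : ∀ v : D, v ^ 4 ≠ 1 → v ^ 8 = 1 ∧ orderOf v = 8 := fun v hv => by
    have h7 : v ^ 8 = 1 := by rw [← T.cc, ← (hs v hv).2.2.1]; group
    exact ⟨h7, orderOf_eq_prime_pow (p := 2) (n := 2) hv h7⟩
  have h8 : (zpowers a).relIndex (ce d) = 2 :=
    relIndex_of_card (zpowers_le.2 h1) (by rw [Nat.card_zpowers, (h7 a ha).2]) h5
  have h9 : ∀ x ∈ ce d, ∀ y ∈ ce d, x * y = y * x := fun x hx y hy => by
    have h9 : ∀ k ∈ zpowers a, ∀ y ∈ ce d, k * y = y * k := fun k hk y hy => mem_cent1.1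
      (zpowers_le.2 (mem_cent1.2 (mem_cent1.1 (h6.ge hy)).symm) hk)
    by_cases h10 : x ∈ zpowers a
    · exact h9 x h10 y hy
    by_cases h11 : y ∈ zpowers a
    · exact (h9 y h11 x hx).symm
    have h12 := h9 _ (mul_inv_mem_of_relIndex_two h8 hx hy h10 h11) y hy
    rw [inv_mul_cancel_right, ← mul_assoc] at h12
    exact (mul_inv_eq_iff_eq_mul.1 h12.symm).symm
  have h10 : ∀ i < 8, ∀ j < 8, a ^ i = a ^ j → i = j := fun i hi j hj h =>
    pow_injOn_Iio_orderOf (by rwa [(h7 a ha).2]) (by rwa [(h7 a ha).2]) h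
  obtain ⟨t, ht⟩ := exists_not_mem (cent_ne_top T.dZ)
  refine ⟨ha, (h7 a ha).1, h6 ▸ h5, h6 ▸ h9, (h4 t ht).imp (fun h => isConj_iff.2 ⟨t, h⟩)
    fun h => isConj_iff.2 ⟨t, h⟩, fun h => ?_, fun v hv => h6 ▸ (hs v hv).2.1.antisymm
      fun g hg => mem_cent1.2 (h9 g hg v (hs v hv).1), fun X φ hφ v hv v4 g hg => ?_⟩
  · obtain ⟨g, hg⟩ := isConj_iff.1 h
    by_cases h11 : g ∈ ce d
    · rw [h9 g h11 a h1, mul_inv_cancel_right] at hg
      exact absurd (h10 1 (by omega) 5 (by omega) (by rwa [pow_one])) (by omega)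
    · rcases h4 g h11 with h12 | h12 <;>
        exact absurd (h10 _ (by omega) 5 (by omega) (h12.symm.trans hg)) (by omega)
  have h11 : ∀ y ∈ X, y ^ 4 ≠ 1 → φ y ∈ ce d := fun y hy y4 => (hs _ fun h => y4
    (hφ.inj (pow_mem hy 4) (one_mem _) (by rw [hφ.pow hy, h, hφ.one]))).1
  have vC := (hs v v4).1
  have h12 : OddAut (X ⊓ ce d) φ := ⟨T.hD.to_subgroup _, fun y hy => ⟨hφ.mem y hy.1, by
      by_cases y4 : y ^ 4 = 1
      · have h12 := h11 _ (mul_mem hy.1 hv) (by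
          rwa [Commute.mul_pow (h9 y hy.2 v vC), y4, one_mul])
        rwa [hφ.mul y hy.1 v hv, mul_mem_cancel_right (h11 v hv v4)] at h12
      · exact h11 y hy.1 y4⟩, fun a ha b hb => hφ.mul a ha.1 b hb.1,
    hφ.iter.imp fun m hm => ⟨hm.1, fun g hg => hm.2 g hg.1⟩⟩
  have h13 : ∀ y ∈ X, y ∈ ce d → φ y = y := fun y hy hy' => by
    have h13 := card_mul_relIndex (zpowers_le.2 (show v ∈ X ⊓ ce d from ⟨hv, vC⟩))
    have h14 := card_le_of_le (inf_le_right : X ⊓ ce d ≤ _)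
    rw [Nat.card_zpowers, (h7 v v4).2] at h13
    exact fix_of_cyc2 T.hD h12 (fun a ha b hb => h9 a ha.2 b hb.2) ⟨hv, vC⟩ (by omega)
      (fun h => T.sq_mem H v4 (h ▸ one_mem _)) ⟨hy, hy'⟩
  by_cases h14 : g ∈ ce d
  · exact h13 g hg h14
  · exact hφ.fix_of_relIndex_two (relIndex_two_of_not_le (S := ⊤) ((relIndex_top_right _).trans T.iC)
      le_top hg h14) h13 hg

end In

theorem good_or_sp {F : FusionSystem (⊤ : Subgroup D)} (hF : F.IsSaturated 2) :
    (∃ u, ∀ v, F.IsConjElt u v → Good (commutator D).index v) ∨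
      (commutator D).index = 8 ∧ ∃ a : D, Sp a := by
  by_cases H : ∀ u ∉ ce d, u * u ∈ zpowers c
  swap
  · push Not at H
    obtain ⟨u, hu, hu'⟩ := H
    exact .inl ⟨u, fun v hv => T.small (T.good_out hF hu hu' hv)⟩
  have h1 := (commutator D).card_mul_index
  rw [T.cN, T.card] at h1
  by_cases h2 : ∃ a : D, a ^ 4 ≠ 1 ∧ 8 < Nat.card (ce a)
  · obtain ⟨a, ha, h2⟩ := h2
    exact .inr ⟨by omega, a, T.sp H ha h2⟩
  obtain ⟨u, hu⟩ := not_forall.1 fun h => T.dZ (T.kZ (commutator_le_iff.2 (comm_mem_of_sq h) T.dm))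
  refine .inl ⟨u, fun v hv => ?_⟩
  have h3 : v ^ 4 ≠ 1 := by
    rw [Ne, ← orderOf_dvd_iff_pow_eq_one, orderOf_eq_of_conj T.hD hF hv, orderOf_dvd_iff_pow_eq_one,
      (T.of_sq H hu).2.2.1]
    exact T.c1
  have h4 := not_lt.1 fun h => h2 ⟨v, h3, h⟩
  have h5 := four_le_orderOf T.hD fun h => T.sq_mem H h3 (h ▸ one_mem _)
  exact ⟨by omega, .inl (by omega)⟩

end C3

end Cfsg.Agent.H35
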