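import Cfsg.Agent.H86.Gl
import Cfsg.Agent.H42.FsBasic

/-! Alperin's fusion theorem and the extension property for `2`-blocks, in terms of `Fz`. -/

set_option autoImplicit false
set_option linter.unusedSectionVars false

open MonoidAlgebra Subgroup

namespace Cfsg.Agent.H35

open Cfsg Cfsg.Agent.H87 Cfsg.Agent.H32 Cfsg.Agent.H86 Cfsg.Agent.H42

section Pf

variable {G : Type*} [Group G] {P X : Subgroup G} {φ : G → G}

open Classical in
/-- A map on the ambient group, pulled back to a subgroup. -/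
noncomputable def pf (P : Subgroup G) (φ : G → G) : P → P :=
  fun v => if h : φ v ∈ P then ⟨φ v, h⟩ else v

theorem coe_pf {v : P} (h : φ v ∈ P) : (pf P φ v : G) = φ v := by
  rw [pf, dif_pos h]

theorem oddAut_pf (hX : X ≤ P) (h : OddAut X φ) : OddAut (X.subgroupOf P) (pf P φ) := by
  have h1 : ∀ v ∈ X.subgroupOf P, (pf P φ v : G) = φ v := fun v hv => coe_pf (hX (h.mem _ hv))
  have h2 : ∀ v ∈ X.subgroupOf P, pf P φ v ∈ X.subgroupOf P := fun v hv => by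
    rw [mem_subgroupOf, h1 v hv]; exact h.mem _ hv
  obtain ⟨m, hm, hm'⟩ := h.iter
  refine ⟨h.isP.of_equiv (subgroupOfEquivOfLe hX).symm, h2, fun a ha b hb => Subtype.ext ?_, m, hm,
    fun v hv => Subtype.ext ?_⟩
  · rw [coe_mul, h1 _ (mul_mem ha hb), h1 a ha, h1 b hb]; exact h.mul _ ha _ hb
  · have h3 : ∀ n : ℕ, (pf P φ)^[n] v ∈ X.subgroupOf P ∧ (((pf P φ)^[n] v : P) : G) = φ^[n] v := by
      intro n
      induction n with
      | zero => exact ⟨hv, rfl⟩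
      | succ n ih =>
        rw [Function.iterate_succ_apply', Function.iterate_succ_apply']
        exact ⟨h2 _ ih.1, by rw [h1 _ ih.1, ih.2]⟩
    exact (h3 m).2.trans (hm' _ hv)

end Pf

variable {M : Ideal AlgInt} [hMm : M.IsMaximal] {G : Type*} [Group G] [Finite G] {p : ℕ}
  {B : Set (IrrCharacter G)} {P R N : Subgroup G} {e f : (Res M)[G]}

theorem fz_of_sub (h : Ctx M p B P e) {X : Subgroup G} {j : (Res M)[G]} {g v : G}
    (h1 : Sub p ⊤ X j P e) (h2 : Sub p ⊤ (cjS g X) (cj g j) P e) (hv : v ∈ X) :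
    Fz p P e v (g * v * g⁻¹) := by
  have : Fact p.Prime := ⟨h.hM.1⟩
  have := res_charP h.hM
  exact ⟨g, Into.of_sub ((h.blk_spec (h1.le hv)).2.of_le h.pair h1 (zpowers_le.2 hv)) h2, rfl⟩

theorem fz_zpow (h : Ctx M p B P e) {u v : G} (hu : u ∈ P) (h1 : Fz p P e u v) (n : ℤ) :
    Fz p P e (u ^ n) (v ^ n) := by
  obtain ⟨g, hg, rfl⟩ := h1
  rw [conj_zpow]
  exact fz_of_sub h (h.blk_spec hu).2 (by rwa [cjS_zpowers]) (zpow_mem_zpowers u n)

theorem fz_sq (h : Ctx M p B P e) {u v : P} (h1 : Fz p P e u v) :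
    Fz p P e (u * u : P) (v * v : P) := by
  simpa only [zpow_two, coe_mul] using fz_zpow h u.2 h1 2

theorem ext_gen {k : Type*} [Field k] [Fact p.Prime] [CharP k p] {b e f j : k[G]}
    {Q U : Subgroup G} {g : G} (hb : Blk ⊤ ⊤ b) (hm : MaxPair p ⊤ ⊤ b P e) (hs : Sub p ⊤ Q f P e)
    (hj : Sub p ⊤ U j P e) (hQU : Q ≤ U) (hU : U ≤ Ce Q) (hs' : Sub p ⊤ (cjS g Q) (cj g f) P e)
    (hP : P ≤ Ce (cjS g Q)) :
    ∃ c ∈ Ce (cjS g Q), Sub p ⊤ (cjS (c * g) U) (cj (c * g) j) P e := by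
  have he := hm.bpair.pair
  have hf := hs'.pair_iff.2 he
  have h0 : P ⊓ No (cjS g Q) = P := inf_eq_left.2 (hP.trans (Ce_le_No _))
  have hPC : P ≤ ⊤ ⊓ Ce (cjS g Q) ⊓ stab (cj g f) :=
    le_inf (le_inf le_top hP) (h0 ▸ inv_iff_le_stab.1 (hs'.inv he))
  have h1 := ((hs.of_le he hj hQU).nsub (hj.pair_iff.2 he) (hU.trans (Ce_le_No _))).cj
    (top_le_No_top (mem_top g))
  obtain ⟨c, hc, h2⟩ := hm.exists_ext le_rfl top_le_No_top hb hs' (hf.le_Ce_stab le_rfl) le_rfl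
    (inf_le_left.trans (hPC.trans Subgroup.le_normalizer))
    (by rw [h0, sup_eq_left.2 hPC]
        exact hm.isDef_of_le le_rfl top_le_No_top hb hs' (hf.le_Ce_stab le_rfl)
          (inf_le_inf_right _ (inf_le_inf_left _ (Ce_le_No _))) hPC)
    (le_sup_of_le_left (le_inf (le_inf le_top
      (cjS_Ce g Q ▸ cjS_mono g hU)) (inv_iff_le_stab.1 h1.inv))) h1
  rw [← cjS_mul, ← cj_mul] at h2
  exact ⟨c, hc.1.2, h2⟩

/-- The extension property for an element fused to a central element. -/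
theorem ext_central (h : Ctx M p B P e) {u z : G} (hu : u ∈ P) (hz : z ∈ Ce P)
    (h1 : Fz p P e u z) : ∃ g j, g * u * g⁻¹ = z ∧ Sub p ⊤ (P ⊓ Ce (zpowers u)) j P e ∧
      Sub p ⊤ (cjS g (P ⊓ Ce (zpowers u))) (cj g j) P e := by
  have : Fact p.Prime := ⟨h.hM.1⟩
  have := res_charP h.hM
  obtain ⟨g, hg, rfl⟩ := h1
  have hs := (h.blk_spec hu).2
  obtain ⟨j, hj⟩ := exists_sub h.pair (inf_le_left : P ⊓ Ce (zpowers u) ≤ P)
  obtain ⟨c, hc, h3⟩ := ext_gen (g := g) (blk_eB h.hB) h.hm hs hj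
    (le_inf hs.le (zpowers_le.2 ((isCent_zpowers u u).2 rfl))) inf_le_right
    (by rw [cjS_zpowers]; exact hg) (by rw [cjS_zpowers]; exact le_Ce_comm.1 (zpowers_le.2 hz))
  refine ⟨c * g, j, ?_, hj, h3⟩
  have h4 := mem_Ce.1 hc _ (conj_mem_cjS (x := g) (mem_zpowers u))
  calc c * g * u * (c * g)⁻¹ = c * (g * u * g⁻¹) * c⁻¹ := by group
    _ = _ := by rw [← h4, mul_inv_cancel_right]

/-- An element fused to a central element carries its centralizer along. -/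
theorem exists_ext (h : Ctx M p B P e) {u z : P} (hz : (z : G) ∈ Ce P) (h1 : Fz p P e u z) :
    ∃ φ : P → P, φ u = z ∧ (∀ v, v * u = u * v → Fz p P e v (φ v)) ∧
      ∀ v w, v * u = u * v → w * u = u * w → φ (v * w) = φ v * φ w ∧ (φ v = φ w → v = w) := by
  obtain ⟨g, j, h2, h3, h4⟩ := ext_central h u.2 hz h1
  have h5 : ∀ v : P, v * u = u * v → Fz p P e v (g * v * g⁻¹) := fun v hv =>
    fz_of_sub h h3 h4 ⟨v.2, (isCent_zpowers _ _).2 (congrArg Subtype.val hv)⟩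
  have h6 : ∀ v : P, v * u = u * v → (pf P (fun a => g * a * g⁻¹) v : G) = g * v * g⁻¹ :=
    fun v hv => coe_pf (h5 v hv).mem
  refine ⟨pf P fun a => g * a * g⁻¹, Subtype.ext ((h6 u rfl).trans h2), fun v hv => ?_,
    fun v w hv hw => ⟨Subtype.ext ?_, fun h7 => Subtype.ext ?_⟩⟩
  · rw [h6 v hv]; exact h5 v hv
  · rw [coe_mul, h6 v hv, h6 w hw, h6 _ (by rw [mul_assoc, hw, ← mul_assoc, hv, mul_assoc]),
      conj_mul, coe_mul]
  · have h8 := congrArg Subtype.val h7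
    rw [h6 v hv, h6 w hw] at h8
    simpa using h8

variable (P e N) in
/-- A nontrivial automorphism of odd order of a self-centralizing subgroup, induced in `N` by the
fusion system of the block. -/
structure LA (X : Subgroup P) (φ : P → P) : Prop where
  cen : ∀ v : P, (∀ u ∈ X, u * v = v * u) → v ∈ X
  odd : OddAut X φ
  ne : ∃ v ∈ X, φ v ≠ v
  ind : ∃ g ∈ N, ∀ v ∈ X, (φ v : G) = g * v * g⁻¹
  fz : ∀ v ∈ X, Fz 2 P e v (φ v)

theorem la_of_ess (h : Ctx M 2 B P e) (he : Pair 2 N P e) {F : FusionSystem P}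
    (hF : IsBFS 2 N N P e F) {X : Subgroup G} (hX : X ≤ P) (hc : P ⊓ Ce X ≤ X)
    (hs : ∀ j, Sub 2 N X j P e → Sub 2 ⊤ X j P e) (h1 : Ess F X) :
    ∃ φ, LA P N e (X.subgroupOf P) φ := by
  have : Fact (Nat.Prime 2) := ⟨Nat.prime_two⟩
  have := res_charP h.hM
  obtain ⟨ρ, hρ, ho, hne⟩ := h1
  obtain ⟨j, hj⟩ := exists_sub he hX
  rw [hF.autGroup_eq he hj, H91.mem_autInducedBy_iff] at hρ
  obtain ⟨g, hg, h2⟩ := hρ
  have h3 := oddAut_efn (h.pgp.to_le hX) ρ ho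
  have h4 : ∀ v ∈ X.subgroupOf P, (pf P (H91.efn ρ) v : G) = g * v * g⁻¹ := fun v hv => by
    rw [coe_pf (hX (h3.mem _ hv)), H91.efn_of_mem _ (mem_subgroupOf.1 hv), h2]
  refine ⟨_, fun v hv => hc ⟨v.2, mem_Ce.2 fun q hq => congrArg Subtype.val (hv ⟨q, hX hq⟩ hq)⟩,
    oddAut_pf hX h3, ?_, ⟨g, hg.1.1, h4⟩, fun v hv => ?_⟩
  · by_contra! h5
    refine hne (MulEquiv.ext fun x => Subtype.ext ?_)
    rw [h2, ← h4 ⟨x, hX x.2⟩ x.2, h5 _ x.2]; rfl
  · rw [h4 v hv]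
    exact fz_of_sub h (hs j hj) (by rw [mem_No_iff_cjS.1 hg.1.2, mem_stab.1 hg.2]; exact hs j hj) hv

theorem nilp_of_la (h : Ctx M 2 B P e) (hb : Blk N N f) (hm : MaxPair 2 N N f P e)
    (hs : ∀ X j, P ⊓ Ce X ≤ X → Sub 2 N X j P e → Sub 2 ⊤ X j P e)
    (H : ∀ X φ, ¬ LA P N e X φ) : Nilp 2 N f := by
  have : Fact (Nat.Prime 2) := ⟨Nat.prime_two⟩
  have := res_charP h.hM
  have he := hm.bpair.pair
  obtain ⟨F, hF⟩ := exists_isBFS (T := N) Subgroup.le_normalizer he hm.bpair.le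
  have h1 := le_of_ess h.pgp (hF.saturated le_rfl le_normalizer hb hm (good h.hM))
    (E := innerFusionSystem P) fun X hc _ h1 => by
      have h2 := H91.centric_centralizerIn_le hc
      obtain ⟨φ, h3⟩ := la_of_ess h he hF hc.1 h2 (fun j => hs X j h2) h1
      exact (H _ φ h3).elim
  exact (hF.nilp_iff (good h.hM) hb hm).2 fun Q => H91.Hom_eq_iff_M.2 fun φ =>
    ⟨H91.le_iff_M.1 h1 Q φ, H91.le_iff_M.1 (H91.inner_le F) Q φ⟩

theorem Lc_nilp (h : Ctx M 2 B P e) (L : Lc 2 P e R f N) (hR : R ≤ Ce P)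
    (H : ∀ X φ, ¬ LA P N e X φ) : Nilp 2 N f :=
  nilp_of_la h (L.blk h) (L.maxPair h) (fun _ _ h1 h2 => (L.sub_iff h
    ((le_inf L.sub.le (hR.trans (Ce_anti h2.le))).trans h1)).1 h2) H

theorem rank_of_la (h : Ctx M 2 B P e) (H : ∀ X φ, ¬ LA P ⊤ e X φ) : blockRank 2 B = 1 :=
  h.rank_of_nilp (nilp_of_la h (blk_eB h.hB) h.hm (fun _ _ _ h => h) H)

/-- An element outside all subgroups with an automorphism of odd order is only fused inside `P`. -/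
theorem isConj_of_fz (h : Ctx M 2 B P e) {u v : P}
    (H : ∀ X φ, LA P ⊤ e X φ → ∀ a ∈ X, ¬ IsConj u a) (h1 : Fz 2 P e u v) : IsConj u v := by
  have : Fact (Nat.Prime 2) := ⟨Nat.prime_two⟩
  have := res_charP h.hM
  obtain ⟨F, hF⟩ := exists_isBFS (T := ⊤) top_le_No_top h.pair le_top
  obtain ⟨g, hg, h2⟩ := h1
  have h3 : F.IsConjElt u v := H91.isConjElt_iff.2 ⟨fun a => g * a * g⁻¹,
    (hF.M_iff h.pair (h.blk_spec u.2).2).2 ⟨g, mem_top g, fun _ _ => rfl, by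
      rwa [cjS_zpowers]⟩, h2⟩
  obtain ⟨_, h4⟩ := inv_of_ess h.pgp (hF.saturated le_rfl top_le_No_top (blk_eB h.hB) h.hm
    (good h.hM)) (fun a => ∃ ha : a ∈ P, IsConj u ⟨a, ha⟩)
    (fun s hs a ha ⟨_, h4⟩ => ⟨mul_mem (mul_mem hs ha) (inv_mem hs),
      h4.trans (isConj_iff.2 ⟨⟨s, hs⟩, rfl⟩)⟩)
    (fun X hc _ h4 α _ a ha ⟨_, h5⟩ => by
      obtain ⟨φ, h6⟩ := la_of_ess h h.pair hF hc.1 (H91.centric_centralizerIn_le hc)
        (fun _ h => h) h4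
      exact (H _ φ h6 _ ha h5).elim) h3 ⟨u.2, IsConj.refl _⟩
  exact h4

/-- Burnside's lemma: central elements are not fused when `P` has no automorphism of odd order. -/
theorem eq_of_fz_central (h : Ctx M 2 B P e) (H : ∀ φ, ¬ LA P ⊤ e ⊤ φ) {u z : P}
    (hu : (u : G) ∈ Ce P) (hz : (z : G) ∈ Ce P) (h1 : Fz 2 P e u z) : u = z := by
  have : Fact (Nat.Prime 2) := ⟨Nat.prime_two⟩
  have := res_charP h.hM
  obtain ⟨g, j, h2, h3, h4⟩ := ext_central h u.2 hz h1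
  rw [inf_eq_left.2 (le_Ce_comm.1 (zpowers_le.2 hu))] at h3 h4
  obtain ⟨h5, h6⟩ := h4.eq_of_card_le h.pair (card_cjS _ _).ge
  rw [h3.eq_of_eq h.pair] at h6
  obtain ⟨F, hF⟩ := exists_isBFS (T := ⊤) top_le_No_top h.pair le_top
  have h7 := aut_le_of_not_ess h.pgp (hF.saturated le_rfl top_le_No_top (blk_eB h.hB) h.hm
    (good h.hM)) (H91.isFullyNormalized_top F) fun h7 => by
      obtain ⟨φ, h8⟩ := la_of_ess h h.pair hF le_rfl inf_le_left (fun _ h => h) h7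
      exact H φ (by simpa using h8)
  rw [hF.autGroup_eq h.pair (Sub.refl P e)] at h7
  have h10 : H91.cjAut P g (mem_No_iff_cjS.2 h5) ∈ autInducedBy (⊤ ⊓ No P ⊓ stab e) P :=
    H91.mem_autInducedBy_iff.2 ⟨g, ⟨⟨mem_top g, mem_No_iff_cjS.2 h5⟩, h6⟩, fun _ => rfl⟩
  obtain ⟨s, hs, h8⟩ := H91.mem_autInducedBy_iff.1 (h7 h10)
  have h9 := h8 u
  rw [H91.coe_cjAut_apply, h2, mem_Ce.1 hu s hs, mul_inv_cancel_right] at h9
  exact Subtype.ext h9.symm

end Cfsg.Agent.H35
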