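import Cfsg.Agent.H35.SbLM

/-! Finite `2`-groups with a cyclic subgroup of index at most four. -/

set_option autoImplicit false
set_option linter.unusedSectionVars false

open Subgroup Function

namespace Cfsg.Agent.H35

open Cfsg.Agent.H42

variable {D : Type*} [Group D] [Finite D] {K : Type*} [Group K] {c u v g t : D} {f : D →* K}

theorem mem_of_orderOf_dvd (hu : u ∈ zpowers c) (hv : v ∈ zpowers c)
    (h : orderOf u ∣ orderOf v) : u ∈ zpowers v := by
  obtain ⟨d, hd⟩ := orderOf_dvd_of_mem_zpowers hv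
  rw [mul_comm] at hd
  rw [eq_zpowers_pow_of_card hd (zpowers_le.2 hv) (Nat.card_zpowers v)]
  exact mem_zpowers_pow_of_pow_eq_one (orderOf_pos v).ne' hd hu (orderOf_dvd_iff_pow_eq_one.1 h)

theorem index_le_of_lt {C N : Subgroup D} (hC : C.index ≤ 4) (h : C < N) : N.index ≤ 2 := by
  have h1 := relIndex_mul_index h.le
  have h2 := mt relIndex_eq_one.1 h.not_ge
  have h3 := C.index_ne_zero_of_finite
  rcases h4 : C.relIndex N with _ | _ | k
  · rw [h4] at h1; omega
  · exact absurd h4 h2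
  · rw [h4] at h1; nlinarith

theorem index_two_of_lt {C N : Subgroup D} (hC : C.index = 4) (h : C < N) (hN : N ≠ ⊤) :
    N.index = 2 ∧ C.relIndex N = 2 := by
  have h1 := relIndex_mul_index h.le
  have h2 := index_le_of_lt hC.le h
  have h3 := mt index_eq_one.1 hN
  have h4 := N.index_ne_zero_of_finite
  obtain h5 : N.index = 2 := by omega
  rw [h5] at h1
  omega

theorem mc_of_index (h : (zpowers c).index ≤ 2) : IsMetacyclic D := by
  have : Fact (Nat.Prime 2) := ⟨Nat.prime_two⟩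
  have h1 := (zpowers c).index_ne_zero_of_finite
  have h2 : (zpowers c).index = 1 ∨ (zpowers c).index = 2 := by omega
  have := h2.elim normal_of_index_eq_one normal_of_index_eq_two
  exact ⟨_, this, inferInstance, isCyclic_of_card_dvd_prime (p := 2) (by
    rw [← index_eq_card]; rcases h2 with h2 | h2 <;> simp [h2])⟩

theorem sm_of_index (hf : Surjective f) (h : (zpowers g ⊔ f.ker).index ≤ 2) : Sm K :=
  have := Finite.of_surjective f hf
  .inl (mc_of_index (c := f g) (by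
    rwa [← MonoidHom.map_zpowers, index_map, f.range_eq_top_of_surjective hf, index_top, mul_one]))

theorem mc_map (hf : Surjective f) (h : IsMetacyclic D) : IsMetacyclic K := by
  obtain ⟨N, _, h1, h2⟩ := h
  have := Normal.map inferInstance (H := N) f hf
  exact ⟨N.map f, this, isCyclic_of_surjective _ (f.subgroupMap_surjective N),
    isCyclic_of_surjective _ (QuotientGroup.map_surjective_of_surjective N _ f
      (QuotientGroup.mk_surjective.comp hf) (le_comap_map f N))⟩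

theorem cent_of_index {M : Subgroup D} (hM : M.index = 2) (ht : t ∉ M) (h1 : t * v = v * t)
    (h2 : ∀ g ∈ M, g * v = v * g) (g : D) : g * v = v * g := by
  by_cases hg : g ∈ M
  · exact h2 g hg
  · have h3 := h2 _ ((mul_mem_iff_of_index_two hM).2 (iff_of_false hg ht))
    rw [mul_assoc, h1, ← mul_assoc, ← mul_assoc] at h3
    exact mul_right_cancel h3

theorem comm_of_relIndex {M : Subgroup D} (hM : (zpowers c).relIndex M = 2) {a : D} (ha : a ∈ M)
    (ha' : a ∉ zpowers c) {L : Type*} [Group L] {φ : D →* L} {w : L} (h1 : φ c * w = w * φ c)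
    (h2 : φ a * w = w * φ a) (hg : g ∈ M) : φ g * w = w * φ g := by
  have h3 : ∀ g ∈ zpowers c, Commute (φ g) w := by
    rintro _ ⟨k, rfl⟩
    exact map_zpow φ c k ▸ (show Commute (φ c) w from h1).zpow_left k
  by_cases hg' : g ∈ zpowers c
  · exact h3 g hg'
  · simpa using ((h3 _ (mul_inv_mem_of_relIndex_two hM hg ha hg' ha')).mul_left
      (show Commute (φ a) w from h2)).eq

variable (hD : IsPGroup 2 D)
include hD

theorem mem_or_mem (hu : u ∈ zpowers c) (hv : v ∈ zpowers c) :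
    u ∈ zpowers v ∨ v ∈ zpowers u := by
  have : Fact (Nat.Prime 2) := ⟨Nat.prime_two⟩
  obtain ⟨i, hi⟩ := IsPGroup.iff_orderOf.1 hD u
  obtain ⟨j, hj⟩ := IsPGroup.iff_orderOf.1 hD v
  exact (le_total i j).imp (fun h => mem_of_orderOf_dvd hu hv (hi ▸ hj ▸ pow_dvd_pow 2 h))
    fun h => mem_of_orderOf_dvd hv hu (hi ▸ hj ▸ pow_dvd_pow 2 h)

theorem sq_or_gen (hv : v ∈ zpowers c) : v ∈ zpowers (c * c) ∨ c ∈ zpowers v := by
  have : Fact (Nat.Prime 2) := ⟨Nat.prime_two⟩
  obtain ⟨i, hi⟩ := IsPGroup.iff_orderOf.1 hD c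
  obtain ⟨k, rfl⟩ := mem_zpowers_iff.1 hv
  obtain ⟨j, rfl | rfl⟩ := Int.even_or_odd' k
  · exact .inl ⟨j, by rw [zpow_mul, zpow_two]⟩
  · exact .inr (mem_of_odd_zpow_mem hi (mem_zpowers _))

theorem invol_eq (hu : u ∈ zpowers c) (hv : v ∈ zpowers c) (h1 : u * u = 1) (h2 : v * v = 1)
    (h3 : u ≠ 1) (h4 : v ≠ 1) : u = v :=
  (mem_or_mem hD hu hv).elim (fun h => ((mem_zpowers_of_mul_self h2).1 h).resolve_left h3)
    fun h => (((mem_zpowers_of_mul_self h1).1 h).resolve_left h4).symm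

theorem central_of_sq (hn : (zpowers c).Normal) (hv : v ∈ zpowers c) (h : v * v = 1) (g : D) :
    g * v = v * g := by
  by_cases h1 : v = 1
  · simp [h1]
  exact mul_inv_eq_iff_eq_mul.1 (invol_eq hD (hn.conj_mem v hv g) hv (by rw [conj_mul, h]; simp) h
    (mt conj_eq_one_iff.1 h1) h1)

theorem sm_of_dy {y s : D} (hi : (zpowers c).index = 4) (hc : c * c ≠ 1) (yy : y * y = 1)
    (ynm : y ∉ zpowers c) (xy : c * y = y * c) (sy : s * y = y * s) (ss : s * s = 1)
    (snm : s ∉ zpowers c ⊔ zpowers y) (cj : s * c * s⁻¹ = c⁻¹ ∨ s * c * s⁻¹ = c⁻¹ * y) : Sm D := by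
  have : Fact (Nat.Prime 2) := ⟨Nat.prime_two⟩
  obtain ⟨k, hk⟩ := IsPGroup.iff_orderOf.1 hD c
  rw [← sq, Ne, ← orderOf_dvd_iff_pow_eq_one, hk] at hc
  rcases k with _ | _ | k
  · simp at hc
  · simp at hc
  refine .inr ⟨c, y, s, 2 ^ k, by rw [hk]; ring, ?_, ⟨k, rfl⟩, yy, ynm, xy, sy, ss, snm, cj⟩
  rw [← (zpowers c).card_mul_index, hi, Nat.card_zpowers, hk]; ring

theorem sm_of_sq (hi : (zpowers c).index = 4) (hc : c * c = 1) (hg : g * g ≠ 1) : Sm D := by
  have : Fact (Nat.Prime 2) := ⟨Nat.prime_two⟩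
  obtain ⟨k, hk⟩ := IsPGroup.iff_orderOf.1 hD g
  rw [← sq, Ne, ← orderOf_dvd_iff_pow_eq_one, hk] at hg
  have h1 := Nat.le_of_dvd two_pos (orderOf_dvd_of_pow_eq_one (sq c ▸ hc))
  have h2 := (zpowers c).card_mul_index.trans (zpowers g).card_mul_index.symm
  rw [hi, Nat.card_zpowers, Nat.card_zpowers, hk] at h2
  rcases k with _ | _ | k
  · simp at hg
  · simp at hg
  refine .inl (mc_of_index (c := g) ?_)
  rw [pow_succ, pow_succ] at h2
  nlinarith [Nat.one_le_two_pow (n := k)]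

variable (hi : (zpowers c).index = 4) (hZ : ∀ v, (∀ g, g * v = v * g) → v ∈ zpowers c)
include hi hZ

theorem central_of_sq_central (h : ∀ g a : D, a * (g * g) = g * g * a) (g : D) : g * c = c * g := by
  by_contra ht
  have h1 : ∀ a b : D, a * b * a⁻¹ * b⁻¹ ∈ center D := fun a b => by
    rw [show a * b * a⁻¹ * b⁻¹ = a * b * (a * b) * (b⁻¹ * a⁻¹ * b * (b⁻¹ * a⁻¹ * b)) * (b⁻¹ * b⁻¹) by
      group]
    exact mul_mem (mul_mem (mem_center_iff.2 (h _)) (mem_center_iff.2 (h _))) (mem_center_iff.2 (h _))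
  have h2 : ∀ a b : D, a * b * a⁻¹ * b⁻¹ * (a * b * a⁻¹ * b⁻¹) = 1 := fun a b => by
    calc _ = a * b * a⁻¹ * (b⁻¹ * (a * b * a⁻¹ * b⁻¹)) := by group
      _ = a * (b * b) * a⁻¹ * (b * b)⁻¹ := by rw [mem_center_iff.1 (h1 a b)]; group
      _ = 1 := by rw [h]; group
  have h3 : ∀ a b a' b' : D, a * b ≠ b * a → a' * b' ≠ b' * a' →
      a * b * a⁻¹ * b⁻¹ = a' * b' * a'⁻¹ * b'⁻¹ := fun a b a' b' h3 h4 =>
    invol_eq hD (hZ _ (mem_center_iff.1 (h1 _ _))) (hZ _ (mem_center_iff.1 (h1 _ _))) (h2 _ _)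
      (h2 _ _) (mt commutatorElement_eq_one_iff_mul_comm.1 h3)
      (mt commutatorElement_eq_one_iff_mul_comm.1 h4)
  have h4 : (centralizer {c}).index = 2 := index_eq_two_iff_exists_notMem_and.2
    ⟨g, mt mem_centralizer_singleton_iff.1 ht, fun b => or_iff_not_imp_right.2 fun hb => by
      rw [mem_centralizer_singleton_iff] at hb ⊢
      calc _ = b * (g * c * g⁻¹ * c⁻¹) * c * g := by group
        _ = g * c * g⁻¹ * c⁻¹ * (b * c * b⁻¹ * c⁻¹) * (c * (b * g)) := by
          rw [mem_center_iff.1 (h1 g c)]; group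
        _ = _ := by rw [h3 b c g c hb ht, h2, one_mul]⟩
  have h5 : zpowers c ≤ centralizer {c} := zpowers_le.2 (mem_centralizer_singleton_iff.2 rfl)
  obtain ⟨a, ha, ha'⟩ := SetLike.exists_of_lt (h5.lt_of_ne fun h6 => by rw [← h6] at h4; omega)
  have h6 := (index_two_of_lt hi (h5.lt_of_ne fun h6 => ha' (h6 ▸ ha))
    fun h6 => by simp [h6] at h4).2
  have h7 : ∀ a ∈ centralizer {c}, a ∉ zpowers c → g * a ≠ a * g := fun a ha ha' h7 =>
    ha' (hZ a (cent_of_index h4 (mt mem_centralizer_singleton_iff.1 ht) h7 fun b hb =>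
      comm_of_relIndex h6 ha ha' (φ := MonoidHom.id D) (mem_centralizer_singleton_iff.1 ha).symm
        rfl hb))
  refine h7 (a * c) (mul_mem ha (h5 (mem_zpowers c))) (mt (mul_mem_cancel_right
    (mem_zpowers c)).1 ha') ?_
  calc _ = g * a * g⁻¹ * a⁻¹ * (a * (g * c * g⁻¹ * c⁻¹)) * c * g := by group
    _ = _ := by rw [mem_center_iff.1 (h1 g c), h3 g a g c (h7 a ha ha') ht, ← mul_assoc, h2, one_mul]

variable (hf : Surjective f) (hk : ∀ v, f v = 1 ↔ ∀ g, g * v = v * g)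
include hf hk

omit hD hi hf in
theorem mem_map_of_ker {N : Subgroup D} (hN : zpowers c ≤ N) : f g ∈ N.map f ↔ g ∈ N := by
  rw [← mem_comap, comap_map_eq_self fun v hv => hN (hZ v ((hk v).1 hv))]

omit hD in
theorem index_img : (zpowers (f c)).index = 4 := by
  rw [← MonoidHom.map_zpowers, index_map_eq _ hf fun v hv => hZ v ((hk v).1 hv), hi]

theorem sm_of_out {y s : D} {N : Subgroup D} (hN : zpowers c ≤ N) (hy : y ∈ N) (hs : s ∉ N)
    (hc : f c * f c ≠ 1) (yy : f y * f y = 1)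
    (ynm : y ∉ zpowers c) (xy : f c * f y = f y * f c) (sy : f s * f y = f y * f s)
    (ss : f s * f s = 1)
    (cj : f s * f c * (f s)⁻¹ = (f c)⁻¹ ∨ f s * f c * (f s)⁻¹ = (f c)⁻¹ * f y) : Sm K :=
  have := Finite.of_surjective f hf
  sm_of_dy (hD.of_surjective f hf) (index_img hi hZ hf hk) hc yy (by
    rwa [← MonoidHom.map_zpowers, mem_map_of_ker hZ hk le_rfl]) xy sy ss (fun h => hs
      ((mem_map_of_ker hZ hk hN).1 (sup_le (zpowers_le.2 (mem_map_of_mem f (hN (mem_zpowers c))))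
        (zpowers_le.2 (mem_map_of_mem f hy)) h))) cj

theorem sm_of_normal (hn : (zpowers c).Normal) (hsq : ∀ g : D, g * g ∈ zpowers c)
    (hc : f c * f c ≠ 1) : Sm K := by
  have h0 : ∀ g : D, g * c * g⁻¹ ∈ zpowers c := hn.conj_mem c (mem_zpowers c)
  have h1 : ∀ g : D, c * (g * c * g⁻¹) = g * c * g⁻¹ * c := fun g =>
    comm_of_mem_zpowers (mem_zpowers c) (h0 g)
  have h2 : ∀ g ∉ centralizer {c * c}, g * (c * c) * g⁻¹ = (c * c)⁻¹ := fun g hg => by
    have h2 : g * (g * c * g⁻¹) * g⁻¹ = c := by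
      rw [show g * (g * c * g⁻¹) * g⁻¹ = g * g * c * (g * g)⁻¹ by group,
        comm_of_mem_zpowers (hsq g) (mem_zpowers c), mul_inv_cancel_right]
    have h3 : c * c = c * (g * c * g⁻¹) * (c⁻¹ * (g * c * g⁻¹))⁻¹ := by group
    rcases mem_or_mem hD (mul_mem (mem_zpowers c) (h0 g)) (mul_mem (inv_mem (mem_zpowers c)) (h0 g))
      with h4 | h4
    · obtain ⟨k, hk⟩ := h3 ▸ mul_mem h4 (inv_mem (mem_zpowers _))
      rw [← hk, ← conj_zpow, ← inv_zpow, ← conj_mul, h2, ← conj_inv, mul_inv_rev _ (g * c * g⁻¹),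
        inv_inv]
    · refine absurd (zpowers_le.2 ?_ (h3 ▸ mul_mem (mem_zpowers _) (inv_mem h4)))
        (mt mem_centralizer_singleton_iff.1 (mt (fun h => mem_centralizer_singleton_iff.2 h.symm) hg))
      rw [mem_centralizer_singleton_iff, eq_comm, ← mul_inv_eq_iff_eq_mul, ← conj_mul, h2, h1]
  obtain ⟨b, hb⟩ : ∃ b, b ∉ centralizer {c * c} := not_forall.1 fun h =>
    hc (map_mul f c c ▸ (hk _).2 fun g => mem_centralizer_singleton_iff.1 (h g))
  have h3 : (centralizer {c * c}).index = 2 := index_eq_two_iff_exists_notMem_and.2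
    ⟨b, hb, fun g => or_iff_not_imp_right.2 fun hg => by
      rw [mem_centralizer_singleton_iff, ← mul_inv_eq_iff_eq_mul,
        show g * b * (c * c) * (g * b)⁻¹ = g * (b * (c * c) * b⁻¹) * g⁻¹ by group, h2 b hb,
        ← conj_inv, h2 g hg, inv_inv]⟩
  have h4 : zpowers c ≤ centralizer {c * c} :=
    zpowers_le.2 (mem_centralizer_singleton_iff.2 (mul_assoc _ _ _).symm)
  obtain ⟨a, ha, ha'⟩ := SetLike.exists_of_lt (h4.lt_of_ne fun h6 => by rw [← h6] at h3; omega)
  rcases sq_or_gen hD (hsq a) with ⟨k, h5⟩ | h5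
  swap
  · exact sm_of_index hf (g := a) (index_le_of_lt hi.le ((lt_of_le_of_ne (zpowers_le.2
      (zpowers_le.2 (mul_mem (mem_zpowers a) (mem_zpowers a)) h5)) fun h6 =>
        ha' (h6 ▸ mem_zpowers a)).trans_le le_sup_left))
  have h6 : Commute (f a) (f c) := by
    have h6 := (hk _).2 (central_of_sq hD hn (mul_mem (h0 a) (inv_mem (mem_zpowers c))) (by
      rw [mul_assoc, ← mul_assoc c⁻¹, ← mul_assoc _ _ c⁻¹, inv_mul_eq_iff_eq_mul.2
        (show a * c * a⁻¹ = c * (a * c * a⁻¹ * c⁻¹) by rw [← mul_assoc, h1, mul_inv_cancel_right]),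
        ← mul_assoc, conj_mul, mem_centralizer_singleton_iff.1 ha]
      group))
    simpa [mul_inv_eq_iff_eq_mul, commute_iff_eq] using h6
  have h7 : ∀ g ∉ centralizer {c * c}, f g * f g = 1 := fun g hg => by
    rcases sq_or_gen hD (hsq g) with ⟨j, h7⟩ | ⟨j, h7⟩
    · refine map_mul f g g ▸ (hk _).2 (central_of_sq hD hn (hsq g) (mul_eq_one_iff_eq_inv.2 ?_))
      calc _ = g * (g * g) * g⁻¹ := by group
        _ = _ := by rw [← h7, ← conj_zpow, h2 g hg, inv_zpow]
    · exact absurd (mem_centralizer_singleton_iff.2 (h7 ▸ ((((Commute.refl g).mul_right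
        (Commute.refl g)).zpow_right j).mul_right (((Commute.refl g).mul_right
        (Commute.refl g)).zpow_right j)).eq)) hg
  have h8 : ∀ g ∈ centralizer {c * c}, f b * f g * (f b)⁻¹ = (f g)⁻¹ := fun g hg => by
    have h8 := h7 (b * g) (mt (mul_mem_cancel_right hg).1 hb)
    rw [map_mul, ← mul_assoc, mul_eq_one_iff_eq_inv] at h8
    rw [← h8, inv_eq_of_mul_eq_one_right (h7 b hb)]
  have h9 := mul_mem ha (h4 (zpow_mem_zpowers c (-k)))
  have h10 : f (a * c ^ (-k)) * f (a * c ^ (-k)) = 1 := by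
    rw [map_mul, map_zpow, (h6.zpow_right _).symm.mul_mul_mul_comm, ← map_mul, ← h5,
      ← (Commute.refl _).mul_zpow, map_zpow, map_mul, zpow_neg, mul_inv_cancel]
  refine sm_of_out hD hi hZ hf hk h4 h9 hb hc h10
    (mt (mul_mem_cancel_right (zpow_mem_zpowers _ _)).1 ha') ?_ ?_ (h7 b hb)
    (.inl (h8 c (h4 (mem_zpowers c))))
  · rw [map_mul, map_zpow]
    exact (h6.symm.mul_right ((Commute.refl _).zpow_right _)).eq
  · rw [← mul_inv_eq_iff_eq_mul, h8 _ h9, inv_eq_of_mul_eq_one_right h10]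

theorem sm_of_not_normal (hn : ¬ (zpowers c).Normal) (hc : f c * f c ≠ 1) : Sm K := by
  have : Fact (Nat.Prime 2) := ⟨Nat.prime_two⟩
  have := hD.isNilpotent
  have hc' : c * c ≠ 1 := fun h => hc (by rw [← map_mul, h, map_one])
  have h0 := Group.normalizerCondition_of_isNilpotent (G := D) (zpowers c)
    (lt_top_iff_ne_top.2 fun h => by simp [h] at hi)
  obtain ⟨h1, h2⟩ := index_two_of_lt hi h0 (mt normalizer_eq_top_iff.1 hn)
  have h3 : ∀ (u g : D), g * u * g⁻¹ ∈ zpowers u → g ∈ normalizer (zpowers u : Set D) :=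
    fun u g h => mem_normalizer_fintype fun _ ⟨k, hk⟩ => by
      rw [← hk, ← conj_zpow]; exact zpow_mem h k
  generalize hN : normalizer (zpowers c : Set D) = N at h0 h1 h2
  have h4 := normal_of_index_eq_two h1
  have hcN := h0.le (mem_zpowers c)
  have h5 : ∀ t ∉ N, t * c * t⁻¹ ∉ zpowers c := fun t ht h => ht (hN ▸ h3 c t h)
  obtain ⟨t, ht, ht2⟩ : ∃ t ∉ N, t * t ∈ zpowers c := by
    obtain ⟨t, ht, -⟩ := index_eq_two_iff_exists_notMem_and.1 h1
    by_cases h5' : t * t ∈ zpowers c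
    · exact ⟨t, ht, h5'⟩
    refine ⟨c * t, mt (mul_mem_cancel_left hcN).1 ht, ?_⟩
    rw [show c * t * (c * t) = c * (t * c * t⁻¹ * (t * t)) by group]
    exact mul_mem (mem_zpowers c) ((mul_mem_iff_of_relIndex_two h2 (h4.conj_mem c hcN t)
      (mul_self_mem_of_index_two h1 t)).2 (iff_of_false (h5 t ht) h5'))
  have hd := h4.conj_mem c hcN t
  have hd' := h5 t ht
  have h6 : t * (t * c * t⁻¹) * t⁻¹ = c := by
    rw [show t * (t * c * t⁻¹) * t⁻¹ = t * t * c * (t * t)⁻¹ by group,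
      comm_of_mem_zpowers ht2 (mem_zpowers c), mul_inv_cancel_right]
  have h7 := (mul_mem_iff_of_relIndex_two h2 hd hd).2 Iff.rfl
  have h8 : t * (c * c) * t⁻¹ ∈ zpowers (c * c) := by
    rw [← conj_mul]
    refine (sq_or_gen hD h7).resolve_right fun h8 => hd' ?_
    rw [eq_of_le_of_card_ge (zpowers_le.2 (zpowers_le.2 (mul_mem (mem_zpowers _) (mem_zpowers _))
      h8)) (by rw [Nat.card_zpowers, Nat.card_zpowers, ← MulAut.conj_apply, MulEquiv.orderOf_eq])]
    exact mem_zpowers _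
  have h9 : t * c * t⁻¹ * (c * c) = c * c * (t * c * t⁻¹) := by
    obtain ⟨k, hk⟩ := (mem_normalizer_iff''.1 (h3 _ _ h8) _).1 (mem_zpowers _)
    have h9 : c * c = (t * c * t⁻¹ * (t * c * t⁻¹)) ^ k := by
      rw [conj_mul, conj_zpow, show (c * c) ^ k = _ from hk]; group
    rw [h9]
    exact (((Commute.refl _).mul_right (Commute.refl _)).zpow_right k).eq
  have hU : ∀ v ∈ zpowers (c * c), ∀ g ∈ N, g * v = v * g := by
    rintro _ ⟨k, rfl⟩ g hg
    exact ((show Commute g (c * c) from comm_of_relIndex h2 hd hd' (φ := MonoidHom.id D)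
      (mul_assoc _ _ _).symm h9 hg).zpow_right k).eq
  have h10 : ∀ v ∈ zpowers (c * c), t * v = v * t → f v = 1 := fun v hv h10 =>
    (hk v).2 (cent_of_index h1 ht h10 (hU v hv))
  have h15 : (zpowers (c * c)).Normal := ⟨fun v hv g => by
    by_cases hg : g ∈ N
    · rwa [hU v hv g hg, mul_inv_cancel_right]
    · have h15 := (mem_normalizer_iff.1 (h3 _ _ h8) _).1 hv
      rwa [show g * v * g⁻¹ = g * t⁻¹ * (t * v * t⁻¹) * (g * t⁻¹)⁻¹ by group, hU _ h15 _
        ((mul_mem_iff_of_index_two h1).2 (iff_of_false hg (mt inv_mem_iff.1 ht))),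
        mul_inv_cancel_right]⟩
  have h11 : Commute (f (t * c * t⁻¹)) (f c) := by
    generalize t * c * t⁻¹ = d at *
    have h11 : d * c * d⁻¹ ∈ zpowers c := (mem_normalizer_iff.1 (hN ▸ hd) _).1 (mem_zpowers c)
    have h12 := mul_mem h11 (inv_mem (mem_zpowers c))
    have h13 : d * c * d⁻¹ * c⁻¹ * (d * c * d⁻¹ * c⁻¹) = 1 := by
      rw [mul_assoc, ← mul_assoc c⁻¹, comm_of_mem_zpowers (inv_mem (mem_zpowers c)) h11,
        mul_assoc _ c⁻¹, ← mul_assoc, conj_mul, h9]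
      group
    have h14 := (sq_or_gen hD h12).resolve_right fun h => hc' (by
      rcases (mem_zpowers_of_mul_self h13).1 h with h | h <;> rw [h]
      exacts [mul_one 1, h ▸ h13])
    simpa [mul_inv_eq_iff_eq_mul, commute_iff_eq] using (hk _).2 (central_of_sq hD h15 h14 h13)
  have h12 : f t * f c * (f t)⁻¹ = f (t * c * t⁻¹) := by simp
  have h13 : f t * f (t * c * t⁻¹) * (f t)⁻¹ = f c := by
    rw [← map_mul, ← map_inv, ← map_mul, h6]
  refine sm_of_out hD hi hZ hf hk h0.le (mul_mem hcN hd) ht hc ?_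
    (mt (mul_mem_cancel_left (mem_zpowers c)).1 hd') ?_ ?_ ?_
    (.inr (by rw [h12, map_mul f c, inv_mul_cancel_left]))
  · rw [map_mul, h11.mul_mul_mul_comm, ← map_mul, ← map_mul, ← map_mul, conj_mul]
    refine h10 _ (mul_mem (mem_zpowers _) h8) (mul_inv_eq_iff_eq_mul.1 ?_)
    rw [← conj_mul, show t * (t * (c * c) * t⁻¹) * t⁻¹ = c * c by
      rw [← conj_mul (a := c), ← conj_mul (a := t * c * t⁻¹), h6]]
    exact comm_of_mem_zpowers h8 (mem_zpowers _)
  · rw [map_mul]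
    exact ((Commute.refl _).mul_right h11.symm).eq
  · rw [← mul_inv_eq_iff_eq_mul, map_mul f c, ← conj_mul, h12, h13, h11.eq]
  · refine map_mul f t t ▸ h10 _ ((sq_or_gen hD ht2).resolve_right fun ⟨k, h13⟩ => hd' ?_)
      (mul_assoc _ _ _).symm
    rw [mul_inv_eq_iff_eq_mul.2 (h13 ▸ (((Commute.refl t).mul_right (Commute.refl t)).zpow_right k).eq :
      t * c = c * t)]
    exact mem_zpowers c

omit hi hZ hf hk in
theorem exists_sm (hc : (zpowers c).index ≤ 4) : ∃ z : D, (∀ g, g * z = z * g) ∧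
    ∀ (K : Type*) [Group K] (f : D →* K), Surjective f → f.ker = zpowers z → Sm K := by
  have : Fact (Nat.Prime 2) := ⟨Nat.prime_two⟩
  by_cases hZ : ∀ v, (∀ g, g * v = v * g) → v ∈ zpowers c
  swap
  · push Not at hZ
    obtain ⟨z, h1, h2⟩ := hZ
    exact ⟨z, h1, fun K _ f hf hk => sm_of_index hf (g := c) (index_le_of_lt hc
      (le_sup_left.lt_of_ne fun h => h2 (h ▸ mem_sup_right (hk ▸ mem_zpowers z))))⟩
  obtain ⟨z, hz⟩ := (Subgroup.isCyclic_iff_exists_zpowers_eq_top (center D)).1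
    (isCyclic_of_le (fun v hv => hZ v (mem_center_iff.1 hv)))
  refine ⟨z, mem_center_iff.1 (hz ▸ mem_zpowers z), fun K _ f hf hk => ?_⟩
  have hk' : ∀ v, f v = 1 ↔ ∀ g, g * v = v * g := fun v => by
    rw [← MonoidHom.mem_ker, hk, hz, mem_center_iff]
  by_cases h1 : (zpowers c).index ≤ 2
  · exact .inl (mc_map hf (mc_of_index h1))
  have hi : (zpowers c).index = 4 := by
    obtain ⟨k, hk⟩ := hD.index (zpowers c)
    rcases k with _ | _ | _ | k <;> omega
  by_cases h2 : f c * f c = 1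
  · have := Finite.of_surjective f hf
    by_cases h3 : ∀ g : K, g * g = 1
    swap
    · obtain ⟨g, hg⟩ := not_forall.1 h3
      exact sm_of_sq (hD.of_surjective f hf) (index_img hi hZ hf hk') h2 hg
    obtain ⟨g, hg⟩ : ∃ g, g ∉ zpowers c := not_forall.1 fun h => by
      simp [(eq_top_iff' _).2 h] at hi
    exact sm_of_index hf (g := g) (index_le_of_lt hc (lt_of_le_of_ne (zpowers_le.2 (mem_sup_right
      ((hk' c).2 (central_of_sq_central hD hi hZ fun g => (hk' _).1 (map_mul f g g ▸ h3 _)))))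
        fun h => hg (h ▸ mem_sup_left (mem_zpowers g))))
  by_cases hn : (zpowers c).Normal
  swap
  · exact sm_of_not_normal hD hi hZ hf hk' hn h2
  by_cases h3 : ∀ g : D, g * g ∈ zpowers c
  · exact sm_of_normal hD hi hZ hf hk' hn h3 h2
  obtain ⟨g, hg⟩ := not_forall.1 h3
  refine .inl (mc_map hf ⟨_, hn, inferInstance, isCyclic_of_orderOf_eq_card (g : D ⧸ zpowers c) ?_⟩)
  have h4 := orderOf_dvd_natCard (g : D ⧸ zpowers c)
  rw [← QuotientGroup.eq_one_iff, QuotientGroup.mk_mul, ← sq, ← orderOf_dvd_iff_pow_eq_one] at hg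
  rw [← index_eq_card, hi] at h4 ⊢
  obtain ⟨_ | _ | _ | k, h5, h6⟩ := (Nat.dvd_prime_pow (m := 2) Nat.prime_two).1 h4 <;>
    simp_all

end Cfsg.Agent.H35
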