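import Cfsg.Agent.H35.SbAlp
import Cfsg.Agent.H35.SbDY
import Cfsg.Agent.H86.TameB

/-! Fusion in blocks whose defect group is a central extension of a dihedral group. -/

set_option autoImplicit false
set_option linter.unusedSectionVars false

open MonoidAlgebra Subgroup ComplexConjugate

namespace Cfsg.Agent.H35

open Cfsg Cfsg.Agent.H87 Cfsg.Agent.H32 Cfsg.Agent.H86 Cfsg.Agent.H42

variable {M : Ideal AlgInt} [hMm : M.IsMaximal] {G : Type*} [Group G] [Finite G] {p : ℕ}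
  {B : Set (IrrCharacter G)} {P N : Subgroup G} {e : (Res M)[G]}

theorem exists_gl' (h : Ctx M p B P e) (z w : P) (hz : (z : G) ∈ Ce P)
    (hw : P ≤ No (zpowers (w : G))) (hzw : (z : G) ∈ zpowers (w : G))
    (hN : No (zpowers (w : G)) ≤ Ce (zpowers (z : G)))
    (hn : ∀ f N, Lc p P e (zpowers (w : G)) f N → Nilp p N f) :
    ∃ δ, Gl M p B P e {u | (w : G) ∈ zpowers (u : G)} z δ := by
  have : Fact p.Prime := ⟨h.hM.1⟩
  have := res_charP h.hM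
  have := Fintype.ofFinite G
  obtain ⟨f, N, L⟩ := h.exists_lc (zpowers_le.2 w.2) hw
  have hnil : Nilp p N f := hn f N L
  have hι := emb_subgroupOf (show N ≤ Ce (zpowers (z : G)) from fun g hg => hN ((L.mem g).1 hg).1)
  generalize N.subgroupOf (Ce (zpowers (z : G))) = H at hι
  have := Fintype.ofFinite (Ce (zpowers (z : G)))
  have := Fintype.ofFinite H
  obtain ⟨c, hc, hf⟩ := L.exists_blk h hι
  have h' := L.ctx h hι hc hf
  have hn' := (isNilpotentBlock_iff_nilp h.hM hc).1 ((hι.isNilpotentBlock_iff h.hM hc).2 (hf ▸ hnil))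
  obtain ⟨ζ, hζ, h0⟩ := H86.exists_height_zero (p := p) (isPBlock_nonempty hc)
  have hr := hι.coe_res (L.le h)
  generalize hι.res (L.le h) = r at hr
  have hb := (h.blk_spec z.2).1
  obtain ⟨s, hs0, hs, hs2⟩ := h'.exists_fun_of_nilp hn' hζ h0 (r z) (mem_Ce.2 fun q hq => hι.inj (by
    rw [map_mul, map_mul, hr, mem_Ce.1 hz _ hq]))
  have hs1 := H34.indFun_mem _ _ (isClassFunction_blockPart _ _) (blockPart_mem_locRing hb
    (H6.indFun_isClassFunction _ _) (H34.indFun_mem _ H hs0 hs))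
  have key : ∀ χ : IrrCharacter G, ∃ τ, IsGeneralizedCharacter P τ ∧
      (∀ u : P, (w : G) ∈ zpowers (u : G) → D p P e u (χ : G → ℂ) =
        D p _ (pb ((Ce (zpowers (z : G))).subtype.comp H.subtype) e) (r u : H) (ζ : _ → ℂ) * τ u) ∧
      τ z⁻¹ = (p : ℂ) ^ blockDefect p B * classInner
        (indFun _ (blockPart (H86.blk p P e z) (indFun H s))) χ := fun χ => by
    obtain ⟨τ, hτ, h3, h4⟩ := hs2 _ (H53.virt_res (virt_blockPart (H86.blk p P e z)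
      (H53.virt_res (H53.virt_of_irr χ.2) _)) H)
    refine ⟨_, H53.virt_comp hτ r.toMonoidHom, fun u hu => ?_, ?_⟩
    · refine Eq.trans ?_ (h3 (r u))
      conv_lhs => rw [← hr u]
      exact L.D_part h hι hc hf (irr_cf χ.2) hzw (r u).2
        (by rw [← hr u] at hu; exact zpowers_le.2 hu)
    · rw [H6.classInner_indFun_left _ _ (irr_cf χ.2), classInner_blockPart,
        H6.classInner_indFun_left _ _ (isClassFunction_blockPart _ _), ← Nat.cast_pow, ← h.card_eq,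
        Nat.card_congr r.toEquiv, map_inv]
      exact h4
  obtain ⟨ξ, hξ, hξ0⟩ := H86.exists_height_zero (p := p) (isPBlock_nonempty h.hB)
  refine ⟨fun u => D p _ (pb ((Ce (zpowers (z : G))).subtype.comp H.subtype) e) (r u : H) ζ, h,
    fun u hu => L.r1 h hnil u.2 (zpowers_le.2 hu), fun u hu => L.pow_df h hnil u (zpowers_le.2 hu),
    fun u hu v hv => L.fz_iff h hnil u v (zpowers_le.2 hu) (zpowers_le.2 hv),
    fun u => h'.D_mul_conj_of_nilp hn' hζ h0 _, fun u v huv => D_fz h' (irr_cf ζ.2) (r u).2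
      ((h'.fz_iff_of_nilp hn' _ _).2 (r.toMonoidHom.map_isConj huv)), fun χ hχ => ?_⟩
  obtain ⟨τ, h1, h2, h3⟩ := key χ
  obtain ⟨τ', h4, h5, h6⟩ := key ξ
  refine ⟨τ, h1, h2, h3 ▸ ci_div_mem h.hM (H6.indFun_isClassFunction _ _) hs1 hχ, ?_⟩
  rw [h3, ci_div_mem_iff h.hM h.hB (H6.indFun_isClassFunction _ _) hs1 hχ hξ, ← h6, hξ0, pow_zero,
    div_one, mem_locMax_iff_of_sub_mem (virt_sub_one_mem h.hM h.pgp h4 _),
    ← mem_locMax_iff_of_sub_mem (virt_sub_one_mem h.hM h.pgp h4 w)]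
  refine fun h7 => ((L.r1 h hnil w.2 le_rfl).not_mem_iff h w.2 hξ).2 hξ0 ?_
  rw [h5 w (mem_zpowers _)]
  exact mul_mem_locMax_left (mem_locRing_of_isIntegral ((r1_of_nilp' h' (r w).2 hn').isIntegral h'
    (r w).2 (H53.virt_of_irr ζ.2))) h7

variable {x y s u v : P} {m : ℕ} {X : Subgroup P} {φ : P → P}

theorem coe_mem_zpowers' : (u : G) ∈ zpowers (v : G) ↔ u ∈ zpowers v :=
  exists_congr fun k => by simp only [← SubgroupClass.coe_zpow, Subtype.val_inj]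

variable (e) in
/-- The block of the subsection of the central involution `w` is nilpotent. -/
def NW (w : P) : Prop := ∀ f N, Lc 2 P e (zpowers (w : G)) f N → Nilp 2 N f

theorem mem_Ce_of_comm' (h : ∀ g, g * u = u * g) : (u : G) ∈ Ce P :=
  mem_Ce.2 fun q hq => congrArg Subtype.val (h ⟨q, hq⟩)

theorem exists_gl_w (h : Ctx M 2 B P e) {w : P} (hw : ∀ g, g * w = w * g) (h2 : w * w = 1)
    (hn : NW e w) : ∃ δ, Gl M 2 B P e {u | (w : G) ∈ zpowers (u : G)} w δ := by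
  have h1 := mem_Ce_of_comm' hw
  refine exists_gl' h w w h1 ((le_Ce_comm.1 (zpowers_le.2 h1)).trans (Ce_le_No _))
    (mem_zpowers _) (fun g hg => (isCent_zpowers _ g).2 ?_) hn
  rcases (mem_zpowers_of_mul_self (congrArg Subtype.val h2)).1
    (conj_mem_of_No hg (mem_zpowers _)) with h3 | h3
  · rw [conj_eq_one_iff.1 h3, mul_one, one_mul]
  · exact mul_inv_eq_iff_eq_mul.1 h3

namespace DY

variable (T : DY x y s m) (h : Ctx M 2 B P e)
include T h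

theorem fz_O (hu : u ∈ oO x y m) (hv : v ∈ oO x y m) (h1 : Fz 2 P e u v) : u = v :=
  eq_of_fz_central h (fun _ L => L.ne.elim fun g hg => hg.2 (T.fix_top L.odd g))
    (mem_Ce_of_comm' (T.O_comm hu)) (mem_Ce_of_comm' (T.O_comm hv)) h1

omit h in
theorem O_le_of_la (L : LA P N e X φ) : oO x y m ≤ X :=
  fun _ hu => L.cen _ fun g _ => T.O_comm hu g

theorem la_out (L : LA P N e X φ) :
    ∃ u ∈ oO x y m, φ u ∉ aA x y ∧ φ u * φ u = 1 ∧ ∀ a ∈ X, a * φ u = φ u * a :=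
  T.exists_out (T.O_le_of_la L) L.odd L.ne fun u hu h1 =>
    (T.fz_O h hu h1 (L.fz u (T.O_le_of_la L hu))).symm

theorem nw_or : NW e (x ^ (2 * m)) ∨ ∃ a ∉ aA x y, a * a = 1 ∧ ∃ u ∈ oO x y m, Fz 2 P e u a ∧
    Fz 2 P e (u * x ^ (2 * m) : P) (a * x ^ (2 * m) : P) := by
  refine or_iff_not_imp_right.2 fun h1 f N L => Lc_nilp h L
    (zpowers_le.2 (mem_Ce_of_comm' T.w_comm)) fun X φ L' => h1 ?_
  obtain ⟨u, hu, h2, h3, -⟩ := T.la_out h L'
  have h4 := T.O_le_of_la L'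
  obtain ⟨g, hg, h5⟩ := L'.ind
  have h6 : φ (x ^ (2 * m)) = x ^ (2 * m) := T.fz_O h w_memO ?_ (L'.fz _ (h4 w_memO)) |>.symm
  · refine ⟨_, h2, h3, u, hu, L'.fz u (h4 hu), ?_⟩
    have h7 := L'.fz _ (mul_mem (h4 hu) (h4 w_memO))
    rwa [L'.odd.mul _ (h4 hu) _ (h4 w_memO), h6] at h7
  · refine mem_sup_left (coe_mem_zpowers'.1 ?_)
    rw [h5 _ (h4 w_memO)]
    exact conj_mem_of_No ((L.mem g).1 hg).1 (mem_zpowers _)

theorem nw_of (hm : Even m ∨ s * x * s⁻¹ = x⁻¹) : NW e (x ^ (2 * m)) := by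
  refine (T.nw_or h).resolve_right fun ⟨a, ha, _, u, hu, h1, h2⟩ => T.w_ne ?_
  have h3 := T.fz_O h hu (mul_mem hu w_memO) (h.fz_trans (h.fz_trans h1
    (h.fz_of_isConj (T.isConj_mul_w hm ha))) (h.fz_symm (u * _).2 h2))
  exact left_eq_mul.1 h3

theorem exists_nw : ∃ x y s : P, DY x y s m ∧ NW e (x ^ (2 * m)) := by
  by_cases hm : Even m ∨ s * x * s⁻¹ = x⁻¹
  · exact ⟨x, y, s, T, T.nw_of h hm⟩
  obtain rfl : m = 1 := by
    obtain ⟨_ | k, rfl⟩ := T.pow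
    exacts [rfl, absurd (.inl (Nat.even_pow.2 ⟨even_two, k.succ_ne_zero⟩)) hm]
  have h1 := T.cj.resolve_left fun h1 => hm (.inr h1)
  obtain ⟨T', h2⟩ := T.swap h1
  rcases T.nw_or h with h3 | ⟨a, ha, h3, u, hu, h4, h5⟩
  · exact ⟨x, y, s, T, h3⟩
  rcases T'.nw_or h with h6 | ⟨b, hb, h6, v, hv, h7, h8⟩
  · exact ⟨_, _, _, T', h6⟩
  exfalso
  have h9 : b ∉ aA x y := fun h9 => hb (O_le (m := 1) (by
    have := T.mem_O_of_sq h9 h6
    rwa [oO, h2, sup_comm]))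
  rw [h2] at h8
  obtain ⟨r, hr, h10, h11⟩ : ∃ r ∉ aA x y, r * r = 1 ∧ Fz 2 P e (x ^ (2 * 1) : P) r := by
    rcases T'.mem_O.1 hv with rfl | rfl | rfl | rfl
    · exact absurd (h7.one_iff.1 rfl ▸ one_mem _) h9
    · rw [h2, T.yy] at h8
      exact absurd (h8.one_iff.1 rfl ▸ one_mem _) (mul_nm h9 y_mem)
    · exact ⟨b, h9, h6, h7⟩
    · rw [h2, ← T.y_comm, mul_assoc, T.yy, mul_one] at h8
      exact ⟨_, mul_nm h9 y_mem, by rw [T.mul_y_sq, h6], h8⟩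
  rcases T.isConj_or h1 ha hr h3 h10 with h12 | h12
  · obtain rfl := T.fz_O h hu w_memO (h.fz_trans (h.fz_trans h4 (h.fz_of_isConj h12))
      (h.fz_symm (x ^ _).2 h11))
    rw [T.ww] at h5
    exact mul_nm ha (pow_mem x_mem _) (h5.one_iff.1 rfl ▸ one_mem _)
  · have h13 := T.fz_O h (mul_mem hu w_memO) w_memO (h.fz_trans (h.fz_trans h5
      (h.fz_of_isConj h12)) (h.fz_symm (x ^ _).2 h11))
    rw [mul_eq_right.1 h13] at h4
    exact ha (h4.one_iff.1 rfl ▸ one_mem _)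

theorem not_fz (hu : u ∉ aA x y) (H : ∀ o ∈ oO x y m, ∀ v ∈ aA x y, ¬ Fz 2 P e v (u * o : P)) :
    ¬ Fz 2 P e u (u * y : P) := fun h1 => T.not_isConj hu (isConj_of_fz h (fun X φ L a ha h2 => by
  obtain ⟨v, hv, h3, -, h4⟩ := T.la_out h L
  obtain ⟨c, rfl⟩ := _root_.isConj_iff.1 h2
  have h5 := (T.cent_out h3 (h4 _ ha)).resolve_left fun h5 => hu (T.cj_mem_iff.1 (O_le h5))
  refine H _ (inv_mem h5) v (O_le hv) (h.fz_trans (L.fz v (T.O_le_of_la L hv))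
    (h.fz_of_isConj (_root_.isConj_iff.2 ⟨c⁻¹, ?_⟩)))
  have h6 : φ v = (c * u * c⁻¹ * (φ v)⁻¹)⁻¹ * (c * u * c⁻¹) := by group
  have h7 := T.O_comm (inv_mem h5)
  generalize (c * u * c⁻¹ * (φ v)⁻¹)⁻¹ = o at h6 h7 ⊢
  rw [h6, ← mul_assoc, h7, h7]
  group) h1)

theorem exists_shift (h1 : s * x * s⁻¹ = x⁻¹) (hu : u ∉ aA x y) {o v : P} (ho : o ∈ oO x y m)
    (hv : v ∈ aA x y) (h2 : Fz 2 P e v (u * o : P)) : ∃ b ∈ zpowers y,
      Fz 2 P e (x ^ (2 * m) : P) (u * b : P) ∧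
        (Fz 2 P e y (u * b * y : P) ∨ Fz 2 P e (x ^ (2 * m) * y : P) (u * b * y : P)) := by
  have hw : ∀ a ∉ aA x y, Fz 2 P e a (a * x ^ (2 * m) : P) := fun a ha =>
    h.fz_of_isConj (T.isConj_mul_w (.inr h1) ha)
  suffices H : ∃ b ∈ oO x y m, Fz 2 P e (x ^ (2 * m) : P) (u * b : P) ∧
      (Fz 2 P e y (u * b * y : P) ∨ Fz 2 P e (x ^ (2 * m) * y : P) (u * b * y : P)) by
    obtain ⟨b, hb, h3, h4⟩ := H
    by_cases h5 : b ∈ zpowers y
    · exact ⟨b, h5, h3, h4⟩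
    have h6 := hw _ (mul_nm (mul_nm hu (O_le hb)) y_mem)
    rw [mul_assoc (u * b) y, T.w_comm y, ← mul_assoc (u * b), mul_assoc u b (x ^ (2 * m))] at h6
    refine ⟨b * x ^ (2 * m), ?_, mul_assoc u _ _ ▸ h.fz_trans h3 (hw _ (mul_nm hu (O_le hb))),
      h4.imp (h.fz_trans · h6) (h.fz_trans · h6)⟩
    rcases T.mem_O.1 hb with rfl | rfl | rfl | rfl
    · exact absurd (one_mem _) h5
    · rw [T.ww]; exact one_mem _
    · exact absurd (mem_zpowers _) h5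
    · rw [T.w_comm, ← mul_assoc, T.ww, one_mul]; exact mem_zpowers _
  have h3 := mul_nm hu (O_le ho)
  have h4 := T.mem_O_of_sq hv (h2.sq_iff.2 (T.sq_eq_one h1 h3))
  have h5 := h.fz_symm v.2 h2
  obtain ⟨φ, h6, h7, h8⟩ := exists_ext h (mem_Ce_of_comm' (T.O_comm h4)) h5
  have hc : ∀ a ∈ oO x y m, a * (u * o) = u * o * a := fun a ha => (T.O_comm ha _).symm
  have h9 : ∀ a ∈ oO x y m, φ a ∈ aA x y → φ a = a := fun a ha h9 => (T.fz_O h ha
    (T.mem_O_of_sq h9 ((h7 a (hc a ha)).sq_iff.1 (T.O_sq ha))) (h7 a (hc a ha))).symm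
  have h10 : ∀ a ∈ oO x y m, φ a = a → Fz 2 P e (v * a : P) (u * o * a : P) := fun a ha h10 => by
    have h11 := h7 (u * o * a) (by rw [mul_assoc, hc a ha])
    rw [(h8 _ _ rfl (hc a ha)).1, h6, h10] at h11
    exact h.fz_symm (u * o * a).2 h11
  have h11 : φ (x ^ (2 * m)) ∉ aA x y := fun h11 => T.w_ne (left_eq_mul.1 (T.fz_O h h4
    (mul_mem h4 w_memO) (h.fz_trans (h.fz_trans h2 (hw _ h3))
      (h.fz_symm (v * _).2 (h10 _ w_memO (h9 _ w_memO h11))))))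
  obtain ⟨a, ha, h12, h13⟩ : ∃ a, (a = y ∨ a = x ^ (2 * m) * y) ∧ a ∈ oO x y m ∧ φ a = a := by
    by_cases h12 : φ y ∈ aA x y
    · exact ⟨y, .inl rfl, y_memO, h9 _ y_memO h12⟩
    · refine ⟨_, .inr rfl, mul_mem w_memO y_memO, h9 _ (mul_mem w_memO y_memO) ?_⟩
      rw [(h8 _ _ (hc _ w_memO) (hc _ y_memO)).1]
      exact T.mul_mem_iff.2 (iff_of_false h11 h12)
  have h14 := h10 a h12 h13
  have h15 : v ≠ a := fun h15 =>
    h3 ((h8 _ _ rfl (hc a h12)).2 (h6.trans (h15.trans h13.symm)) ▸ O_le h12)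
  have h16 : v ≠ 1 := fun h16 => h3 (h2.one_iff.1 h16 ▸ one_mem _)
  have h17 : x ^ (2 * m) * (x ^ (2 * m) * y) = y := by rw [← mul_assoc, T.ww, one_mul]
  have h18 : x ^ (2 * m) * y * y = x ^ (2 * m) := by rw [mul_assoc, T.yy, mul_one]
  have h19 : ∀ c : P, c * (x ^ (2 * m) * y) * x ^ (2 * m) = c * y := fun c => by
    rw [mul_assoc, T.w_comm, h17]
  rcases T.mem_O.1 h4 with rfl | rfl | rfl | rfl <;> rcases ha with rfl | rfl
  any_goals exact absurd rfl h15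
  any_goals exact absurd rfl h16
  · exact ⟨o, ho, h2, .inr h14⟩
  · rw [h17] at h14
    exact ⟨o, ho, h2, .inl (h19 _ ▸ h.fz_trans h14 (hw _ (mul_nm h3 (O_le h12))))⟩
  · rw [← T.y_comm, h18, mul_assoc] at h14
    refine ⟨_, mul_mem ho h12, h14, .inl ?_⟩
    rw [← mul_assoc u, mul_assoc _ _ v, h18]
    exact h.fz_trans h2 (hw _ h3)
  · rw [h18, mul_assoc] at h14
    refine ⟨_, mul_mem ho h12, h14, .inr ?_⟩
    rwa [← mul_assoc u, mul_assoc _ a, T.yy, mul_one]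

end DY

end Cfsg.Agent.H35
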