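import Cfsg.Agent.H35.SbFus
import Cfsg.Agent.H35.SbFour
import Cfsg.Agent.H6.PrincInd

/-! The number of characters of a block whose defect group is a central extension of a dihedral
group. -/

set_option autoImplicit false
set_option linter.unusedSectionVars false

open MonoidAlgebra Subgroup ComplexConjugate

namespace Cfsg.Agent.H35

open Cfsg Cfsg.Agent.H87 Cfsg.Agent.H32 Cfsg.Agent.H86 Cfsg.Agent.H42

section Grp

variable {H : Type*} [Group H] [Fintype H] {x y s u : H} {m : ℕ}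

variable (x y m) in
open Classical in
/-- The non-central elements of the abelian maximal subgroup. -/
noncomputable def sA : Finset H := Finset.univ.filter fun u => u ∈ aA x y ∧ u ∉ oO x y m

theorem mem_sA : u ∈ sA x y m ↔ u ∈ aA x y ∧ u ∉ oO x y m := by simp [sA]

variable (x y s m) in
/-- A test function. -/
structure TG (φ : H → ℂ) : Prop where
  inv : ∀ u ∈ aA x y, φ (s * u * s⁻¹) = φ u
  norm : ∑ u ∈ sA x y m, φ u * conj (φ u) = 16 * m

namespace DY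

variable (h : DY x y s m)
include h

theorem sum_A {N : Type*} [AddCommMonoid N] [Fintype (aA x y)] (F : H → N) :
    ∑ u : aA x y, F u = F 1 + F (x ^ (2 * m)) + F y + F (x ^ (2 * m) * y) +
      ∑ u ∈ sA x y m, F u := by
  classical
  have h1 : ∑ u ∈ {1, x ^ (2 * m), y, x ^ (2 * m) * y}, F u =
      F 1 + F (x ^ (2 * m)) + F y + F (x ^ (2 * m) * y) := by
    rw [Finset.sum_insert, Finset.sum_insert, Finset.sum_pair, add_assoc, add_assoc]
    · simpa using h.w_ne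
    · simp [h.w_ne_y, h.y_ne]
    · simp [h.w_ne.symm, h.y_ne.symm, h.wy_ne.symm]
  rw [← h1, ← Finset.sum_union (by simp [Finset.disjoint_left, mem_sA, h.mem_O]),
    ← Finset.sum_subtype _ fun u => ?_]
  simp only [Finset.mem_union, Finset.mem_insert, Finset.mem_singleton, mem_sA, ← h.mem_O]
  exact ⟨fun h1 => h1.elim (fun h2 => O_le h2) fun h2 => h2.1, fun h1 => by tauto⟩

theorem card_sA : (sA x y m).card + 4 = 8 * m := by
  have := Fintype.ofFinite (aA x y)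
  have h1 := h.sum_A fun _ => 1
  simp only [Finset.sum_const, Finset.card_univ, ← Nat.card_eq_fintype_card, h.card_A, smul_eq_mul,
    mul_one] at h1
  omega

theorem cj_O (hu : u ∈ oO x y m) (g : H) : g * u * g⁻¹ = u := by
  rw [h.O_comm hu, mul_inv_cancel_right]

theorem cj_mem_sA (hu : u ∈ sA x y m) : s * u * s⁻¹ ∈ sA x y m :=
  mem_sA.2 ⟨h.cj_mem_iff.2 (mem_sA.1 hu).1, fun h1 => (mem_sA.1 hu).2 (by
    have h2 := h.cj_O h1 s⁻¹
    rwa [← h2, show s⁻¹ * (s * u * s⁻¹) * s⁻¹⁻¹ = u by group] at h1)⟩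

theorem cj_ne (hu : u ∈ sA x y m) : s * u * s⁻¹ ≠ u := fun h1 =>
  (mem_sA.1 hu).2 (h.mem_O_of_fix (mem_sA.1 hu).1 h1)

theorem exists_num : ∃ φ ψ, TG x y s m φ ∧ TG x y s m ψ ∧ ∀ τ, IsGeneralizedCharacter H τ →
    ∃ n t a b : ℤ, Num2 m n t (a ^ 2 + b ^ 2) ∧ ∑ u ∈ sA x y m, ‖τ u‖ ^ 2 = n ∧
      τ (x ^ (2 * m)) = t ∧ ∑ u ∈ sA x y m, τ u * φ u = 8 * m * a ∧
        ∑ u ∈ sA x y m, τ u * ψ u = 8 * m * b := by
  classical
  have := Fintype.ofFinite (aA x y)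
  obtain ⟨γ, v, l₁, μ, h1, h2, h3⟩ := h.exists_fd
  obtain ⟨φ, ψ, hφ, hψ, h4⟩ := h1.exists_num
  have h5 : ∀ {N : Type} [AddCommMonoid N] (F : H → N), ∑ u : aA x y, F u =
      F 1 + F v + F y + F (v * y) + ∑ u ∈ sA x y m, F u := fun F => by
    rw [h.sum_A]
    rcases h3 with h3 | h3 <;> rw [h3]
    rw [mul_assoc, h.yy, mul_one]; abel
  have h6 : ∀ φ, TF γ v ⟨y, y_mem⟩ m φ → ∃ φ', TG x y s m φ' ∧ ∀ τ : H → ℂ,
      ∑ u ∈ sA x y m, τ u * φ' u = ∑ u : aA x y, τ u * φ u := fun φ hφ => by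
    have h6 := fun u => Subtype.val_injective.extend_apply φ 0 u
    generalize Function.extend Subtype.val φ 0 = φ' at h6
    have h7 : ∀ τ : H → ℂ, ∑ u ∈ sA x y m, τ u * φ' u = ∑ u : aA x y, τ u * φ u := fun τ => by
      have h7 := h5 fun u => τ u * φ' u
      have h8 := h6 1
      have h9 := h6 ⟨y, y_mem⟩
      have h10 := h6 (v * ⟨y, y_mem⟩)
      rw [coe_one] at h8
      rw [coe_mul] at h10
      simp only [h6, h8, h9, h10, hφ.z.1, hφ.z.2.1, hφ.z.2.2.1, hφ.z.2.2.2, mul_zero, zero_add] at h7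
      exact h7.symm
    refine ⟨φ', ⟨fun u hu => ?_, ?_⟩, h7⟩
    · rw [← h2 ⟨u, hu⟩, h6, hφ.inv, ← h6]
    · simp only [mul_comm (φ' _), h7, h6, ← hφ.norm, mul_comm (φ _)]
  obtain ⟨φ', h7, h8⟩ := h6 φ hφ
  obtain ⟨ψ', h9, h10⟩ := h6 ψ hψ
  refine ⟨φ', ψ', h7, h9, fun τ hτ => ?_⟩
  obtain ⟨n, t, t', a, b, k1, k2, k3, k4, k5, k6, k7⟩ := h4 (fun u => τ u) (H53.virt_res hτ _)
    fun u => by rw [h2]; exact H53.virt_classFun hτ _ _
  rw [h5 fun u => ‖τ u‖ ^ 2] at k3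
  rw [← h8] at k6
  rw [← h10] at k7
  have k8 := add_left_cancel k3
  rcases h3 with h3 | h3
  · exact ⟨n, t, a, b, k1, k8, h3 ▸ k4, k6, k7⟩
  · refine ⟨n, t', a, b, k2, k8, ?_, k6, k7⟩
    rw [← k5, coe_mul, h3, mul_assoc, h.yy, mul_one]

end DY

end Grp

variable {M : Ideal AlgInt} [hMm : M.IsMaximal] {G : Type*} [Group G] [Finite G]
  {B : Set (IrrCharacter G)} {P : Subgroup G} {e : (Res M)[G]} [Fintype P] {x y s u v : P} {m : ℕ}
  {S : Set P} {δ : P → ℂ}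

variable (e x y) in
open Classical in
/-- The elements of `P` which are not fused into the abelian maximal subgroup. -/
noncomputable def rsA : Finset P :=
  Finset.univ.filter fun u : P => ¬ ∃ v ∈ aA x y, Fz 2 P e v u

theorem mem_rsA : u ∈ rsA e x y ↔ ∀ v ∈ aA x y, ¬ Fz 2 P e v u := by simp [rsA]

namespace DY

variable (T : DY x y s m) (L : Gl M 2 B P e S (x ^ (2 * m)) δ) (hS : ∀ u ∈ sA x y m, u ∈ S)
include T L hS

theorem fz_A (hu : u ∈ aA x y) (hv : v ∈ aA x y) :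
    Fz 2 P e u v ↔ v = u ∨ v = s * u * s⁻¹ := by
  refine ⟨fun h1 => ?_, fun h1 => L.ctx.fz_of_isConj ((T.isConj_iff hu).2 h1)⟩
  by_cases h2 : u * u = 1
  · exact .inl (T.fz_O L.ctx (T.mem_O_of_sq hu h2) (T.mem_O_of_sq hv (h1.sq_iff.1 h2)) h1).symm
  · exact (T.isConj_iff hu).1 ((L.fz u (hS u (mem_sA.2 ⟨hu, mt T.O_sq h2⟩)) v
      (hS v (mem_sA.2 ⟨hv, mt T.O_sq (mt h1.sq_iff.2 h2)⟩))).1 h1)

theorem sum_wt {F : P → ℂ} (hF : ∀ u v : P, Fz 2 P e u v → F v = F u) :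
    ∑ u : P, H86.wt 2 P e u * F u = F 1 + F (x ^ (2 * m)) + F y + F (x ^ (2 * m) * y) +
      2⁻¹ * ∑ u ∈ sA x y m, F u + ∑ u ∈ rsA e x y, H86.wt 2 P e u * F u := by
  classical
  have h1 := L.ctx.sum_sat hF (Finset.univ.filter (· ∈ aA x y))
    (fun u => if u ∈ oO x y m then 1 else 2⁻¹) fun v hv => by
      rw [Finset.mem_filter_univ] at hv
      rw [show Finset.filter _ _ = {v, s * v * s⁻¹} from Finset.ext fun w => by
        simp only [Finset.mem_filter, Finset.mem_univ, true_and, Finset.mem_insert,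
          Finset.mem_singleton]
        exact ⟨fun h => (T.fz_A L hS hv h.1).1 h.2, fun h =>
          have := h.elim (· ▸ hv) (· ▸ T.cj_mem_iff.2 hv); ⟨this, (T.fz_A L hS hv this).2 h⟩⟩]
      by_cases h2 : v ∈ oO x y m
      · rw [T.cj_O h2, Finset.pair_eq_singleton, Finset.sum_singleton, if_pos h2]
      · have h3 := mem_sA.2 ⟨hv, h2⟩
        rw [Finset.sum_pair (T.cj_ne h3).symm, if_neg h2, if_neg (mem_sA.1 (T.cj_mem_sA h3)).2]
        norm_num
  have h2 : ∑ u ∈ sA x y m, (if u ∈ oO x y m then 1 else 2⁻¹) * F u =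
      2⁻¹ * ∑ u ∈ sA x y m, F u := by
    rw [Finset.mul_sum]
    exact Finset.sum_congr rfl fun u hu => by rw [if_neg (mem_sA.1 hu).2]
  rw [Finset.sum_subtype (p := (· ∈ aA x y)) (Finset.univ.filter (· ∈ aA x y)) (by simp),
    T.sum_A fun u => (if u ∈ oO x y m then 1 else 2⁻¹) * F u, if_pos (one_mem _),
    if_pos w_memO, if_pos y_memO, if_pos (mul_mem w_memO y_memO), h2] at h1
  simp only [one_mul] at h1
  rw [← h1, rsA, ← Finset.sum_filter_add_sum_filter_not _ fun u : P =>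
    ∃ v ∈ aA x y, Fz 2 P e v u]
  simp

theorem pow_df (hu : u ∈ sA x y m) : ((2 : ℕ) : ℂ) ^ H86.df 2 P e u = 8 * m := by
  rw [← Nat.cast_pow, L.df u (hS u hu), T.card_cent (mem_sA.1 hu).1 (mem_sA.1 hu).2]; simp

open Classical in
theorem sum_D (hu : u ∈ sA x y m) (hv : v ∈ aA x y) :
    ∑ β ∈ fs B, D 2 P e v β * conj (D 2 P e u β) =
      if v = u ∨ v = s * u * s⁻¹ then (8 * m : ℂ) else 0 := by
  rw [L.ctx.sum_D_mul_conj u.2 v.2 (L.r1 u (hS u hu)), T.pow_df L hS hu,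
    if_congr (T.fz_A L hS (mem_sA.1 hu).1 hv) rfl rfl]

theorem card_le (hw : x ^ (2 * m) ∈ S) : Nat.card B ≤ 4 * m + 6 := by
  classical
  have := Fintype.ofFinite G
  have h := L.ctx
  have hc : ∀ u ∈ oO x y m, ∃ A : IrrCharacter G → ℤ, ∀ χ ∈ B, 16 * m * cn 2 P e u χ χ = A χ ∧
      (2 ≤ blockHeight 2 B (χ : G → ℂ) → 8 ≤ A χ) := fun u hu => by
    obtain ⟨A, hA, hA'⟩ := h.exists_mat u.2 (mem_Ce_of_comm' (T.O_comm hu))
      (congrArg Subtype.val (T.O_sq hu))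
    rw [T.card, Nat.cast_mul, Nat.cast_ofNat] at hA'
    refine ⟨fun χ => A χ χ, fun χ hχ => ⟨hA' χ χ, fun h2 => le_trans ?_
      (hA.pow_le (mem_fs.2 hχ) (by omega))⟩⟩
    have := pow_le_pow_right₀ (one_le_two (α := ℤ)) h2
    omega
  obtain ⟨A₁, hA₁⟩ := hc 1 (one_mem _)
  obtain ⟨A₂, hA₂⟩ := hc y y_memO
  obtain ⟨A₃, hA₃⟩ := hc _ (mul_mem w_memO y_memO)
  obtain ⟨φ, ψ, hφ, hψ, hnum⟩ := T.exists_num
  choose! τ h1 h2 h3 h4 using L.virt
  choose! n t a b h5 h6 h7 h8 h8' using fun χ hχ => hnum _ (h1 χ hχ)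
  have hm : (m : ℂ) ≠ 0 := Nat.cast_ne_zero.2 T.pos.ne'
  have h9 : ∀ χ ∈ B, ∀ u ∈ S, ∀ v ∈ S, τ χ v * conj (τ χ u) =
      δ u * conj (δ v) * (D 2 P e v χ * conj (D 2 P e u χ)) := fun χ hχ u hu v hv => by
    rw [h2 χ hχ u hu, h2 χ hχ v hv, map_mul]
    linear_combination -τ χ v * conj (τ χ u) * (L.norm v + δ v * conj (δ v) * L.norm u)
  have h10 : ∀ χ ∈ B, (n χ : ℂ) = ∑ u ∈ sA x y m, D 2 P e u χ * conj (D 2 P e u χ) :=
    fun χ hχ => by
    rw [← Complex.ofReal_intCast, ← h6 χ hχ, Complex.ofReal_sum]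
    refine Finset.sum_congr rfl fun u hu => ?_
    rw [Complex.ofReal_pow, ← Complex.mul_conj', h9 χ hχ u (hS u hu) u (hS u hu), L.norm, one_mul]
  have hd : ((2 : ℕ) : ℂ) ^ H86.df 2 P e (x ^ (2 * m) : P) = 16 * m := by
    rw [h.df_of_central (x ^ (2 * m)).2 (mem_Ce_of_comm' T.w_comm), ← Nat.cast_pow, ← h.card_eq,
      T.card]
    simp
  have ht : ∀ χ ∈ B, D 2 P e (x ^ (2 * m) : P) χ * conj (D 2 P e (x ^ (2 * m) : P) χ) =
      (t χ : ℂ) ^ 2 := fun χ hχ => by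
    have h16 := h9 χ hχ _ hw _ hw
    rw [L.norm, one_mul, h7 χ hχ, map_intCast] at h16
    rw [← h16, sq]
  have h11 : ∀ χ ∈ B, A₁ χ + t χ ^ 2 + A₂ χ + A₃ χ ≤ 16 * m := fun χ hχ => by
    have h11 := T.sum_wt L hS (F := fun u => cn 2 P e u χ χ) fun u v h1 =>
      h.cn_fz (irr_cf χ.2) (irr_cf χ.2) u.2 h1
    rw [← h.ci_eq (irr_cf χ.2) (blockPart_irr_of_mem hχ) (irr_cf χ.2),
      H5.classInner_irr_self χ.2] at h11
    have h12 := (L.r1 _ hw).pow_mul_cn h (x ^ (2 * m)).2 (irr_cf χ.2) (irr_cf χ.2)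
    rw [hd, ht χ hχ] at h12
    have h13 : ((16 * m - (A₁ χ + t χ ^ 2 + A₂ χ + A₃ χ) : ℤ) : ℝ) =
        16 * m * (2⁻¹ * ∑ u ∈ sA x y m, ‖cn 2 P e u χ χ‖ +
          ∑ u ∈ rsA e x y, H86.wt 2 P e u * ‖cn 2 P e u χ χ‖) := by
      refine Complex.ofReal_injective ?_
      push_cast
      simp only [← cn_self_eq_norm]
      rw [← (hA₁ χ hχ).1, ← (hA₂ χ hχ).1, ← (hA₃ χ hχ).1, ← h12]
      linear_combination 16 * m * h11
    rw [← sub_nonneg]
    exact_mod_cast h13 ▸ mul_nonneg (by positivity) (add_nonneg (by positivity)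
      (Finset.sum_nonneg fun (u : P) _ => mul_nonneg (h.wt_pos u.2).le (norm_nonneg _)))
  have h12 : ∀ χ ∈ B, ¬ 2 ^ (blockHeight 2 B (χ : G → ℂ) + 1) ∣ t χ := fun χ hχ => by
    have h13 := h4 χ hχ
    rw [T.w_inv, h7 χ hχ] at h13
    exact mt (int_div_pow_mem_locMax_iff h.hM _ _).2 h13
  have h13 : ∀ (φ : P → ℂ) (a : IrrCharacter G → ℤ), TG x y s m φ →
      (∀ χ ∈ B, ∑ u ∈ sA x y m, τ χ u * φ u = 8 * m * a χ) → ∑ χ ∈ fs B, a χ ^ 2 = 4 :=
    fun φ a hφ ha => by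
    have h13 : ∀ u ∈ sA x y m, ∑ v ∈ sA x y m, ∑ χ ∈ fs B, τ χ v * φ v * conj (τ χ u * φ u) =
        16 * m * (φ u * conj (φ u)) := fun u hu => by
      rw [Finset.sum_congr rfl fun v hv => by
        rw [Finset.sum_congr rfl fun χ hχ => by
            rw [map_mul, mul_mul_mul_comm, h9 χ (mem_fs.1 hχ) u (hS u hu) v (hS v hv)],
          ← Finset.sum_mul, ← Finset.mul_sum, T.sum_D L hS hu (mem_sA.1 hv).1, mul_ite, mul_zero,
          ite_mul, zero_mul], ← Finset.sum_filter,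
        show Finset.filter _ _ = {u, s * u * s⁻¹} from Finset.ext fun w => by
          simp only [Finset.mem_filter, Finset.mem_insert, Finset.mem_singleton]
          exact and_iff_right_of_imp fun h => h.elim (· ▸ hu) (· ▸ T.cj_mem_sA hu),
        Finset.sum_pair (T.cj_ne hu).symm, L.inv u _ (_root_.isConj_iff.2 ⟨s, rfl⟩), L.norm,
        hφ.inv u (mem_sA.1 hu).1]
      ring
    refine Int.cast_injective (α := ℂ) (mul_left_cancel₀
      (pow_ne_zero 2 (mul_ne_zero (show (8 : ℂ) ≠ 0 by norm_num) hm))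
      (Eq.trans ?_ ((Finset.sum_congr rfl h13).trans ?_)))
    · rw [Int.cast_sum, Finset.mul_sum, Finset.sum_congr rfl fun u _ => Finset.sum_comm,
        Finset.sum_comm]
      refine Finset.sum_congr rfl fun χ hχ => ?_
      rw [Finset.sum_comm, ← Finset.sum_mul_sum, ← map_sum, ha χ (mem_fs.1 hχ)]
      simp only [map_mul, map_ofNat, map_natCast, map_intCast]
      push_cast; ring
    · rw [← Finset.mul_sum, hφ.norm]; push_cast; ring
  have h14 : ∑ χ ∈ fs B, n χ = (8 * m - 4) * (8 * m) := Int.cast_injective (α := ℂ) (by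
    rw [Int.cast_sum, Finset.sum_congr rfl fun χ hχ => h10 χ (mem_fs.1 hχ), Finset.sum_comm,
      Finset.sum_congr rfl fun u hu => by
        rw [T.sum_D L hS hu (mem_sA.1 hu).1, if_pos (.inl rfl)], Finset.sum_const, nsmul_eq_mul,
      show ((sA x y m).card : ℂ) = 8 * m - 4 by rw [eq_sub_iff_add_eq]; exact_mod_cast T.card_sA]
    push_cast; ring)
  have h15 : ∑ χ ∈ fs B, t χ ^ 2 = 16 * m := Int.cast_injective (α := ℂ) (by
    have h15 := h.sum_D_mul_conj (x ^ (2 * m)).2 (x ^ (2 * m)).2 (L.r1 _ hw)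
    rw [if_pos (h.fz_refl (x ^ (2 * m)).2), hd,
      Finset.sum_congr rfl fun χ hχ => ht χ (mem_fs.1 hχ)] at h15
    exact_mod_cast h15)
  have hm' : (0 : ℤ) < m := by exact_mod_cast T.pos
  have h16 := card_mul_le_sum (T := fs B) fun χ hχ => (h5 χ (mem_fs.1 hχ)).le hm' (by positivity)
    (fun h0 => h12 χ (mem_fs.1 hχ) (h0 ▸ dvd_zero _)) fun h0 => by
      have h16 : 2 ≤ blockHeight 2 B (χ : G → ℂ) := by
        by_contra! h16
        exact h12 χ (mem_fs.1 hχ) ((pow_dvd_pow 2 (show _ ≤ 2 by omega)).trans h0)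
      have := h11 χ (mem_fs.1 hχ)
      have := (hA₁ χ (mem_fs.1 hχ)).2 h16
      have := (hA₂ χ (mem_fs.1 hχ)).2 h16
      have := (hA₃ χ (mem_fs.1 hχ)).2 h16
      omega
  rw [Finset.sum_add_distrib, Finset.sum_add_distrib, ← Finset.mul_sum, Finset.sum_add_distrib,
    h13 φ a hφ h8, h13 ψ b hψ h8', h14, h15, card_fs] at h16
  by_contra! h17
  have h18 : (4 * m + 7 : ℤ) ≤ Nat.card B := by exact_mod_cast h17
  nlinarith

theorem sum_lb_le (hw : x ^ (2 * m) ∈ S) : (blockRank 2 B : ℝ) + lb 2 P e y +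
    lb 2 P e (x ^ (2 * m) * y : P) + ∑ u ∈ rsA e x y, H86.wt 2 P e u * lb 2 P e u ≤ 7 := by
  have h1 := T.sum_wt L hS (F := fun u => lb 2 P e u) fun u v h => by rw [L.ctx.lb_fz u.2 h]
  rw [← L.ctx.card_eq_sum, Finset.sum_congr rfl fun u hu => by
    rw [show lb 2 P e u = 1 from L.r1 u (hS u hu)], coe_one, L.ctx.lb_one, Finset.sum_const,
    show lb 2 P e (x ^ (2 * m) : P) = 1 from L.r1 _ hw, nsmul_eq_mul,
    show ((sA x y m).card : ℂ) = 8 * m - 4 by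
      rw [eq_sub_iff_add_eq]; exact_mod_cast T.card_sA] at h1
  have h2 : (Nat.card B : ℝ) ≤ 4 * m + 6 := by exact_mod_cast T.card_le L hS hw
  have h3 : (Nat.card B : ℝ) = blockRank 2 B + lb 2 P e y + lb 2 P e (x ^ (2 * m) * y : P) +
      ∑ u ∈ rsA e x y, H86.wt 2 P e u * lb 2 P e u + (4 * m - 1) := by
    refine Complex.ofReal_injective ?_
    push_cast at h1 ⊢
    linear_combination h1
  linarith

omit T hS in
theorem one_le_lb (u : P) : 1 ≤ lb 2 P e u :=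
  have := Fintype.ofFinite (Ce (zpowers (u : G)))
  one_le_blockRank Nat.prime_two (isPBlock_nonempty (L.ctx.blk_spec u.2).1)

theorem rank_le_of_out (hw : x ^ (2 * m) ∈ S) (hu : u ∉ aA x y)
    (H : ∀ o ∈ oO x y m, ∀ v ∈ aA x y, ¬ Fz 2 P e v (u * o : P)) : blockRank 2 B ≤ 3 := by
  classical
  have h := L.ctx
  have h1 := T.sum_lb_le L hS hw
  have h2 : ∀ o ∈ oO x y m, Finset.univ.filter (fun v : P => Fz 2 P e (u * o : P) v) ⊆ rsA e x y :=
    fun o ho v hv => mem_rsA.2 fun a ha h2 => H o ho a ha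
      (h.fz_trans h2 (h.fz_symm (u * o).2 (Finset.mem_filter.1 hv).2))
  have h3 := Finset.sum_le_sum_of_subset_of_nonneg (f := fun v : P => H86.wt 2 P e v)
    (Finset.union_subset (h2 1 (one_mem _)) (h2 y y_memO)) fun v _ _ => (h.wt_pos v.2).le
  rw [Finset.sum_union (Finset.disjoint_filter.2 fun v _ h3 h4 => T.not_fz h hu H
    (h.fz_trans (mul_one u ▸ h3) (h.fz_symm (u * y).2 h4))), h.sum_wt_fz (u * 1).2,
    h.sum_wt_fz (u * y).2] at h3
  have h4 : ∑ v ∈ rsA e x y, H86.wt 2 P e v ≤ ∑ v ∈ rsA e x y, H86.wt 2 P e v * lb 2 P e v :=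
    Finset.sum_le_sum fun v _ => le_mul_of_one_le_right (h.wt_pos v.2).le
      (Nat.one_le_cast.2 (one_le_lb L v))
  have h5 : (1 : ℝ) ≤ _ := Nat.one_le_cast.2 (one_le_lb L y)
  have h6 : (1 : ℝ) ≤ _ := Nat.one_le_cast.2 (one_le_lb L (x ^ (2 * m) * y))
  exact_mod_cast (show (blockRank 2 B : ℝ) ≤ 3 by linarith)

theorem rank_le_of_fz (hw : x ^ (2 * m) ∈ S) (h1 : s * x * s⁻¹ = x⁻¹)
    (h2 : ∀ u, u = s ∨ u = x * s → Fz 2 P e (x ^ (2 * m) : P) u ∧
      (Fz 2 P e y (u * y : P) ∨ Fz 2 P e (x ^ (2 * m) * y : P) (u * y : P))) :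
    blockRank 2 B ≤ 3 := by
  classical
  have := Fintype.ofFinite G
  have := Fintype.ofFinite (aA x y)
  have h := L.ctx
  obtain ⟨μ, hμ⟩ := H6.exists_sign_hom _ (T.index_D h1)
  have hwD : x ^ (2 * m) ∈ zpowers x ⊔ zpowers s := mem_sup_left (npow_mem_zpowers _ _)
  have h3 : ∀ u ∈ zpowers x ⊔ zpowers s, u ∉ aA x y → ∃ a, (a = s ∨ a = x * s) ∧ IsConj a u :=
    fun u hu hA => by
    rcases T.invol_D h1 hu (T.sq_eq_one h1 hA) with rfl | rfl | h3 | h3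
    exacts [absurd (one_mem _) hA, absurd (pow_mem x_mem _) hA, ⟨_, .inl rfl, h3⟩, ⟨_, .inr rfl, h3⟩]
  have μw := (hμ _).1 hwD
  have μy := (hμ _).2 (T.y_nm_D h1)
  have h4 : ∀ u : P, ∃ v ∈ aA x y, Fz 2 P e v u ∧ μ v = μ u := fun u => by
    by_cases hA : u ∈ aA x y
    · exact ⟨u, hA, h.fz_refl u.2, rfl⟩
    by_cases hu : u ∈ zpowers x ⊔ zpowers s
    · obtain ⟨a, ha, h3⟩ := h3 u hu hA
      exact ⟨_, pow_mem x_mem _, h.fz_trans (h2 a ha).1 (h.fz_of_isConj h3),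
        μw.trans ((hμ _).1 hu).symm⟩
    obtain ⟨a, ha, h3⟩ := h3 (u * y) ((mul_mem_iff_of_index_two (T.index_D h1)).2
      (iff_of_false hu (T.y_nm_D h1))) (mul_nm hA y_mem)
    obtain ⟨c, hc⟩ := _root_.isConj_iff.1 h3
    have h4 : Fz 2 P e (a * y : P) u := h.fz_of_isConj (_root_.isConj_iff.2 ⟨c, by
      rw [← mul_assoc, mul_assoc _ y, ← T.y_comm, ← mul_assoc, hc, mul_assoc, T.yy, mul_one]⟩)
    rcases (h2 a ha).2 with h5 | h5
    · exact ⟨y, y_mem, h.fz_trans h5 h4, μy.trans ((hμ _).2 hu).symm⟩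
    · exact ⟨_, mul_mem (pow_mem x_mem _) y_mem, h.fz_trans h5 h4, by
        rw [map_mul, μw, μy, one_mul, (hμ _).2 hu]⟩
  have h5 : ∀ u v : P, Fz 2 P e u v → μ v = μ u := fun u v huv => by
    obtain ⟨a, ha, h5, h6⟩ := h4 u
    obtain ⟨b, hb, h7, h8⟩ := h4 v
    rw [← h6, ← h8]
    rcases (T.fz_A L hS ha hb).1 (h.fz_trans (h.fz_trans h5 huv) (h.fz_symm b.2 h7)) with rfl | rfl
    · rfl
    · rw [map_mul, map_mul, mul_right_comm, ← map_mul, mul_inv_cancel, map_one, one_mul]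
  have hl : Stab 2 P e fun u => (μ u : ℂ) := h.stab_iff.2 fun u v huv => by rw [h5 u v huv]
  have h6 : ∑ u : P, (μ u : ℂ) * (H86.wt 2 P e u * lb 2 P e u) = 0 := by
    rw [← h.sum_ci_st hl]
    refine Finset.sum_eq_zero fun χ hχ => ?_
    obtain ⟨ψ, -, hψ⟩ := h.irr_st_linear μ hl (mem_fs.1 hχ)
    rw [← hψ]
    refine H5.classInner_irr_ne ψ.2 χ.2 fun h2 => ?_
    have h6 := h.eq_of_st_eq hl (stab_const 1) (irr_cf χ.2) (by
      rw [← hψ, h2, h.st_one_of_mem (mem_fs.1 hχ)])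
      (h.cn_self_ne_zero_of_central y.2 (mem_Ce_of_comm' T.y_comm) (mem_fs.1 hχ))
    rw [μy] at h6
    norm_num at h6
  have h7 : rsA e x y = ∅ := Finset.eq_empty_of_forall_notMem fun u hu =>
    (h4 u).elim fun v hv => mem_rsA.1 hu v hv.1 hv.2.1
  have h8 := T.sum_wt L hS (F := fun u => μ u * lb 2 P e u) fun u v huv => by
    rw [h.lb_fz u.2 huv, h5 u v huv]
  have h9 := T.sum_A fun u => (μ u : ℂ)
  have h10 := sum_hom_units_eq_zero ((Units.coeHom ℂ).comp (μ.comp (aA x y).subtype)) fun h10 => by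
    have h11 : (μ y : ℂ) = 1 := DFunLike.congr_fun h10 (⟨y, y_mem⟩ : aA x y)
    rw [μy] at h11
    norm_num at h11
  simp only [mul_left_comm (H86.wt 2 P e _ : ℂ)] at h8
  rw [h6, h7, Finset.sum_empty, Finset.sum_congr rfl fun u hu => by
    rw [show lb 2 P e u = 1 from L.r1 u (hS u hu), Nat.cast_one, mul_one], coe_one, h.lb_one,
    show lb 2 P e (x ^ (2 * m) : P) = 1 from L.r1 _ hw] at h8
  rw [show ∑ u : aA x y, (μ u : ℂ) = 0 from h10] at h9
  simp only [map_mul, μw, μy, map_one] at h8 h9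
  have h11 : blockRank 2 B + 1 = lb 2 P e y + lb 2 P e (x ^ (2 * m) * y : P) := by
    refine Nat.cast_injective (R := ℂ) ?_
    push_cast at h8 h9 ⊢
    linear_combination 2⁻¹ * h9 - h8
  have h12 := T.sum_lb_le L hS hw
  rw [h7, Finset.sum_empty, add_zero] at h12
  norm_cast at h12
  omega

omit L hS in
theorem mem_S (hu : u ∈ sA x y m) : ((x ^ (2 * m) : P) : G) ∈ zpowers (u : G) :=
  coe_mem_zpowers'.2 (zpowers_le.2 (mul_mem (mem_zpowers u) (mem_zpowers u))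
    (T.w_mem (mem_sA.1 hu).1 (mem_sA.1 hu).2))

end DY

omit [Fintype P] in
/-- A block whose defect group is a central extension of a dihedral group as in `DY` has at most
three irreducible Brauer characters. -/
theorem DY.rank_le (T : DY x y s m) (h : Ctx M 2 B P e) : blockRank 2 B ≤ 3 := by
  have := Fintype.ofFinite P
  obtain ⟨x, y, s, T, hn⟩ := T.exists_nw h
  obtain ⟨δ, L⟩ := exists_gl_w h T.w_comm T.ww hn
  have hs := nm_mul (DY.x_mem (x := x) (y := y)) T.snm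
  rcases T.cj with h1 | h1
  swap
  · refine T.rank_le_of_out L (fun _ => T.mem_S) (mem_zpowers _) hs fun o ho v hv h2 => T.ynm ?_
    have h3 := fz_sq h h2
    rw [T.mul_O_sq ho, show x * s * (x * s) = y by
      rw [mul_assoc, ← mul_assoc s, ← mul_inv_cancel_left x y, ← h1, T.s_inv]] at h3
    exact T.fz_O h (T.mem_O_of_sq (mul_mem hv hv) (h3.sq_iff.2 T.yy)) DY.y_memO h3 ▸ T.sq_mem hv
  by_contra h2
  have h3 : ∀ u ∉ aA x y, ∃ b ∈ zpowers y, Fz 2 P e (x ^ (2 * m) : P) (u * b : P) ∧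
      (Fz 2 P e y (u * b * y : P) ∨ Fz 2 P e (x ^ (2 * m) * y : P) (u * b * y : P)) := fun u hu => by
    have h3 := mt (T.rank_le_of_out L (fun _ => T.mem_S) (mem_zpowers _) hu) h2
    push Not at h3
    obtain ⟨o, ho, v, hv, h3⟩ := h3
    exact T.exists_shift h h1 hu ho hv h3
  obtain ⟨b, hb, h4⟩ := h3 s T.snm
  obtain ⟨c, hc, h5⟩ := h3 _ hs
  obtain ⟨T', h6, h7, -⟩ := T.shift h1 (mul_mem hc (inv_mem hb)) hb
  rw [← h7] at L h4 h5
  refine h2 (T'.rank_le_of_fz L (fun _ => T'.mem_S) (mem_zpowers _) h6 ?_)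
  rintro u (rfl | rfl)
  · exact h4
  · rwa [show x * (c * b⁻¹) * (s * b) = x * s * c by
      rw [mul_assoc, ← T.O_comm (mem_sup_right (mul_mem hc (inv_mem hb))), mul_assoc s,
        ← T.O_comm (mem_sup_right hb), inv_mul_cancel_right, mul_assoc]]

end Cfsg.Agent.H35
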