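import Cfsg.Agent.H35.Below
import Cfsg.Agent.H88.Eig

/-! Restriction of characters to the centralizer of a Sylow subgroup of prime order. -/

set_option autoImplicit false
set_option linter.unusedSectionVars false

namespace Cfsg.Agent.H35

open Subgroup Finset Cfsg

/-- the value of a character at an involution -/
theorem exists_invol_val {G : Type*} [Group G] [Finite G] {χ : G → ℂ} (hχ : IsCharacter G χ)
    {v : G} (hv : v * v = 1) : ∃ k : ℕ, k ≤ charDegree χ ∧ χ v = charDegree χ - 2 * k ∧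
      (v ∈ commutator G → Even k) := by
  classical
  obtain ⟨lam, h⟩ := H88.exists_eigenvalues_det hχ
  obtain ⟨μ, h1, h2, h3⟩ := h v
  have h4 : ∀ i, μ i = if μ i = 1 then 1 else -1 := fun i => by
    obtain ⟨k, hk⟩ := orderOf_dvd_of_pow_eq_one ((sq v).trans hv)
    split_ifs with e
    exacts [e, (sq_eq_one_iff.mp (by rw [hk, pow_mul, h1, one_pow])).resolve_left e]
  have h5 := card_filter_add_card_filter_not (s := univ) fun i => μ i = 1
  rw [card_univ, Fintype.card_fin] at h5
  refine ⟨(univ.filter fun i => ¬ μ i = 1).card, by omega, ?_, fun hc => ?_⟩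
  · have := h2 1
    simp only [pow_one] at this
    rw [this, sum_congr rfl fun i _ => h4 i, sum_ite, ← congrArg Nat.cast h5]
    simp
    ring
  · rw [H88.monoidHom_eq_one_of_mem_commutator lam hc, prod_congr rfl fun i _ => h4 i,
      prod_ite] at h3
    simpa [neg_one_pow_eq_one_iff_even (R := ℂ) (by norm_num)] using h3

namespace Setup

variable {G : Type*} [Group G] [Finite G] {p : ℕ} [hp : Fact p.Prime] (S : Setup G p)

/-- the character of `V` on the fixed points of `x` -/
theorem exists_tau {χ : G → ℂ} (hχ : IsCharacter G χ) : ∃ τ : S.V → ℂ, IsCharacter S.V τ ∧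
    ∀ v : S.V, ∑ i, χ (S.xp i * (v : S.K)) = p * τ v := by
  classical
  choose n hn using fun θ : IrrCharacter S.V => S.exists_nat_mult (H5.isCharacter_of_isIrr θ.2) hχ 0
  refine ⟨_, H5.isCharacter_iff_exists_nat.mpr ⟨n, rfl⟩, fun v => ?_⟩
  simp only [S.apply_eq_sum_psi (H5.isClassFunction_of_isCharacter hχ), psi_eq_sum_mult,
    Finset.sum_apply, Pi.smul_apply, smul_eq_mul, mul_sum, ← hn]
  rw [sum_comm]
  refine sum_congr rfl fun θ _ => ?_
  rw [← sum_mul, sum_comm, ← mul_assoc]
  have h : ∀ c : ZMod p, ∑ i, ech p (c * i) = if c = 0 then (p : ℂ) else 0 := fun c => by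
    simpa only [mul_comm c] using sum_ech c
  simp only [← mul_sum, h]
  simp [mul_comm]

variable {S}

theorem Blk.exists_tauX (B : S.Blk fun _ => 1) {χ : IrrCharacter G} (hχ : χ ∈ B.X) :
    ∃ τ : S.V → ℂ, IsCharacter S.V τ ∧
      ∀ v : S.V, (χ : G → ℂ) (v : S.K) + (p - 1) * B.δ χ = p * τ v := by
  classical
  obtain ⟨τ, h1, h2⟩ := S.exists_tau (H5.isCharacter_of_isIrr χ.2)
  refine ⟨τ, h1, fun v => ?_⟩
  rw [← h2, ← add_sum_erase _ _ (mem_univ 0), xp_zero, one_mul,
    sum_congr rfl fun i hi => B.valX hχ (ne_of_mem_erase hi) v]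
  simp [hp.out.one_le]

/-- Stanton's lemma for a character of degree `p - 1` -/
theorem Blk.apply_eq_of_pred (B : S.Blk fun _ => 1) {χ : IrrCharacter G} (hχ : χ ∈ B.X)
    (hδ : B.δ χ = -1) (hd : charDegree (χ : G → ℂ) + 1 = p) (v : S.V) :
    (χ : G → ℂ) (v : S.K) = (χ : G → ℂ) 1 := by
  obtain ⟨τ, h1, h2⟩ := B.exists_tauX hχ
  have h3 := h2 1
  have h4 : (p : ℂ) = charDegree (χ : G → ℂ) + 1 := by exact_mod_cast hd.symm
  rw [OneMemClass.coe_one, OneMemClass.coe_one, cast_degree_irr, hδ] at h3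
  have h5 : τ 1 = 0 := (mul_eq_zero.mp (by
    push_cast at h3; linear_combination -h3 - h4)).resolve_left (natCast_prime_ne_zero (p := p))
  have h6 := h2 v
  rw [norm_le_zero_iff.mp ((H5.norm_apply_le_degree h1 v).trans (by simp [h5])), hδ] at h6
  rw [cast_degree_irr]
  push_cast at h6
  linear_combination h6 + h4

end Setup

end Cfsg.Agent.H35
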